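import Cfsg.Agent.Lib.Spor.Gold.ReeCoh
import Cfsg.Agent.Lib.Classical.SThree.Main
import Cfsg.Agent.Lib.Recog.SU3Sylow
import Cfsg.Agent.Lib.Spor.J1.Structure
import Cfsg.Agent.S0276

/-!
Sections `S₄` and `S₃` of the Goldschmidt groups.
-/

open scoped Matrix

set_option autoImplicit false
set_option linter.unusedSectionVars false
set_option linter.style.haveILetI false

open scoped Classical

namespace Cfsg.Agent.Spor.Gold.Fam

open Cfsg Cfsg.Agent.Invol

universe u v

/-! ### General criteria -/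

section General

variable {G : Type u} [Group G]

theorem exists_hom_four (h : Cfsg.Involves (Equiv.Perm (Fin 4)) G) :
    ∃ (H : Subgroup G) (f : H →* Equiv.Perm (Fin 4)), Function.Surjective f := by
  obtain ⟨K, R, hn, ⟨e⟩⟩ := h
  haveI := hn
  exact ⟨K, e.toMonoidHom.comp (QuotientGroup.mk' _), e.surjective.comp (QuotientGroup.mk'_surjective _)⟩

theorem involves_of_equiv {X : Type} [Group X] {H : Type v} [Group H] (e : G ≃* H)
    (h : Cfsg.Involves X G) : Cfsg.Involves X H := by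
  obtain ⟨K, R, hn, ⟨f⟩⟩ := h
  haveI := hn
  have h1 : IsSectionOf X G :=
    ⟨K, f.toMonoidHom.comp (QuotientGroup.mk' _), f.surjective.comp (QuotientGroup.mk'_surjective _)⟩
  exact (h1.trans (IsSectionOf.of_surjective e.symm.toMonoidHom e.symm.surjective)).involves

/-- No element of order four excludes `S₄`. -/
theorem not_four_of_twoExp [Finite G] (hG : ∀ (g : G) (k : ℕ), g ^ 2 ^ k = 1 → g * g = 1) :
    ¬ Cfsg.Involves (Equiv.Perm (Fin 4)) G := by
  intro h
  obtain ⟨H, f, hf⟩ := exists_hom_four h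
  obtain ⟨σ, hσ4, hσ2⟩ := (by decide +kernel : ∃ σ : Equiv.Perm (Fin 4), σ ^ 4 = 1 ∧ σ * σ ≠ 1)
  obtain ⟨g, rfl⟩ := hf σ
  obtain ⟨a, m, hm, ham⟩ := Nat.exists_eq_two_pow_mul_odd (orderOf_pos g).ne'
  have h1 : (g ^ m) ^ 2 ^ a = 1 := by rw [← pow_mul, mul_comm, ← ham, pow_orderOf_eq_one]
  have h2 : g ^ m * g ^ m = 1 := Subtype.ext (by
    simpa using hG ((g ^ m : H) : G) a (by rw [← SubmonoidClass.coe_pow, h1]; rfl))
  have h3 : f g ^ (2 * m) = 1 := by rw [← map_pow, two_mul, pow_add, h2, map_one]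
  obtain ⟨j, hj⟩ := hm
  rw [hj, show 2 * (2 * j + 1) = 4 * j + 2 by ring, pow_add, pow_mul, hσ4, one_pow, one_mul,
    pow_two] at h3
  exact hσ2 h3

theorem two_exp_of_four (h : ∀ g : G, g ^ 4 = 1 → g * g = 1) :
    ∀ (g : G) (k : ℕ), g ^ 2 ^ k = 1 → g * g = 1 := by
  intro g k
  induction k generalizing g with
  | zero => intro hg; simp at hg; simp [hg]
  | succ k ih =>
    intro hg
    rw [pow_succ', pow_mul] at hg
    refine h g ?_
    have := ih (g ^ 2) hg
    rw [← pow_two, ← pow_mul] at this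
    exact this

/-- Commutators that are 2-elements exclude `S₄`. -/
theorem not_surj_of_commutator {H : Type u} [Group H] (hc : ∀ a b : H, (a * b * a⁻¹ * b⁻¹) ^ 4 = 1)
    (f : H →* Equiv.Perm (Fin 4)) : ¬ Function.Surjective f := by
  intro hf
  obtain ⟨σ, τ, hne⟩ := (by decide +kernel :
    ∃ σ τ : Equiv.Perm (Fin 4), (σ * τ * σ⁻¹ * τ⁻¹) ^ 4 ≠ 1)
  obtain ⟨a, rfl⟩ := hf σ
  obtain ⟨b, rfl⟩ := hf τ
  exact hne (by rw [← map_inv, ← map_inv, ← map_mul, ← map_mul, ← map_mul, ← map_pow, hc, map_one])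

theorem hasInvertedThree_of_involves [Finite G] (h : Cfsg.Involves (Equiv.Perm (Fin 3)) G) :
    HasInvertedThree G := by
  obtain ⟨K, R, hn, ⟨e⟩⟩ := h
  haveI := hn
  have h3 : HasInvertedThree (Equiv.Perm (Fin 3)) :=
    ⟨Equiv.swap 0 1, Equiv.swap 0 1 * Equiv.swap 1 2, ⟨1, by decide +kernel⟩, by decide +kernel, by decide +kernel, by decide +kernel⟩
  exact HasInvertedThree.of_subgroup (Block.SFour.hasInvertedThree_of_map
    (e.toMonoidHom.comp (QuotientGroup.mk' _)) (e.surjective.comp (QuotientGroup.mk'_surjective _)) h3)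

theorem involves_of_hasInvertedThree [Finite G] (h : HasInvertedThree G) :
    Cfsg.Involves (Equiv.Perm (Fin 3)) G := by
  obtain ⟨t, r, ⟨k, hk⟩, h3, h1, hi⟩ := h
  exact Classical.SThree.involves_perm_three hk h3 h1 hi

theorem hasInvertedThree_of_quotient {H : Type u} [Group H] (N : Subgroup H) [N.Normal]
    (hN : N ≤ Subgroup.center H) {t r : H} {k : ℕ} (ht : t ^ 2 ^ k = 1) (hr : r ^ 3 = 1) (hr1 : r ≠ 1)
    (hi : t * r * t⁻¹ = r⁻¹) : HasInvertedThree (H ⧸ N) := by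
  refine ⟨t, r, ⟨k, ?_⟩, ?_, fun e => hr1 ?_, ?_⟩
  · rw [← QuotientGroup.mk_pow, ht, QuotientGroup.mk_one]
  · rw [← QuotientGroup.mk_pow, hr, QuotientGroup.mk_one]
  · have hc := Subgroup.mem_center_iff.1 (hN ((QuotientGroup.eq_one_iff r).1 e)) t
    rw [hc, mul_inv_cancel_right] at hi
    have : r * r = 1 := by
      conv_lhs => arg 2; rw [hi]
      exact mul_inv_cancel r
    rwa [pow_succ, pow_two, this, one_mul] at hr
  · rw [← QuotientGroup.mk_inv, ← QuotientGroup.mk_mul, ← QuotientGroup.mk_mul, hi]; rfl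

end General

/-! ### `PSL₂` -/

section PSL

variable {F : Type} [Field F] [Fintype F]

local notation "SL₂" => Matrix.SpecialLinearGroup (Fin 2) F
local notation "PSL₂" => Matrix.ProjectiveSpecialLinearGroup (Fin 2) F

theorem exists_form (h3 : (3 : F) ≠ 0) : ∃ a c : F, a ^ 2 - a * c + c ^ 2 + 1 = 0 := by
  by_cases h2 : (2 : F) = 0
  · exact ⟨1, 0, by linear_combination h2⟩
  · have hodd : Fintype.card F % 2 = 1 :=
      FiniteField.odd_card_of_char_ne_two fun e => h2 (by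
        haveI := ringChar.charP F
        rw [e] at *
        exact_mod_cast CharP.cast_eq_zero F 2)
    have h34 : (3 / 4 : F) ≠ 0 :=
      div_ne_zero h3 (by rw [show (4 : F) = 2 * 2 by norm_num]; exact mul_ne_zero h2 h2)
    obtain ⟨x, c, h⟩ := FiniteField.exists_root_sum_quadratic
      (f := Polynomial.X ^ 2 + Polynomial.C 1) (g := Polynomial.C (3 / 4 : F) * Polynomial.X ^ 2)
      (Polynomial.degree_X_pow_add_C two_pos _) (Polynomial.degree_C_mul_X_pow 2 h34) hodd
    simp only [Polynomial.eval_add, Polynomial.eval_pow, Polynomial.eval_X, Polynomial.eval_C,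
      Polynomial.eval_mul] at h
    refine ⟨x + c / 2, c, ?_⟩
    have h4 : (4 : F) ≠ 0 := by
      rw [show (4 : F) = 2 * 2 by norm_num]; exact mul_ne_zero h2 h2
    field_simp at h ⊢
    linear_combination h

theorem inverted_psl (h3 : (3 : F) ≠ 0) : HasInvertedThree PSL₂ := by
  obtain ⟨a, c, hac⟩ := exists_form h3
  let t : SL₂ := ⟨!![a, c - a; c, -a], by rw [Matrix.det_fin_two_of]; linear_combination -hac⟩
  let r : SL₂ := ⟨!![0, -1; 1, -1], by rw [Matrix.det_fin_two_of]; ring⟩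
  refine hasInvertedThree_of_quotient (Subgroup.center SL₂) le_rfl (t := t) (r := r) (k := 2) ?_ ?_ ?_ ?_
  · refine Subtype.ext ?_
    rw [Matrix.SpecialLinearGroup.coe_pow, show (2 : ℕ) ^ 2 = 2 * 2 by norm_num, pow_mul,
      show (t : Matrix (Fin 2) (Fin 2) F) ^ 2 = -1 by
        rw [pow_two]
        ext i j
        fin_cases i <;> fin_cases j <;> simp [t, Matrix.mul_apply, Fin.sum_univ_two] <;>
          first | linear_combination hac | linear_combination -hac | ring]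
    simp
  · refine Subtype.ext ?_
    rw [Matrix.SpecialLinearGroup.coe_pow]
    ext i j
    fin_cases i <;> fin_cases j <;> simp [r, pow_succ, Matrix.mul_apply, Fin.sum_univ_two]
  · intro e
    have := congrArg (fun A : SL₂ => (A : Matrix (Fin 2) (Fin 2) F) 1 0) e
    simp [r] at this
  · rw [mul_inv_eq_iff_eq_mul]
    refine Subtype.ext ?_
    rw [Matrix.SpecialLinearGroup.coe_mul, Matrix.SpecialLinearGroup.coe_mul,
      Matrix.SpecialLinearGroup.coe_inv]
    ext i j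
    fin_cases i <;> fin_cases j <;>
      simp [t, r, Matrix.mul_apply, Fin.sum_univ_two, Matrix.adjugate_fin_two] <;> ring

theorem not_four_psl_even {n : ℕ} (hF : Fintype.card F = 2 ^ n) :
    ¬ Cfsg.Involves (Equiv.Perm (Fin 4)) PSL₂ := by
  haveI : Fact (Nat.Prime 2) := ⟨Nat.prime_two⟩
  haveI : CharP F 2 := charP_of_card_eq_prime_pow hF
  have hcen : ∀ z ∈ Subgroup.center SL₂, z = 1 := by
    intro z hz
    obtain ⟨r, hr, he⟩ := Matrix.SpecialLinearGroup.mem_center_iff.1 hz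
    rw [Fintype.card_fin] at hr
    have hr0 : (r - 1) * (r - 1) = 0 := by
      have h2 : (2 : F) = 0 := CharTwo.two_eq_zero
      linear_combination hr + (1 - r) * h2
    have hr1 : r = 1 := sub_eq_zero.1 (mul_self_eq_zero.1 hr0)
    exact Subtype.ext (by rw [← he, hr1, map_one]; rfl)
  refine not_four_of_twoExp (two_exp_of_four fun g => ?_)
  induction g using QuotientGroup.induction_on with
  | _ g =>
    intro hg
    rw [← QuotientGroup.mk_pow, QuotientGroup.eq_one_iff] at hg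
    rw [← QuotientGroup.mk_mul, QuotientGroup.eq_one_iff]
    have h4 : g ^ 4 = 1 := hcen _ hg
    set M := (g : Matrix (Fin 2) (Fin 2) F) with hM
    have hdet : M 0 0 * M 1 1 - M 0 1 * M 1 0 = 1 := by rw [← Matrix.det_fin_two]; exact g.2
    have h2 : (2 : F) = 0 := CharTwo.two_eq_zero
    set τ := M 0 0 + M 1 1
    have hM2 : M * M = τ • M + 1 := by
      ext i j
      fin_cases i <;> fin_cases j <;> simp [Matrix.mul_apply, Fin.sum_univ_two, τ] <;>
        first | linear_combination -hdet - h2 | linear_combination hdet - h2 | ring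
    have h4' : (M * M) * (M * M) = 1 := by
      have e := congrArg Subtype.val h4
      rw [Matrix.SpecialLinearGroup.coe_pow, ← hM, show (4 : ℕ) = 2 + 2 by norm_num, pow_add, pow_two] at e
      exact e
    have hexp : (M * M) * (M * M) = (τ * τ) • (M * M) + 1 := by
      conv_lhs => rw [hM2]
      ext i j
      simp only [add_mul, mul_add, Matrix.smul_mul, Matrix.mul_smul, smul_smul, one_mul, mul_one,
        Matrix.add_apply, Matrix.smul_apply, smul_eq_mul]
      linear_combination (τ * M i j) * h2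
    have hτ : τ * τ = 0 := by
      have e : (τ * τ) • (M * M) = 0 := by
        rw [← add_left_inj (1 : Matrix (Fin 2) (Fin 2) F), ← hexp, h4', zero_add]
      have e' := congrArg (fun A => A * (M * M)) e
      simp only [Matrix.smul_mul, h4', zero_mul] at e'
      simpa using congrFun (congrFun e' 0) 0
    refine Subgroup.mem_center_iff.2 fun x => ?_
    have : g * g = 1 := Subtype.ext (by
      rw [Matrix.SpecialLinearGroup.coe_mul, ← hM, hM2, mul_self_eq_zero.1 hτ, zero_smul, zero_add]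
      rfl)
    rw [this, one_mul, mul_one]

theorem not_four_psl_odd (hq : Fintype.card F % 8 = 3 ∨ Fintype.card F % 8 = 5) :
    ¬ Cfsg.Involves (Equiv.Perm (Fin 4)) PSL₂ := by
  haveI : Fact (Nat.Prime 2) := ⟨Nat.prime_two⟩
  refine not_four_of_twoExp fun g k hg => ?_
  have hp : IsPGroup 2 (Subgroup.zpowers g) := fun x => by
    obtain ⟨i, hi⟩ := Subgroup.mem_zpowers_iff.1 x.2
    exact ⟨k, Subtype.ext (by
      rw [SubmonoidClass.coe_pow, ← hi, ← zpow_natCast, ← zpow_mul, mul_comm, zpow_mul, zpow_natCast,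
        hg, one_zpow]; rfl)⟩
  obtain ⟨Q, hQ⟩ := hp.exists_le_sylow
  haveI := Cfsg.Agent.S0276.result (F := F) rfl hq Q
  have h := IsKleinFour.exponent_two (G := (Q : Subgroup PSL₂))
  have h2 := Monoid.pow_exponent_eq_one (⟨g, hQ (Subgroup.mem_zpowers g)⟩ : (Q : Subgroup PSL₂))
  rw [h, pow_two] at h2
  exact congrArg Subtype.val h2

open Cfsg.Agent.Dickson Cfsg.Agent.Grp.SL2 Cfsg.Agent.PSL2Spec in
theorem noThree_psl {n : ℕ} (hF : Fintype.card F = 3 ^ (2 * n + 1)) : ¬ HasInvertedThree PSL₂ := by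
  haveI : Fact (Nat.Prime 3) := ⟨Nat.prime_three⟩
  haveI : CharP F 3 := charP_of_card_eq_prime_pow hF
  have hodd : Odd (Fintype.card F) := by rw [hF]; exact (by decide +kernel : Odd 3).pow
  have hdel : del F = 2 := by
    rcases del_cases F with ⟨-, he⟩ | ⟨hd, -⟩
    · exact absurd he (Nat.not_even_iff_odd.mpr hodd)
    · exact hd
  rintro ⟨t, r, ⟨k, hk⟩, hr3, hr1, hinv⟩
  have h1 := card_borel 3 hr1 hr3
  rw [hdel] at h1
  set N := Subgroup.normalizer (tor r : Set PSL₂) with hN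
  have htN : t ∈ N := by
    refine ((pslData (F := F) 3).mem_normalizer_iff hr1).2 ?_
    rw [hinv]
    exact inv_mem ((pslData (F := F) 3).self r)
  have h8 : Fintype.card F % 4 = 3 := by
    rw [hF, pow_succ, pow_mul, Nat.mul_mod, Nat.pow_mod]; norm_num
  have hNodd : Odd (Nat.card N) := by
    obtain ⟨c, hc⟩ : ∃ c, Fintype.card F = 4 * c + 3 := ⟨Fintype.card F / 4, by omega⟩
    refine ⟨(4 * c + 3) * c + (2 * c + 1), Nat.eq_of_mul_eq_mul_right two_pos (h1.trans ?_)⟩
    rw [hc, show 4 * c + 3 - 1 = 4 * c + 2 by omega]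
    ring
  have ht1 : t = 1 := by
    have hc : t ^ Nat.card N = 1 :=
      orderOf_dvd_iff_pow_eq_one.1 (Subgroup.orderOf_dvd_natCard N htN)
    have h := pow_gcd_eq_one.2 ⟨hk, hc⟩
    rwa [((Nat.coprime_two_left.2 hNodd).pow_left k).gcd_eq_one, pow_one] at h
  rw [ht1, one_mul, inv_one, mul_one] at hinv
  have : r * r = 1 := by
    conv_lhs => arg 2; rw [hinv]
    exact mul_inv_cancel r
  rw [pow_succ, pow_two, this, one_mul] at hr3
  exact hr1 hr3

end PSL

/-! ### Suzuki groups -/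

theorem card_suzuki {G : Type u} [Group G] (h : Cfsg.Lie.IsoSuzuki G) : ¬ 3 ∣ Nat.card G := by
  obtain ⟨F, i1, i2, m, hm, hF, ⟨e⟩⟩ := h
  have hS : Suz.SzField F m := ⟨hm, hF⟩
  rw [Nat.card_congr (e.trans (Suz.szEquiv hS).symm).toEquiv, Suz.card_Sz hS]
  have hq : 2 ^ (2 * m + 1) % 3 = 2 := by
    rw [pow_succ, pow_mul, Nat.mul_mod, Nat.pow_mod]; norm_num
  generalize 2 ^ (2 * m + 1) = q at hq
  intro h3
  rcases Nat.prime_three.dvd_mul.1 h3 with h3 | h3
  · rcases Nat.prime_three.dvd_mul.1 h3 with h3 | h3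
    · have := Nat.prime_three.dvd_of_dvd_pow h3; omega
    · have e : q ^ 2 % 3 = 1 := by rw [Nat.pow_mod, hq]
      omega
  · omega

theorem not_four_of_card {G : Type u} [Group G] [Finite G] (h : ¬ 3 ∣ Nat.card G) :
    ¬ Cfsg.Involves (Equiv.Perm (Fin 4)) G := by
  intro hI
  obtain ⟨H, f, hf⟩ := exists_hom_four hI
  refine h (dvd_trans ⟨8, ?_⟩ ((Subgroup.card_dvd_of_surjective f hf).trans
    (Subgroup.card_subgroup_dvd_card H)))
  rw [Nat.card_perm, Nat.card_fin]
  rfl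

theorem noThree_of_card {G : Type u} [Group G] [Finite G] (h : ¬ 3 ∣ Nat.card G) :
    ¬ HasInvertedThree G := by
  rintro ⟨t, r, -, h3, h1, -⟩
  exact h (orderOf_eq_prime h3 h1 ▸ orderOf_dvd_natCard r)

/-! ### The first Janko group -/

theorem four_J1 : ¬ Cfsg.Involves (Equiv.Perm (Fin 4)) Cfsg.Spor.J1 := by
  haveI : Finite Cfsg.Spor.J1 := Nat.finite_of_card_ne_zero (by rw [J1Cert.card_J1]; norm_num)
  refine not_four_of_twoExp fun g k hg => ?_
  have hmem : orderOf g ∈ Set.range (orderOf : Cfsg.Spor.J1 → ℕ) := ⟨g, rfl⟩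
  rw [J1Cert.range_orderOf] at hmem
  obtain ⟨i, -, hi⟩ := (Nat.dvd_prime_pow Nat.prime_two).1 (orderOf_dvd_of_pow_eq_one hg)
  have hd : orderOf g ∣ 2 := by
    rcases i with _ | _ | i
    · rw [hi]; norm_num
    · rw [hi]; norm_num
    · have h4 : 4 ∣ orderOf g := by rw [hi]; exact ⟨2 ^ i, by ring⟩
      exfalso
      simp only [Set.mem_insert_iff, Set.mem_singleton_iff] at hmem
      omega
  rw [← pow_two]
  exact orderOf_dvd_iff_pow_eq_one.1 hd

theorem inverted_J1 : HasInvertedThree Cfsg.Spor.J1 := by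
  obtain ⟨e⟩ := J1Cert.centralizer_equiv
  have h : HasInvertedThree J1Cert.Z2A5 :=
    ⟨(1, ⟨Equiv.swap 1 2 * Equiv.swap 3 4, by simp [Equiv.Perm.mem_alternatingGroup]⟩),
      (1, ⟨Equiv.swap 0 1 * Equiv.swap 1 2, by simp [Equiv.Perm.mem_alternatingGroup]⟩),
      ⟨1, by decide +kernel⟩, by decide +kernel, by decide +kernel, by decide +kernel⟩
  obtain ⟨t, r, ⟨k, hk⟩, h3, h1, hi⟩ := h
  exact HasInvertedThree.of_subgroup (J := Subgroup.centralizer ({J1Cert.tJ} : Set Cfsg.Spor.J1))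
    ⟨e.symm t, e.symm r, ⟨k, by rw [← map_pow, hk, map_one]⟩, by rw [← map_pow, h3, map_one],
      fun e' => h1 (e.symm.injective (e'.trans (map_one _).symm)),
      by rw [← map_inv, ← map_mul, ← map_mul, hi, map_inv]⟩

/-! ### `PSU₃` in characteristic two -/

section PSU

open Cfsg.Agent.Recog.SU3Two Cfsg.Agent.Classical

variable {F : Type} [Field F] [Fintype F] {n : ℕ}

theorem su_one {q : ℕ} : suVal (1 : SU 3 F q) = 1 := rfl

/-- The matrix of a permutation of the three coordinates. -/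
theorem inverted_psu (hF : Fintype.card F = (2 ^ n) ^ 2) :
    HasInvertedThree (PSU 3 F (2 ^ n)) := by
  haveI : CharP F 2 := charP_two (m := n * 2) (by rw [hF, ← pow_mul])
  have h2 : (2 : F) = 0 := CharTwo.two_eq_zero
  let T : Matrix (Fin 3) (Fin 3) F := !![0, 1, 0; 1, 0, 0; 0, 0, 1]
  let R : Matrix (Fin 3) (Fin 3) F := !![0, 1, 0; 0, 0, 1; 1, 0, 0]
  have hT : T.det = 1 := by
    simp [T, Matrix.det_fin_three, CharTwo.neg_eq]
  have hTu : Tᵀ * T.map (qFrob hF) = 1 := by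
    ext i j
    fin_cases i <;> fin_cases j <;> simp [T, Matrix.mul_apply, Fin.sum_univ_three]
  have hR : R.det = 1 := by simp [R, Matrix.det_fin_three]
  have hRu : Rᵀ * R.map (qFrob hF) = 1 := by
    ext i j
    fin_cases i <;> fin_cases j <;> simp [R, Matrix.mul_apply, Fin.sum_univ_three]
  refine hasInvertedThree_of_quotient (Subgroup.center _) le_rfl (t := suMk hF T hT hTu)
    (r := suMk hF R hR hRu) (k := 1) ?_ ?_ ?_ ?_
  · rw [pow_one, pow_two]
    refine suVal_ext ?_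
    rw [suVal_mul, suVal_suMk]
    ext i j
    fin_cases i <;> fin_cases j <;> simp [T, Matrix.mul_apply, Fin.sum_univ_three, su_one]
  · rw [pow_succ, pow_two]
    refine suVal_ext ?_
    rw [suVal_mul, suVal_mul, suVal_suMk]
    ext i j
    fin_cases i <;> fin_cases j <;> simp [R, Matrix.mul_apply, Fin.sum_univ_three, su_one]
  · intro e
    have := congrArg (fun A => suVal A 0 0) e
    simp [suVal_suMk, R, su_one] at this
  · rw [eq_comm, inv_eq_iff_mul_eq_one]
    refine suVal_ext ?_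
    have hti : (suMk hF T hT hTu)⁻¹ = suMk hF T hT hTu := inv_eq_of_mul_eq_one_right (suVal_ext (by
      rw [suVal_mul, suVal_suMk]
      ext i j
      fin_cases i <;> fin_cases j <;> simp [T, Matrix.mul_apply, Fin.sum_univ_three, su_one]))
    rw [hti, suVal_mul, suVal_mul, suVal_mul, suVal_suMk, suVal_suMk]
    ext i j
    fin_cases i <;> fin_cases j <;> simp [R, T, Matrix.mul_apply, Fin.sum_univ_three, su_one]

theorem not_four_su (hn : 1 ≤ n) (hF : Fintype.card F = (2 ^ n) ^ 2) :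
    ¬ Cfsg.Involves (Equiv.Perm (Fin 4)) (SU 3 F (2 ^ n)) := by
  haveI : Fact (Nat.Prime 2) := ⟨Nat.prime_two⟩
  haveI hFact : Fact (Fintype.card F = (2 ^ n) ^ 2) := ⟨hF⟩
  haveI : CharP F 2 := charP_two (m := n * 2) (by rw [hF, ← pow_mul])
  intro hI
  obtain ⟨H, f, hf⟩ := exists_hom_four hI
  obtain ⟨x, hx⟩ := exists_trq_one (F := F) (q := 2 ^ n)
  -- the model is a Sylow subgroup
  obtain ⟨S₀⟩ : Nonempty (Sylow 2 (SU 3 F (2 ^ n))) := inferInstance
  obtain ⟨e₀⟩ := sylow_su (F := F) (q := 2 ^ n) rfl hn S₀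
  set R := (embed (F := F) (q := 2 ^ n) hx).range with hR
  have hRc : Nat.card R = Nat.card (S₀ : Subgroup (SU 3 F (2 ^ n))) := by
    rw [← Nat.card_congr e₀.toEquiv, ← Nat.card_congr (MonoidHom.ofInjective (embed_injective hx)).toEquiv]
  have hRp : IsPGroup 2 R := by
    obtain ⟨k, hk⟩ := IsPGroup.iff_card.1 S₀.2
    exact IsPGroup.of_card (n := k) (by rw [hRc, hk])
  obtain ⟨SR, hSR⟩ := hRp.exists_le_sylow
  have hRe : R = (SR : Subgroup (SU 3 F (2 ^ n))) := Subgroup.eq_of_le_of_card_ge hSR (by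
    rw [hRc, Sylow.card_eq_multiplicity, Sylow.card_eq_multiplicity])
  -- a normalised 2-subgroup above the four group
  let V : Subgroup (Equiv.Perm (Fin 4)) :=
    { carrier := {σ | σ = 1 ∨ (σ * σ = 1 ∧ ∀ i, σ i ≠ i)}
      one_mem' := Or.inl rfl
      mul_mem' := fun {a b} => (by decide +kernel : ∀ a b : Equiv.Perm (Fin 4),
        (a = 1 ∨ (a * a = 1 ∧ ∀ i, a i ≠ i)) → (b = 1 ∨ (b * b = 1 ∧ ∀ i, b i ≠ i)) →
        (a * b = 1 ∨ (a * b * (a * b) = 1 ∧ ∀ i, (a * b) i ≠ i))) a b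
      inv_mem' := fun {a} => (by decide +kernel : ∀ a : Equiv.Perm (Fin 4),
        (a = 1 ∨ (a * a = 1 ∧ ∀ i, a i ≠ i)) → (a⁻¹ = 1 ∨ (a⁻¹ * a⁻¹ = 1 ∧ ∀ i, a⁻¹ i ≠ i))) a }
  haveI : V.Normal := ⟨fun a ha g => (by decide +kernel : ∀ a g : Equiv.Perm (Fin 4),
    (a = 1 ∨ (a * a = 1 ∧ ∀ i, a i ≠ i)) →
      (g * a * g⁻¹ = 1 ∨ (g * a * g⁻¹ * (g * a * g⁻¹) = 1 ∧ ∀ i, (g * a * g⁻¹) i ≠ i))) a g ha⟩
  have hV2 : IsPGroup 2 V := fun a => ⟨1, Subtype.ext (by
    rcases a.2 with h | h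
    · simp [h]
    · simpa [pow_two] using h.1)⟩
  obtain ⟨σ₀, hσV, hσ1⟩ : ∃ σ : Equiv.Perm (Fin 4), σ ∈ V ∧ σ ≠ 1 :=
    ⟨Equiv.swap 0 1 * Equiv.swap 2 3, Or.inr (by decide +kernel), by decide +kernel⟩
  set W := V.comap f with hW
  haveI : W.Normal := inferInstance
  obtain ⟨Q⟩ : Nonempty (Sylow 2 W) := inferInstance
  set N := Subgroup.normalizer (((Q : Subgroup W).map W.subtype : Subgroup H) : Set H) with hN
  have hNW : N ⊔ W = ⊤ := Sylow.normalizer_sup_eq_top Q
  -- the Sylow subgroup maps onto the four group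
  let fW : W →* V := (f.comp W.subtype).codRestrict V fun w => w.2
  have hfW : Function.Surjective fW := fun v => by
    obtain ⟨h, hh⟩ := hf v
    exact ⟨⟨h, show f h ∈ V by rw [hh]; exact v.2⟩, Subtype.ext hh⟩
  have hQV : (Q : Subgroup W).map fW = ⊤ := by
    exact ((Q.mapSurjective hfW).is_maximal' (hV2.to_subgroup ⊤) le_top).symm
  have hfN : ∀ σ, ∃ y ∈ N, f y = σ := fun σ => by
    obtain ⟨h, rfl⟩ := hf σ
    obtain ⟨y, hy, w, hw, rfl⟩ := Subgroup.mem_sup_of_normal_right.1 (hNW ▸ Subgroup.mem_top h : h ∈ N ⊔ W)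
    obtain ⟨p, hp, hpe⟩ : (⟨f w, hw⟩ : V) ∈ (Q : Subgroup W).map fW := hQV ▸ Subgroup.mem_top _
    exact ⟨y * (p : H), mul_mem hy (Subgroup.le_normalizer (Subgroup.mem_map_of_mem W.subtype hp)),
      by rw [map_mul, map_mul, show f (p : H) = f w from congrArg Subtype.val hpe]⟩
  -- an involution of the Sylow subgroup
  set P : Subgroup (SU 3 F (2 ^ n)) := ((Q : Subgroup W).map W.subtype).map H.subtype with hP
  have hP2 : IsPGroup 2 P := (Q.2.map _).map _
  obtain ⟨z, hz, hz1, hzz⟩ : ∃ z ∈ P, z ≠ 1 ∧ z * z = 1 := by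
    obtain ⟨p, hp, hpe⟩ : (⟨σ₀, hσV⟩ : V) ∈ (Q : Subgroup W).map fW := hQV ▸ Subgroup.mem_top _
    have hpP : ((p : H) : SU 3 F (2 ^ n)) ∈ P :=
      Subgroup.mem_map_of_mem H.subtype (Subgroup.mem_map_of_mem W.subtype hp)
    have hne : ((p : H) : SU 3 F (2 ^ n)) ≠ 1 := fun e => hσ1 (by
      have : f (p : H) = σ₀ := congrArg Subtype.val hpe
      rw [← this, show (p : H) = 1 from Subtype.ext e, map_one])
    obtain ⟨k, hk⟩ := hP2 ⟨_, hpP⟩
    have hk' : ((p : H) : SU 3 F (2 ^ n)) ^ 2 ^ k = 1 := congrArg Subtype.val hk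
    clear hk
    generalize ((p : H) : SU 3 F (2 ^ n)) = z at hne hk' hpP
    induction k generalizing z with
    | zero => exact absurd (by simpa using hk') hne
    | succ k ih =>
      by_cases h : z * z = 1
      · exact ⟨z, hpP, hne, h⟩
      · refine ih (z * z) h ?_ (mul_mem hpP hpP)
        rw [← pow_two, ← pow_mul, ← pow_succ', hk']
  obtain ⟨S, hS⟩ := hP2.exists_le_sylow
  obtain ⟨c, hc⟩ := MulAction.exists_smul_eq (SU 3 F (2 ^ n)) S SR
  have hmemR : ∀ a ∈ P, ∃ v, c * a * c⁻¹ = embed hx v := fun a ha => by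
    have h1 : c * a * c⁻¹ ∈ R := by
      rw [hRe, ← hc, Sylow.coe_subgroup_smul, Subgroup.mem_pointwise_smul_iff_inv_smul_mem]
      simpa [MulAut.conj_apply, mul_assoc] using hS ha
    obtain ⟨v, hv⟩ := h1
    exact ⟨v, hv.symm⟩
  have hinvol : ∀ a ∈ P, a * a = 1 → ∃ v, c * a * c⁻¹ = embed hx v ∧ v.a = 0 := fun a ha haa => by
    obtain ⟨v, hv⟩ := hmemR a ha
    refine ⟨v, hv, ?_⟩
    have h2 : embed hx (v * v) = 1 := by
      rw [map_mul, ← hv, show c * a * c⁻¹ * (c * a * c⁻¹) = c * (a * a) * c⁻¹ by group, haa]; group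
    have h3 : v * v = 1 := embed_injective hx (h2.trans (map_one _).symm)
    have hb := congrArg UT.b h3
    rw [UT.mul_b, UT.one_b, CharTwo.add_self_eq_zero, zero_add] at hb
    rcases mul_eq_zero.1 hb with h | h
    · exact pow_eq_zero_iff (pow_ne_zero n two_ne_zero) |>.1 h
    · exact h
  -- triangularity
  let Tr : H → Matrix (Fin 3) (Fin 3) F := fun h =>
    chgInv x (2 ^ n) * suVal (c * (h : SU 3 F (2 ^ n)) * c⁻¹) * chg x
  have hTmul : ∀ a b, Tr (a * b) = Tr a * Tr b := fun a b => by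
    simp only [Tr, Subgroup.coe_mul]
    rw [show c * ((a : SU 3 F (2 ^ n)) * b) * c⁻¹ = (c * a * c⁻¹) * (c * b * c⁻¹) by group, suVal_mul]
    simp only [Matrix.mul_assoc]
    rw [← Matrix.mul_assoc (chg x) (chgInv x (2 ^ n)), chg_mul hx, Matrix.one_mul]
  have hT1 : Tr 1 = 1 := by
    simp only [Tr, Subgroup.coe_one, mul_one, mul_inv_cancel, su_one]
    exact chgInv_mul hx
  have htri : ∀ h ∈ N, Tr h 1 0 = 0 ∧ Tr h 2 0 = 0 ∧ Tr h 2 1 = 0 := by
    intro h hh
    set z' := (h : SU 3 F (2 ^ n)) * z * (h : SU 3 F (2 ^ n))⁻¹ with hz'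
    have hz'P : z' ∈ P := by
      obtain ⟨w, hw, rfl⟩ := hz
      exact ⟨h * w * h⁻¹, (Subgroup.mem_normalizer_iff.1 hh w).1 hw, rfl⟩
    obtain ⟨v, hv, hva⟩ := hinvol z hz hzz
    obtain ⟨v', hv', hva'⟩ := hinvol z' hz'P (by
      rw [hz', show (h : SU 3 F (2 ^ n)) * z * (h : SU 3 F (2 ^ n))⁻¹ * (h * z * (h : SU 3 F (2 ^ n))⁻¹) =
        h * (z * z) * (h : SU 3 F (2 ^ n))⁻¹ by group, hzz]; group)
    have hrel : Tr h * umat v = umat v' * Tr h := by
      have e : (c * h * c⁻¹) * embed hx v = embed hx v' * (c * h * c⁻¹) := by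
        rw [← hv, ← hv', hz']; group
      show chgInv x (2 ^ n) * suVal (c * (h : SU 3 F (2 ^ n)) * c⁻¹) * chg x * umat v =
        umat v' * (chgInv x (2 ^ n) * suVal (c * (h : SU 3 F (2 ^ n)) * c⁻¹) * chg x)
      generalize c * (h : SU 3 F (2 ^ n)) * c⁻¹ = M at e ⊢
      have e' := congrArg suVal e
      rw [suVal_mul, suVal_mul,
        show suVal (embed hx v) = chg x * umat v * chgInv x (2 ^ n) from rfl,
        show suVal (embed hx v') = chg x * umat v' * chgInv x (2 ^ n) from rfl] at e'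
      have e'' := congrArg (fun A => chgInv x (2 ^ n) * A * chg x) e'
      simp only [Matrix.mul_assoc] at e'' ⊢
      rwa [chgInv_mul hx, Matrix.mul_one, ← Matrix.mul_assoc (chgInv x (2 ^ n)) (chg x) (umat v' * _),
        chgInv_mul hx, Matrix.one_mul] at e''
    have hb : v.b ≠ 0 := fun hb0 => hz1 (conj_eq_one_iff.1 (hv.trans (by
      rw [show v = 1 from UT.ext (hva.trans UT.one_a.symm) (hb0.trans UT.one_b.symm), map_one])))
    have hb' : v'.b ≠ 0 := fun hb0 => hz1 (by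
      have h1 : z' = 1 := conj_eq_one_iff.1 (hv'.trans (by
        rw [show v' = 1 from UT.ext (hva'.trans UT.one_a.symm) (hb0.trans UT.one_b.symm), map_one]))
      exact conj_eq_one_iff.1 h1)
    have hq0 : (0 : F) ^ 2 ^ n = 0 := zero_pow (pow_ne_zero n two_ne_zero)
    have g1 := congrFun (congrFun hrel 1) 2
    have g2 := congrFun (congrFun hrel 2) 2
    have g3 := congrFun (congrFun hrel 0) 1
    simp [umat, Matrix.mul_apply, Fin.sum_univ_three, hva, hva', hq0, hb, hb'] at g1 g2 g3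
    exact ⟨g1, g2, g3⟩
  -- commutators are unipotent
  refine not_surj_of_commutator (H := N) (fun a b => ?_) (f.comp N.subtype) fun σ => ?_
  swap
  · obtain ⟨y, hy, rfl⟩ := hfN σ
    exact ⟨⟨y, hy⟩, rfl⟩
  let d : N →* F × F × F :=
    { toFun := fun h => (Tr h 0 0, Tr h 1 1, Tr h 2 2)
      map_one' := by simp [hT1]
      map_mul' := fun a b => by
        obtain ⟨a1, a2, a3⟩ := htri a a.2
        obtain ⟨b1, b2, b3⟩ := htri b b.2
        rw [Subgroup.coe_mul, hTmul]
        simp [Matrix.mul_apply, Fin.sum_univ_three, a1, a2, a3, b1, b2, b3] }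
  set y := a * b * a⁻¹ * b⁻¹ with hy
  have hd : d y = 1 := by
    have hu : ∀ g : N, d g * d g⁻¹ = 1 := fun g => by rw [← map_mul, mul_inv_cancel, map_one]
    rw [hy, map_mul, map_mul, map_mul,
      show d a * d b * d a⁻¹ * d b⁻¹ = (d a * d a⁻¹) * (d b * d b⁻¹) by ac_rfl, hu, hu, one_mul]
  obtain ⟨y1, y2, y3⟩ := htri y y.2
  have d0 : Tr y 0 0 = 1 := congrArg Prod.fst hd
  have d1 : Tr y 1 1 = 1 := congrArg (fun p => p.2.1) hd
  have d2 : Tr y 2 2 = 1 := congrArg (fun p => p.2.2) hd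
  have h2 : (2 : F) = 0 := CharTwo.two_eq_zero
  have hpow : Tr ((y : H) * y * (y * y)) = 1 := by
    rw [hTmul, hTmul]
    ext i j
    fin_cases i <;> fin_cases j <;>
      simp [Matrix.mul_apply, Fin.sum_univ_three, y1, y2, y3, d0, d1, d2] <;>
      ring_nf <;> simp [show (4 : F) = 0 by linear_combination 2 * h2,
        show (6 : F) = 0 by linear_combination 3 * h2]
  refine Subtype.ext (Subtype.ext ?_)
  have e := congrArg (fun A => chg x * A * chgInv x (2 ^ n)) hpow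
  simp only [Tr, Matrix.mul_one, chg_mul hx] at e
  rw [← Matrix.mul_assoc, ← Matrix.mul_assoc, chg_mul hx, Matrix.one_mul, Matrix.mul_assoc,
    chg_mul hx, Matrix.mul_one] at e
  have e1 : c * (((y : H) * y * (y * y) : H) : SU 3 F (2 ^ n)) * c⁻¹ = 1 :=
    suVal_ext (e.trans su_one.symm)
  rw [conj_eq_one_iff] at e1
  simpa [pow_succ, mul_assoc] using e1

theorem not_four_psu (hn : 1 ≤ n) (hF : Fintype.card F = (2 ^ n) ^ 2) :
    ¬ Cfsg.Involves (Equiv.Perm (Fin 4)) (PSU 3 F (2 ^ n)) := by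
  intro h
  obtain ⟨H, f, hf⟩ := exists_hom_four h
  have h1 : IsSectionOf (Equiv.Perm (Fin 4)) (PSU 3 F (2 ^ n)) := ⟨H, f, hf⟩
  exact not_four_su hn hF (h1.trans (IsSectionOf.of_surjective (QuotientGroup.mk' _)
    (QuotientGroup.mk'_surjective _))).involves

end PSU

end Cfsg.Agent.Spor.Gold.Fam
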