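import Cfsg.Agent.Lib.Spor.Gold.Families
import Cfsg.Prelude.Def_LocalEven

/-!
Groups of Ree type satisfy the hypotheses of the Ree setting.
-/

set_option autoImplicit false
set_option linter.unusedSectionVars false
set_option linter.style.haveILetI false

open scoped Classical

namespace Cfsg.Agent.Spor.Gold

open Cfsg Cfsg.Agent.Invol

universe u

theorem ree_type {G : Type u} [Group G] [Finite G] (h : Cfsg.IsReeType G) :
    HasInvertedThree G ∧ ¬ Cfsg.Involves (Equiv.Perm (Fin 4)) G := by
  obtain ⟨hs, hnab, t, K, n, hn, ht, hodd, ⟨-, -, hcomm, hinf, hsup⟩, F, i1, i2, hF, ⟨e⟩⟩ := h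
  haveI := hs
  obtain ⟨D, -⟩ := nonempty_kData F hn hF
  let ι : Matrix.ProjectiveSpecialLinearGroup (Fin 2) F →* G := K.subtype.comp e.symm.toMonoidHom
  have hmem : ∀ k, ι k ∈ K := fun k => (e.symm k).2
  have hsurj : ∀ x ∈ K, ∃ k, x = ι k := fun x hx => ⟨e ⟨x, hx⟩, by simp [ι]⟩
  have htc : ∀ k, ι k * t = t * ι k := fun k =>
    (hcomm t (Subgroup.mem_zpowers t) _ (hmem k)).symm
  have ht2 : t * t = 1 := by rw [← pow_two, ← ht, pow_orderOf_eq_one]
  let S : Setting G (Matrix.ProjectiveSpecialLinearGroup (Fin 2) F) :=
    { D := D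
      t := t
      ι := ι
      inj := Subtype.val_injective.comp e.symm.injective
      ht := ht
      hodd := hodd
      tc := htc
      cover := fun c hc => by
        have hc' : c ∈ Subgroup.zpowers t ⊔ K := by
          rw [hsup]; exact Subgroup.mem_centralizer_singleton_iff.2 hc
        rw [← Subgroup.closure_eq K, Subgroup.zpowers_eq_closure, ← Subgroup.closure_union] at hc'
        clear hc
        induction hc' using Subgroup.closure_induction with
        | mem x hx =>
          rcases hx with rfl | hx
          · exact ⟨1, Or.inr (by rw [map_one, mul_one])⟩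
          · obtain ⟨k, hk⟩ := hsurj x hx
            exact ⟨k, Or.inl hk⟩
        | one => exact ⟨1, Or.inl (map_one ι).symm⟩
        | mul x y _ _ hx hy =>
          obtain ⟨a, ha⟩ := hx
          obtain ⟨b, hb⟩ := hy
          refine ⟨a * b, ?_⟩
          rcases ha with rfl | rfl <;> rcases hb with rfl | rfl
          · exact Or.inl (map_mul ι a b).symm
          · exact Or.inr (by rw [map_mul, ← mul_assoc, htc, mul_assoc])
          · exact Or.inr (by rw [map_mul, mul_assoc])
          · refine Or.inl ?_
            rw [map_mul, mul_assoc, ← mul_assoc (ι a) t, htc, mul_assoc t (ι a), ← mul_assoc, ht2, one_mul]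
        | inv x _ hx =>
          obtain ⟨a, ha⟩ := hx
          refine ⟨a⁻¹, ?_⟩
          rcases ha with rfl | rfl
          · exact Or.inl (map_inv ι a).symm
          · refine Or.inr ?_
            rw [mul_inv_rev, inv_eq_of_mul_eq_one_right ht2, map_inv]
            exact ((Commute.inv_left (htc a : Commute (ι a) t)).eq)
      t_not := fun k hk => by
        have h1 : t ∈ Subgroup.zpowers t ⊓ K := ⟨Subgroup.mem_zpowers t, hk ▸ hmem k⟩
        rw [hinf, Subgroup.mem_bot] at h1
        rw [h1, orderOf_one] at ht
        norm_num at ht }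
  exact ⟨hasInvertedThree_of_setting hnab S, Fam.not_four_of_twoExp fun g k hg => S.two_elem_sq hg⟩

end Cfsg.Agent.Spor.Gold
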