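import Cfsg.Agent.Lib.Invol.AbelTwo.SFourFree
import Cfsg.Agent.Lib.Invol.RealFreeNormalTwo
import Cfsg.Prelude.Def_PLocal

/-!
# No inverted element in the normalizer of `Z(J(T))`, `T` a Sylow 3-subgroup

Such a group has no section `S₃`; with the recognition of the `JR` kind its non-abelian composition
factors are Suzuki groups or `PSL₂(3^odd)`.
-/

set_option autoImplicit false
set_option linter.unusedSectionVars false
set_option linter.style.haveILetI false

namespace Cfsg.Agent.Spor.Gold.NoThreeNorm

open Cfsg.Agent.Invol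

universe u

variable {G : Type u} [Group G] [Finite G]

/-- The hypothesis on the normalizer of `Z(J(T))` excludes sections `S₃`. -/
theorem not_involves (T : Sylow 3 G)
    (h : ∀ x ∈ (T : Subgroup G), x ≠ 1 →
      ∀ g ∈ Subgroup.normalizer (Cfsg.centerThompsonAOf (T : Subgroup G) : Set G),
        g * x * g⁻¹ ≠ x⁻¹) : ¬ Cfsg.Involves (Equiv.Perm (Fin 3)) G := by
  haveI : Fact (Nat.Prime 3) := ⟨Nat.prime_three⟩
  intro h3
  have hrf : RealFree.RFOn 3 (⊤ : Subgroup G) :=
    RealFree.rfOn_of_normalizer_zj (by norm_num) T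
      (RealFree.rfOn_of_sylow T
        (Subgroup.le_normalizer.trans (RealFree.normalizer_le_normalizer_zj _)) h)
  obtain ⟨t, r, -, hr3, hr1, hi⟩ := Fam.hasInvertedThree_of_involves h3
  exact hr1 (hrf r (Subgroup.mem_top _) t (Subgroup.mem_top _) ⟨1, by rw [pow_one, hr3]⟩ hi)

/-- The classification of simple groups without `S₃`, read on composition factors. -/
theorem composition (hub : AbelTwo.JRRec.{u}) (h3 : ¬ Cfsg.Involves (Equiv.Perm (Fin 3)) G) :
    Cfsg.IsCompositionKGroupWith Cfsg.IsSuzukiOrPSL2OddPowerThree G := by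
  intro H _ N hN hX hna
  haveI := hX
  refine AbelTwo.threeFree_simple hub hna fun h => h3 ?_
  exact ((isSectionOf_of_involves h).trans
    ⟨H, QuotientGroup.mk' N, QuotientGroup.mk'_surjective _⟩).involves

end Cfsg.Agent.Spor.Gold.NoThreeNorm
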