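import Cfsg.Agent.Lib.Spor.Gold.NoThreeNorm
import Cfsg.Agent.Lib.Invol.AbelTwo.Hub

/-!
The statement on groups without inverted elements in the normalizer of `Z(J(T))`, from `WardHub`.
-/

set_option autoImplicit false

namespace Cfsg.Agent.Spor.Gold.NoThreeNorm

open Cfsg.Agent.Invol

universe u

theorem of_hub (hub : JankoWard.WardHub.{u}) {G : Type u} [Group G] [Finite G] (T : Sylow 3 G)
    (h : ∀ x ∈ (T : Subgroup G), x ≠ 1 →
      ∀ g ∈ Subgroup.normalizer (Cfsg.centerThompsonAOf (T : Subgroup G) : Set G), g * x * g⁻¹ ≠ x⁻¹) :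
    ¬ Cfsg.Involves (Equiv.Perm (Fin 3)) G ∧
      Cfsg.IsCompositionKGroupWith Cfsg.IsSuzukiOrPSL2OddPowerThree G :=
  ⟨not_involves T h, composition (AbelTwo.jrRec_of_hub hub) (not_involves T h)⟩

end Cfsg.Agent.Spor.Gold.NoThreeNorm
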