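import Cfsg.Agent.Lib.Spor.Gold.ReeThree
import Cfsg.Agent.Lib.Invol.RegularProducts
import Cfsg.Agent.Lib.Block.TwoPrime.Basic
import Cfsg.Agent.Lib.Char.Average
import Cfsg.Agent.Lib.Char.ModP

/-!
Values of irreducible characters on the coset of the 3-core at the element of order three.
-/

set_option autoImplicit false
set_option linter.unusedSectionVars false
set_option linter.style.haveILetI false

open scoped Classical

namespace Cfsg.Agent.Spor.Gold

open Cfsg Cfsg.Agent.Invol Cfsg.Agent.Block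

universe u v

variable {G : Type u} [Group G] [Fintype G] {P : Type v} [Group P] [Finite P]

/-- At an element of 3-power order the sum over a normal 3'-subgroup of the centralizer with
3-group quotient vanishes for characters outside the principal block. -/
theorem sum_core_eq_zero {M : Ideal AlgInt} (hM : IsPModular 3 M) {x : G}
    (hx : ∃ k : ℕ, orderOf x = 3 ^ k) {K : Subgroup (Subgroup.centralizer ({x} : Set G))}
    (hKn : K.Normal) (hK : ¬ 3 ∣ Nat.card K) {j : ℕ} (hidx : K.index = 3 ^ j) {χ : IrrCharacter G}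
    (hχ : χ ∉ principalBlock M G) :
    ∑ y : K, (χ : G → ℂ) (x * ((y : Subgroup.centralizer ({x} : Set G)) : G)) = 0 := by
  haveI : Fact (Nat.Prime 3) := ⟨Nat.prime_three⟩
  haveI := hKn
  set B := blockOf M (χ : G → ℂ) with hB
  have hBb : IsPBlock M B := isPBlock_blockOf χ
  have hχB : χ ∈ B := mem_blockOf_self hM χ
  obtain ⟨k, hk⟩ := hx
  have hyr : ∀ y : K, ¬ 3 ∣ orderOf (y : (Subgroup.centralizer ({x} : Set G))) := fun y hd =>
    hK (hd.trans (by rw [Subgroup.orderOf_coe]; exact orderOf_dvd_natCard _))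
  have hP : IsPGroup 3 (Subgroup.zpowers x) :=
    IsPGroup.of_card (n := k) (by rw [Nat.card_zpowers, hk])
  have hps : IsPSolvable 3 (Subgroup.centralizer ({x} : Set G)) := by
    refine ⟨2, ![⊥, K, ⊤], rfl, rfl, ?_, ?_, ?_⟩
    · refine Fin.monotone_iff_le_succ.2 fun i => ?_
      fin_cases i <;> simp
    · intro i
      fin_cases i
      · exact (inferInstance : (⊥ : Subgroup (Subgroup.centralizer ({x} : Set G))).Normal)
      · exact hKn
      · exact (inferInstance : (⊤ : Subgroup (Subgroup.centralizer ({x} : Set G))).Normal)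
    · intro i
      fin_cases i
      · exact Or.inr (by
          simpa using (Nat.prime_three.coprime_iff_not_dvd.2 hK).symm)
      · exact Or.inl ⟨j, by simpa using hidx⟩
  have hcore : pPrimeCore 3 (Subgroup.centralizer ({x} : Set G)) ≤ K := fun c hc => by
    haveI := Grp.pPrimeCore_isNormal (p := 3) (G := (Subgroup.centralizer ({x} : Set G)))
    have h1 : (c : (Subgroup.centralizer ({x} : Set G))) ^ Nat.card (pPrimeCore 3 (Subgroup.centralizer ({x} : Set G))) = 1 :=
      orderOf_dvd_iff_pow_eq_one.1 (Subgroup.orderOf_dvd_natCard _ hc)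
    have h2 : (QuotientGroup.mk c : (Subgroup.centralizer ({x} : Set G)) ⧸ K) ^ 3 ^ j = 1 := by
      rw [← hidx]; exact pow_card_eq_one'
    have h3 : (QuotientGroup.mk c : (Subgroup.centralizer ({x} : Set G)) ⧸ K) ^ Nat.card (pPrimeCore 3 (Subgroup.centralizer ({x} : Set G))) = 1 := by
      rw [← QuotientGroup.mk_pow, h1, QuotientGroup.mk_one]
    have h := pow_gcd_eq_one.2 ⟨h3, h2⟩
    rw [((Grp.pPrimeCore_coprime (p := 3) (G := (Subgroup.centralizer ({x} : Set G)))).pow_right j).gcd_eq_one, pow_one] at h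
    exact (QuotientGroup.eq_one_iff c).1 h
  have hdef : ∀ ξ : IrrCharacter (Subgroup.centralizer ({x} : Set G)), InducedBlockDefined M (Subgroup.centralizer ({x} : Set G)) (blockOf M (ξ : (Subgroup.centralizer ({x} : Set G)) → ℂ)) := fun ξ => by
    refine inducedBlockDefined_brauer hM hP (Subgroup.zpowers_le.2 (centralizer_self_mem x)) ?_ ?_
      (isPBlock_blockOf ξ)
    · exact Subgroup.centralizer_le (Set.singleton_subset_iff.2 (Subgroup.mem_zpowers x))
    · intro c hc
      refine Subgroup.centralizer_le_normalizer _ ?_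
      rw [Subgroup.mem_centralizer_iff]
      intro w hw
      obtain ⟨i, rfl⟩ := Subgroup.mem_zpowers_iff.1 hw
      exact ((show Commute c x from Subgroup.mem_centralizer_singleton_iff.1 hc).zpow_right i).eq.symm
  cases nonempty_fintype (Subgroup.centralizer ({x} : Set G))
  have key : ∀ y : K, (χ : G → ℂ) (x * ((y : (Subgroup.centralizer ({x} : Set G))) : G)) =
      ∑ ξ ∈ Finset.univ.filter (fun ξ : IrrCharacter (Subgroup.centralizer ({x} : Set G)) =>
          IsInducedBlock M (Subgroup.centralizer ({x} : Set G)) (blockOf M (ξ : (Subgroup.centralizer ({x} : Set G)) → ℂ)) B),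
        classInner (fun c : (Subgroup.centralizer ({x} : Set G)) => (χ : G → ℂ) (x * (c : G))) (ξ : (Subgroup.centralizer ({x} : Set G)) → ℂ) * (ξ : (Subgroup.centralizer ({x} : Set G)) → ℂ) (y : (Subgroup.centralizer ({x} : Set G))) :=
    fun y => by
      have e := value_eq_sum_inducing hM ⟨k, hk⟩ hBb (hyr y) χ
      rw [if_pos hχB] at e
      exact e.symm
  rw [Finset.sum_congr rfl fun y _ => key y, Finset.sum_comm]
  refine Finset.sum_eq_zero fun ξ hξ => ?_
  rw [← Finset.mul_sum]
  have hnp : ξ ∉ principalBlock M (Subgroup.centralizer ({x} : Set G)) := fun hp => by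
    have hb : blockOf M (ξ : (Subgroup.centralizer ({x} : Set G)) → ℂ) = principalBlock M (Subgroup.centralizer ({x} : Set G)) :=
      (pblock_eq_blockOf hM isPBlock_principalBlock hp).symm
    have h1 := (principal_third_main hM (hdef ξ)).2 hb
    have h2 := induced_unique hM h1 (Finset.mem_filter.1 hξ).2
    exact hχ (h2 ▸ hχB)
  rcases Char.avgN_irr K ξ.2 with ⟨h0, -⟩ | ⟨h1, -⟩
  · refine mul_eq_zero_of_right _ ?_
    simp only [classInner, map_one, mul_one] at h0
    convert (mul_eq_zero.mp h0).resolve_left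
      (inv_ne_zero (Nat.cast_ne_zero.mpr Nat.card_pos.ne'))
  · exact absurd ((TwoPrime.mem_principal_iff_ker hM hps ξ).2 fun c hc => h1 ⟨c, hcore hc⟩) hnp

namespace Setting

variable (S : Setting G P)
include S

theorem x3 : S.x ^ 3 = 1 := by rw [x, ← map_pow, S.D.h3, map_one]

theorem x_ne : S.x ≠ 1 := fun e => S.D.h1 (S.inj (e.trans (map_one _).symm))

theorem order_x : orderOf S.x = 3 := orderOf_eq_prime S.x3 S.x_ne

/-- The values on `x * W`. -/
theorem sum_W {N W : Subgroup G} (D : S.XData N W) (χ : IrrCharacter G) :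
    ∃ ε : ℂ, (ε = 1 ∨ ε = -1) ∧
      ∑ a : W, (χ : G → ℂ) (S.x * (a : G)) = ε * Nat.card W * (χ : G → ℂ) (S.x * S.t) := by
  obtain ⟨M, hM⟩ := Char.exists_isPModular 3 Nat.prime_three
  haveI : Fact (Nat.Prime 3) := ⟨Nat.prime_three⟩
  set C := Subgroup.centralizer ({S.x} : Set G) with hC
  set K := N.subgroupOf C with hKdef
  have hKn : K.Normal := ⟨fun a ha z => by
    rw [hKdef, Subgroup.mem_subgroupOf] at ha ⊢
    exact D.normal _ z.2 _ ha⟩
  have hKc : Nat.card K = Nat.card N := Nat.card_congr (Subgroup.subgroupOfEquivOfLe D.NX).toEquiv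
  have hK : ¬ 3 ∣ Nat.card K := by rw [hKc]; exact D.three
  obtain ⟨j, hj⟩ := D.index
  have hidx : K.index = 3 ^ j := by
    have h := Subgroup.card_mul_index K
    rw [hKc] at h
    exact Nat.eq_of_mul_eq_mul_left Nat.card_pos (h.trans hj)
  have hx : ∃ k : ℕ, orderOf S.x = 3 ^ k := ⟨1, by rw [S.order_x, pow_one]⟩
  by_cases hχ : χ ∈ principalBlock M G
  · have hv : ∀ z ∈ N, (χ : G → ℂ) (S.x * z) = (χ : G → ℂ) S.x := fun z hz =>
      RegProd.value_eq_of_complement hM hx hKn hK (y := ⟨z, D.NX hz⟩)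
        (by rw [hKdef, Subgroup.mem_subgroupOf]; exact hz) hχ
    refine ⟨1, Or.inl rfl, ?_⟩
    rw [Finset.sum_congr rfl fun (a : W) _ => hv (a : G) (D.WN a.2), Finset.sum_const, Finset.card_univ,
      ← Nat.card_eq_fintype_card, nsmul_eq_mul, hv _ D.tN, one_mul]
  · have h0 := sum_core_eq_zero hM hx hKn hK hidx hχ
    have h0' : ∑ z : N, (χ : G → ℂ) (S.x * (z : G)) = 0 := by
      rw [← h0]
      exact (Fintype.sum_equiv (Subgroup.subgroupOfEquivOfLe D.NX).toEquiv _ _ fun _ => rfl).symm
    let e : Bool × W → N := fun p => ⟨(p.2 : G) * (bif p.1 then S.t else 1), mul_mem (D.WN p.2.2)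
      (by cases p.1 <;> simp [D.tN, one_mem])⟩
    have he : Function.Bijective e := by
      constructor
      · rintro ⟨s, a⟩ ⟨s', a'⟩ h
        have h' := congrArg Subtype.val h
        cases s <;> cases s' <;> simp only [e, cond_true, cond_false, mul_one] at h'
        · rw [Subtype.ext h']
        · exact absurd (by rw [show S.t = (a' : G)⁻¹ * a by rw [h']; group]
                           exact mul_mem (inv_mem a'.2) a.2) D.tW
        · exact absurd (by rw [show S.t = (a : G)⁻¹ * a' by rw [← h']; group]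
                           exact mul_mem (inv_mem a.2) a'.2) D.tW
        · rw [Subtype.ext (mul_right_cancel h')]
      · rintro ⟨z, hz⟩
        rcases D.cover z hz with h | h
        · exact ⟨(false, ⟨z, h⟩), Subtype.ext (by simp [e])⟩
        · exact ⟨(true, ⟨_, h⟩), Subtype.ext (by simp [e, mul_assoc, S.tt])⟩
    rw [← Fintype.sum_bijective e he _ _ fun _ => rfl, Fintype.sum_prod_type, Fintype.sum_bool] at h0'
    simp only [e, cond_true, cond_false, mul_one] at h0'
    have ht : ∀ a : W, (χ : G → ℂ) (S.x * ((a : G) * S.t)) = (χ : G → ℂ) (S.x * S.t) := fun a => by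
      obtain ⟨b, hb, hbe⟩ := XData.conj_t S D a.2
      have hbx : b * S.x = S.x * b := S.mem_X.1 (D.NX (D.WN hb))
      have hbx' : Commute b⁻¹ S.x := (show Commute b S.x from hbx).inv_left
      rw [← hbe, show S.x * (b⁻¹ * S.t * b) = b⁻¹ * (S.x * S.t) * b⁻¹⁻¹ by
        rw [inv_inv, ← mul_assoc, ← mul_assoc, ← mul_assoc, hbx'.eq]]
      exact Char.IsIrr.classFun χ.2 _ _
    refine ⟨-1, Or.inr rfl, ?_⟩
    rw [Finset.sum_congr rfl fun (a : W) _ => ht a, Finset.sum_const, Finset.card_univ,
      ← Nat.card_eq_fintype_card, nsmul_eq_mul, add_comm] at h0'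
    linear_combination h0'

end Setting

end Cfsg.Agent.Spor.Gold
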