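import Cfsg.Agent.Lib.Spor.Gold.ReeThree
import Cfsg.Agent.Lib.Invol.V4Simple

/-!
The element cycling `t`, `u`, `tu` does not centralize `Y`.
-/

set_option autoImplicit false
set_option linter.unusedSectionVars false
set_option linter.style.haveILetI false

open scoped Classical Pointwise

namespace Cfsg.Agent.Spor.Gold

open Cfsg.Agent.Invol

universe u v

/-- A group of order sixty with self-centralizing involutions has an inverted element of order
three. -/
theorem inverted_of_sixty {G : Type u} [Group G] [Finite G] {t : G} (ht : orderOf t = 2)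
    (h4 : Nat.card (Subgroup.centralizer ({t} : Set G)) = 4)
    (hexp : ∀ c ∈ Subgroup.centralizer ({t} : Set G), c * c = 1)
    (hone : ∀ u : G, orderOf u = 2 → IsConj t u) (h : Nat.card G = 60) : HasInvertedThree G := by
  haveI : Fact (Nat.Prime 3) := ⟨Nat.prime_three⟩
  haveI : Fact (Nat.Prime 2) := ⟨Nat.prime_two⟩
  haveI := V4Order.simple_of_sixty ht h4 hexp hone h
  obtain ⟨Q⟩ : Nonempty (Sylow 3 G) := inferInstance
  have hQ : Nat.card (Q : Subgroup G) = 3 := by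
    rw [Q.card_eq_multiplicity, h, show (60 : ℕ) = 3 * 20 by norm_num,
      Nat.factorization_mul (by norm_num) (by norm_num), Finsupp.add_apply,
      Nat.Prime.factorization_self (by norm_num),
      Nat.factorization_eq_zero_of_not_dvd (by norm_num : ¬ 3 ∣ 20)]
    norm_num
  set N := Subgroup.normalizer ((Q : Subgroup G) : Set G) with hN
  have hn := Q.card_eq_index_normalizer
  have hmod := card_sylow_modEq_one 3 G
  rw [hn] at hmod
  have hd : N.index ∣ 20 := by
    have h1 := Q.card_dvd_index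
    rw [hn] at h1
    have h2 := (Q : Subgroup G).card_mul_index
    rw [hQ, h] at h2
    exact h1.trans (dvd_of_eq (by omega))
  have hidx : N.index = 10 := by
    have hle := Nat.le_of_dvd (by norm_num) hd
    have hne1 : N.index ≠ 1 := fun e => by
      have hnorm : (Q : Subgroup G).Normal := Subgroup.normalizer_eq_top_iff.1 (Subgroup.index_eq_one.1 e)
      rcases hnorm.eq_bot_or_eq_top with e' | e'
      · rw [e', Subgroup.card_bot] at hQ; omega
      · rw [e', Subgroup.card_top, h] at hQ; omega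
    have hne4 : N.index ≠ 4 := fun e => by
      let φ := MulAction.toPermHom G (G ⧸ N)
      rcases (φ.normal_ker).eq_bot_or_eq_top with hb | hb
      · have h1 := Nat.card_le_card_of_injective φ ((MonoidHom.ker_eq_bot_iff φ).1 hb)
        rw [h, Nat.card_perm, ← Subgroup.index_eq_card, e] at h1
        norm_num [Nat.factorial] at h1
      · have h1 : N = ⊤ := top_unique (hb ▸ (Subgroup.normalCore_eq_ker N).symm.le.trans N.normalCore_le)
        rw [h1, Subgroup.index_top] at e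
        omega
    unfold Nat.ModEq at hmod
    interval_cases hi : N.index <;> omega
  have hN6 : 2 ∣ Nat.card N := by
    have := N.card_mul_index
    rw [hidx, h] at this
    omega
  obtain ⟨⟨j, hj⟩, hjo⟩ := exists_prime_orderOf_dvd_card' (G := N) 2 hN6
  rw [Subgroup.orderOf_mk] at hjo
  obtain ⟨⟨r, hr⟩, hro⟩ := exists_prime_orderOf_dvd_card' (G := (Q : Subgroup G)) 3 (by rw [hQ])
  rw [Subgroup.orderOf_mk] at hro
  have hr3 : r ^ 3 = 1 := hro ▸ pow_orderOf_eq_one r
  have hr1 : r ≠ 1 := fun e => by rw [e, orderOf_one] at hro; omega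
  refine ⟨j, r, ⟨1, by rw [pow_one]; exact hjo ▸ pow_orderOf_eq_one j⟩, hr3, hr1, ?_⟩
  have hjr : j * r * j⁻¹ ∈ (Q : Subgroup G) := (Subgroup.mem_normalizer_iff.1 hj r).1 hr
  have hQz : (Q : Subgroup G) = Subgroup.zpowers r := by
    refine (Subgroup.eq_of_le_of_card_ge (Subgroup.zpowers_le.2 hr) ?_).symm
    rw [Nat.card_zpowers, hro, hQ]
  rw [hQz, mem_zpowers_iff_mem_range_orderOf, hro] at hjr
  obtain ⟨i, hi, hie⟩ := Finset.mem_image.1 hjr
  rw [Finset.mem_range] at hi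
  interval_cases i
  · rw [pow_zero] at hie
    exact absurd (conj_eq_one_iff.1 hie.symm) hr1
  · rw [pow_one] at hie
    exfalso
    obtain ⟨c, hc⟩ := isConj_iff.1 (hone j hjo)
    have hrc : c⁻¹ * r * c ∈ Subgroup.centralizer ({t} : Set G) := by
      rw [Subgroup.mem_centralizer_singleton_iff]
      have hjc : j * r = r * j := (mul_inv_eq_iff_eq_mul.1 hie.symm)
      have ht' : t = c⁻¹ * j * c := by rw [← hc]; group
      rw [ht']
      calc c⁻¹ * r * c * (c⁻¹ * j * c) = c⁻¹ * (r * j) * c := by group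
        _ = c⁻¹ * j * c * (c⁻¹ * r * c) := by rw [← hjc]; group
    have hd2 := Subgroup.orderOf_dvd_natCard _ hrc
    rw [h4, show c⁻¹ * r * c = MulAut.conj c⁻¹ r by simp, MulEquiv.orderOf_eq, hro] at hd2
    norm_num at hd2
  · rw [← hie]
    exact eq_inv_of_mul_eq_one_left (by rw [← pow_succ]; exact hr3)

variable {G : Type u} [Group G] [Finite G] {P : Type v} [Group P] [Finite P] {S : Setting G P}

/-- `g` acts nontrivially on `Y`. -/
theorem Cyc.not_central (K : Cyc S) (hnr : ¬ HasInvertedThree G) :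
    ∃ y : S.D.Y, K.σ y ≠ y := by
  by_contra hall
  push Not at hall
  have hgY : ∀ y ∈ S.D.Y, K.g * S.ι y = S.ι y * K.g := fun y hy => by
    have h := K.σ_spec ⟨y, hy⟩
    rw [hall] at h
    exact mul_inv_eq_iff_eq_mul.1 h
  obtain ⟨N, W, D⟩ := S.exists_xData hnr
  set n := K.n with hn
  have hgcomm : ∀ a, a * K.g = K.g * a ↔ n⁻¹ * a * n ∈ S.X := by
    intro a
    have h1 : a * K.g = K.g * a ↔ a * (n * S.x * n⁻¹) = n * S.x * n⁻¹ * a := by
      rcases K.gdef with e | e <;> rw [e] <;> simp only [Setting.x, ← hn]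
      exact ⟨fun h => (Commute.inv_right_iff.1 h), fun h => (Commute.inv_right_iff.2 h)⟩
    rw [h1, S.mem_X]
    constructor
    · intro h
      calc n⁻¹ * a * n * S.x = n⁻¹ * (a * (n * S.x * n⁻¹)) * n := by group
        _ = S.x * (n⁻¹ * a * n) := by rw [h]; group
    · intro h
      calc a * (n * S.x * n⁻¹) = n * (n⁻¹ * a * n * S.x) * n⁻¹ := by group
        _ = n * S.x * n⁻¹ * a := by rw [h]; group
  have hr2 : ¬ 3 ∣ S.D.r := S.D.three_r
  have hYW : ∀ y ∈ S.D.Y, n⁻¹ * S.ι y * n ∈ W := fun y hy => by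
    refine D.big _ ((hgcomm _).1 (hgY y hy).symm) S.D.r S.D.r_odd hr2 ?_
    rw [show n⁻¹ * S.ι y * n = n⁻¹ * S.ι y * n⁻¹⁻¹ by rw [inv_inv], conj_pow, ← map_pow, hy.2,
      map_one]
    group
  set Ys := S.D.Y.map S.ι with hYs
  set H := Subgroup.centralizer (Ys : Set G) with hH
  have hmemH : ∀ a, a ∈ H ↔ ∀ y ∈ S.D.Y, S.ι y * a = a * S.ι y := by
    intro a
    rw [hH, Subgroup.mem_centralizer_iff]
    exact ⟨fun h y hy => h _ ⟨y, hy, rfl⟩, fun h _ ⟨y, hy, e⟩ => e ▸ h y hy⟩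
  have hgH : K.g ∈ H := (hmemH _).2 fun y hy => (hgY y hy).symm
  have hAH : ∀ a ∈ K.A, a ∈ H := fun a ha => (hmemH a).2 fun y hy => K.A_comm (K.Y_A hy) ha
  have hYsH : Ys ≤ H := by
    rintro _ ⟨y, hy, rfl⟩
    exact hAH _ (K.Y_A hy)
  set Y0 := Ys.subgroupOf H with hY0
  haveI : Y0.Normal := ⟨fun a ha b => by
    rw [hY0, Subgroup.mem_subgroupOf] at ha ⊢
    obtain ⟨y, hy, he⟩ := ha
    rw [Subgroup.coe_mul, Subgroup.coe_mul, Subgroup.coe_inv, ← he, ← (hmemH b).1 b.2 y hy,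
      mul_inv_cancel_right]
    exact ⟨y, hy, rfl⟩⟩
  -- a nontrivial element of `Y`
  obtain ⟨y₁, hy₁, hy₁1⟩ : ∃ y ∈ S.D.Y, y ≠ 1 := by
    suffices h : S.D.Y ≠ ⊥ by
      obtain ⟨y, hy, hy1⟩ := (Subgroup.bot_or_exists_ne_one S.D.Y).resolve_left h
      exact ⟨y, hy, hy1⟩
    intro e
    have := S.D.card_Y
    rw [e, Subgroup.card_bot] at this
    have := S.D.r_ge
    omega
  have hHt : ∀ h ∈ H, h * S.t = S.t * h → h ∈ K.A := by
    intro h hh hc
    obtain ⟨k, hk⟩ := S.cover h hc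
    refine K.mem_A.2 ⟨k, (S.D.commute_Y_iff hy₁ hy₁1).1 (S.inj ?_), hk⟩
    have hy := (hmemH h).1 hh y₁ hy₁
    rw [map_mul, map_mul]
    rcases hk with rfl | rfl
    · exact hy.symm
    · rw [← mul_assoc, S.tc, mul_assoc, mul_assoc] at hy
      exact (mul_left_cancel hy).symm
  let f := QuotientGroup.mk' Y0
  have hf : Function.Surjective f := QuotientGroup.mk'_surjective Y0
  have hfY : ∀ a : H, f a = 1 ↔ ∃ y ∈ S.D.Y, (a : G) = S.ι y := fun a => by
    rw [QuotientGroup.mk'_apply, QuotientGroup.eq_one_iff, hY0, Subgroup.mem_subgroupOf]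
    exact ⟨fun ⟨y, hy, e⟩ => ⟨y, hy, e.symm⟩, fun ⟨y, hy, e⟩ => ⟨y, hy, e.symm⟩⟩
  set tq := f ⟨S.t, hAH _ K.t_A⟩ with htq
  let e : Option (Fin 3) → G := fun o => o.elim 1 K.v
  have he : ∀ o, e o = 1 ∨ ∃ i, e o = K.v i := fun o => by
    cases o with
    | none => exact Or.inl rfl
    | some i => exact Or.inr ⟨i, rfl⟩
  have heinj : Function.Injective e := by
    intro a b hab
    cases a with
    | none =>
      cases b with
      | none => rfl
      | some i => exact absurd hab.symm (K.v_ne i)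
    | some i =>
      cases b with
      | none => exact absurd hab (K.v_ne i)
      | some j => rw [K.v_inj hab]
  have heH : ∀ o, e o ∈ H := fun o => hAH _ (K.e_A (he o)).1
  have hcases : ∀ q, q * tq = tq * q → ∃ o, q = f ⟨e o, heH o⟩ := by
    intro q hq
    obtain ⟨⟨h, hh⟩, rfl⟩ := hf q
    have h1 : f (⟨h, hh⟩ * ⟨S.t, hAH _ K.t_A⟩ * ⟨h, hh⟩⁻¹ * (⟨S.t, hAH _ K.t_A⟩ : H)⁻¹) = 1 := by
      rw [map_mul, map_mul, map_mul, map_inv, map_inv, ← htq, hq, mul_inv_cancel_right, mul_inv_cancel]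
    obtain ⟨y, hy, hye⟩ := (hfY _).1 h1
    simp only [Subgroup.coe_mul, Subgroup.coe_inv] at hye
    have hc : h * S.t * h⁻¹ = S.ι y * S.t := by rw [← hye]; group
    have hy1 : y = 1 := by
      have hsq : (h * S.t * h⁻¹) * (h * S.t * h⁻¹) = 1 := by rw [conj_mul, S.tt]; group
      rw [hc, mul_assoc, ← mul_assoc S.t, ← S.tc, mul_assoc, S.tt, mul_one, ← map_mul, ← map_one S.ι]
        at hsq
      by_contra hne
      exact S.D.Y_sq hy hne (S.inj hsq)
    rw [hy1, map_one, one_mul] at hc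
    obtain ⟨e₀, y', he₀, hy', hee⟩ := K.decomp (hHt h hh (mul_inv_eq_iff_eq_mul.1 hc))
    obtain ⟨o, ho⟩ : ∃ o, e o = e₀ := by
      rcases he₀ with rfl | ⟨i, rfl⟩
      · exact ⟨none, rfl⟩
      · exact ⟨some i, rfl⟩
    refine ⟨o, ?_⟩
    rw [← mul_inv_eq_one, ← map_inv, ← map_mul, hfY]
    refine ⟨y', hy', ?_⟩
    simp only [Subgroup.coe_mul, Subgroup.coe_inv]
    rw [ho, hee, K.A_comm (K.e_A he₀).1 (K.Y_A hy'), mul_inv_cancel_right]
  have hC : Nat.card (Subgroup.centralizer ({tq} : Set (H ⧸ Y0))) = 4 := by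
    have hmem : ∀ o, f ⟨e o, heH o⟩ ∈ Subgroup.centralizer ({tq} : Set (H ⧸ Y0)) := fun o => by
      rw [Subgroup.mem_centralizer_singleton_iff, htq, ← map_mul, ← map_mul]
      exact congrArg f (Subtype.ext (K.A_comm (K.e_A (he o)).1 K.t_A))
    rw [← Nat.card_eq_of_bijective (fun o : Option (Fin 3) =>
      (⟨_, hmem o⟩ : Subgroup.centralizer ({tq} : Set (H ⧸ Y0)))) ⟨?_, ?_⟩]
    · simp
    · intro a b hab
      have h1 : f (⟨e a, heH a⟩ * (⟨e b, heH b⟩ : H)⁻¹) = 1 := by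
        have hab' : f ⟨e a, heH a⟩ = f ⟨e b, heH b⟩ := congrArg Subtype.val hab
        rw [map_mul, map_inv, hab', mul_inv_cancel]
      obtain ⟨y, hy, hye⟩ := (hfY _).1 h1
      simp only [Subgroup.coe_mul, Subgroup.coe_inv] at hye
      apply heinj
      have hab2 : e a * (e b)⁻¹ * (e a * (e b)⁻¹) = 1 := by
        obtain ⟨ha1, ha2⟩ := K.e_A (he a)
        obtain ⟨hb1, hb2⟩ := K.e_A (he b)
        rw [inv_eq_of_mul_eq_one_right hb2, mul_assoc, ← mul_assoc (e b), K.A_comm hb1 ha1,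
          mul_assoc (e a) (e b), hb2, mul_one, ha2]
      rw [hye, ← map_mul, ← map_one S.ι] at hab2
      have hy1 : y = 1 := by
        by_contra hne
        exact S.D.Y_sq hy hne (S.inj hab2)
      rw [hy1, map_one] at hye
      exact mul_inv_eq_one.1 hye
    · rintro ⟨q, hq⟩
      obtain ⟨o, ho⟩ := hcases q (Subgroup.mem_centralizer_singleton_iff.1 hq)
      exact ⟨o, Subtype.ext ho.symm⟩
  have hexp : ∀ c ∈ Subgroup.centralizer ({tq} : Set (H ⧸ Y0)), c * c = 1 := fun c hc => by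
    obtain ⟨o, rfl⟩ := hcases c (Subgroup.mem_centralizer_singleton_iff.1 hc)
    rw [← map_mul, ← map_one f]
    exact congrArg f (Subtype.ext (K.e_A (he o)).2)
  have hto : orderOf tq = 2 := by
    refine orderOf_eq_prime ?_ fun h1 => ?_
    · rw [pow_two]; exact hexp _ (Subgroup.mem_centralizer_singleton_iff.2 rfl)
    · obtain ⟨y, -, hye⟩ := (hfY _).1 h1
      exact S.t_not y hye.symm
  have hone : ∀ q : H ⧸ Y0, orderOf q = 2 → IsConj tq q := by
    intro q hq
    haveI : Fact (Nat.Prime 2) := ⟨Nat.prime_two⟩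
    obtain ⟨h, rfl⟩ := hf q
    have hq2 : f h * f h = 1 := by rw [← pow_two, ← hq, pow_orderOf_eq_one]
    have hq1 : f h ≠ 1 := fun e => by rw [e, orderOf_one] at hq; omega
    set z := h ^ S.D.r with hz
    have hfz : f z = f h := by
      obtain ⟨j, hj⟩ := S.D.r_odd
      rw [hz, map_pow, hj, pow_succ, pow_mul, pow_two, hq2, one_pow, one_mul]
    have hz2 : z * z = 1 := by
      have hh : f (h * h) = 1 := by rw [map_mul, hq2]
      obtain ⟨y, hy, hye⟩ := (hfY _).1 hh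
      refine Subtype.ext ?_
      rw [hz, ← pow_add, ← two_mul, pow_mul, pow_two, SubmonoidClass.coe_pow, hye, ← map_pow, hy.2,
        map_one, Subgroup.coe_one]
    have hz1 : z ≠ 1 := fun e => hq1 (by rw [← hfz, e, map_one])
    let t' : H := ⟨S.t, hAH _ K.t_A⟩
    have ho2 : orderOf z = 2 := orderOf_eq_prime (by rw [pow_two, hz2]) hz1
    have hto' : orderOf t' = 2 := orderOf_eq_prime (Subtype.ext (by simp [t', pow_two, S.tt]))
      fun e => S.t_ne (congrArg Subtype.val e)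
    obtain ⟨Q1, hQ1⟩ := (IsPGroup.of_card (n := 1) (by rw [Nat.card_zpowers, ho2, pow_one]) :
      IsPGroup 2 (Subgroup.zpowers z)).exists_le_sylow
    obtain ⟨Q2, hQ2⟩ := (IsPGroup.of_card (n := 1) (by rw [Nat.card_zpowers, hto', pow_one]) :
      IsPGroup 2 (Subgroup.zpowers t')).exists_le_sylow
    obtain ⟨c, hc⟩ := MulAction.exists_smul_eq H Q1 Q2
    have hczQ : c * z * c⁻¹ ∈ (Q2 : Subgroup H) := by
      rw [← hc, Sylow.coe_subgroup_smul, Subgroup.mem_pointwise_smul_iff_inv_smul_mem]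
      simpa [MulAut.conj_apply, mul_assoc] using hQ1 (Subgroup.mem_zpowers z)
    have hcomm : ((c * z * c⁻¹ : H) : G) * S.t = S.t * ((c * z * c⁻¹ : H) : G) :=
      S.two_group_comm (Q2.isPGroup'.map H.subtype) (Subgroup.mem_map_of_mem H.subtype hczQ)
        (Subgroup.mem_map_of_mem H.subtype (hQ2 (Subgroup.mem_zpowers t')))
    have hsq : (c * z * c⁻¹) * (c * z * c⁻¹) = 1 := by rw [conj_mul, hz2]; group
    rcases K.sq_one (hHt _ (c * z * c⁻¹).2 hcomm) (congrArg Subtype.val hsq) with hv | ⟨i, hi⟩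
    · exact absurd (conj_eq_one_iff.1 (Subtype.ext hv : c * z * c⁻¹ = 1)) hz1
    · refine isConj_iff.2 ⟨f (c⁻¹ * (⟨K.g, hgH⟩ : H) ^ (i : ℕ)), ?_⟩
      rw [← hfz, htq, ← map_inv, ← map_mul, ← map_mul]
      refine congrArg f (Subtype.ext ?_)
      simp only [Subgroup.coe_mul, Subgroup.coe_inv, SubmonoidClass.coe_pow] at hi ⊢
      calc (c : G)⁻¹ * K.g ^ (i : ℕ) * S.t * ((c : G)⁻¹ * K.g ^ (i : ℕ))⁻¹
          = (c : G)⁻¹ * K.v i * c := by rw [Cyc.v]; group
        _ = (z : G) := by rw [← hi]; group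
  haveI : Finite (H ⧸ Y0) := inferInstance
  rcases V4Order.order_eq tq hto hC hexp hone with h12 | h60
  swap
  · exact hnr (HasInvertedThree.of_subgroup
      (Block.SFour.hasInvertedThree_of_map f hf (inverted_of_sixty hto hC hexp hone h60)))
  have hnormC := V4Order.normal_of_twelve hto hC hexp hone h12
  -- `W` moved by `n` is `Y`
  have hWY : ∀ a ∈ W, ∃ y ∈ S.D.Y, n * a * n⁻¹ = S.ι y := by
    intro a ha
    have haH : n * a * n⁻¹ ∈ H := (hmemH _).2 fun y hy => by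
      have h := D.Wcomm _ (hYW y hy) a ha
      calc S.ι y * (n * a * n⁻¹) = n * (n⁻¹ * S.ι y * n * a) * n⁻¹ := by group
        _ = n * a * n⁻¹ * S.ι y := by rw [h]; group
    refine (hfY ⟨_, haH⟩).1 ?_
    have ha2 : a ^ Nat.card W = 1 :=
      orderOf_dvd_iff_pow_eq_one.1 (Subgroup.orderOf_dvd_natCard W ha)
    have h1 : f ⟨_, haH⟩ ^ Nat.card W = 1 := by
      rw [← map_pow, ← map_one f]
      exact congrArg f (Subtype.ext (by rw [SubmonoidClass.coe_pow, conj_pow, ha2, Subgroup.coe_one]; group))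
    have h2 : f ⟨_, haH⟩ ^ 12 = 1 := by rw [← h12]; exact pow_card_eq_one'
    have hcop : Nat.Coprime (Nat.card W) 12 := by
      rw [show (12 : ℕ) = 2 ^ 2 * 3 by norm_num]
      refine Nat.Coprime.mul_right ((Nat.coprime_two_right.2 D.Wodd).pow_right 2) ?_
      exact (Nat.prime_three.coprime_iff_not_dvd.2 fun h =>
        D.three (h.trans (Subgroup.card_dvd_of_le D.WN))).symm
    have h := pow_gcd_eq_one.2 ⟨h1, h2⟩
    rwa [hcop.gcd_eq_one, pow_one] at h
  -- conjugates of `U` normalize `Ys` and `H`, hence `V`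
  have hbY : ∀ a ∈ S.D.U, ∀ y ∈ S.D.Y, ∃ y' ∈ S.D.Y,
      n * S.ι a * n⁻¹ * S.ι y * (n * S.ι a * n⁻¹)⁻¹ = S.ι y' := by
    intro a ha y hy
    have haX : S.ι a ∈ S.X := S.U'_X ⟨a, ha, rfl⟩
    have hwX : S.ι a * (n⁻¹ * S.ι y * n) * (S.ι a)⁻¹ ∈ S.X :=
      mul_mem (mul_mem haX (D.NX (D.WN (hYW y hy)))) (inv_mem haX)
    have hw : S.ι a * (n⁻¹ * S.ι y * n) * (S.ι a)⁻¹ ∈ W := by
      refine D.big _ hwX S.D.r S.D.r_odd hr2 ?_
      rw [conj_pow, show n⁻¹ * S.ι y * n = n⁻¹ * S.ι y * n⁻¹⁻¹ by rw [inv_inv], conj_pow, ← map_pow,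
        hy.2, map_one]
      group
    obtain ⟨y', hy', he'⟩ := hWY _ hw
    exact ⟨y', hy', by rw [← he']; group⟩
  have hbH : ∀ a ∈ S.D.U, ∀ h ∈ H, n * S.ι a * n⁻¹ * h * (n * S.ι a * n⁻¹)⁻¹ ∈ H := by
    intro a ha h hh
    set b := n * S.ι a * n⁻¹ with hb
    refine (hmemH _).2 fun y hy => ?_
    obtain ⟨y', hy', he'⟩ := hbY a⁻¹ (inv_mem ha) y hy
    have hbinv : n * S.ι a⁻¹ * n⁻¹ = b⁻¹ := by rw [hb, map_inv]; group
    rw [hbinv, inv_inv] at he'
    calc S.ι y * (b * h * b⁻¹) = b * ((b⁻¹ * S.ι y * b) * h) * b⁻¹ := by group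
      _ = b * (h * (b⁻¹ * S.ι y * b)) * b⁻¹ := by rw [he', (hmemH h).1 hh y' hy']
      _ = b * h * b⁻¹ * S.ι y := by group
  have hV : ∀ a ∈ S.D.U, ∀ i, ∃ j, n * S.ι a * n⁻¹ * K.v i * (n * S.ι a * n⁻¹)⁻¹ = K.v j := by
    intro a ha i
    set b := n * S.ι a * n⁻¹ with hb
    have hx : b * K.v i * b⁻¹ ∈ H := hbH a ha _ (hAH _ (K.v_A i))
    have hsq : b * K.v i * b⁻¹ * (b * K.v i * b⁻¹) = 1 := by rw [conj_mul, K.v_sq]; group
    have hne : b * K.v i * b⁻¹ ≠ 1 := fun h => K.v_ne i (conj_eq_one_iff.1 h)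
    have hq : (f ⟨_, hx⟩) * (f ⟨_, hx⟩) = 1 := by
      rw [← map_mul, ← map_one f]; exact congrArg f (Subtype.ext hsq)
    have hA : b * K.v i * b⁻¹ ∈ K.A := by
      refine hHt _ hx ?_
      by_cases hq1 : f ⟨_, hx⟩ = 1
      · obtain ⟨y, hy, hye⟩ := (hfY _).1 hq1
        exact absurd (by
          change b * K.v i * b⁻¹ = S.ι y at hye
          rw [hye, ← map_mul, ← map_one S.ι] at hsq
          have hy1 : y = 1 := by
            by_contra h
            exact S.D.Y_sq hy h (S.inj hsq)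
          rw [hye, hy1, map_one]) hne
      · obtain ⟨c, hc⟩ := isConj_iff.1 (hone _ (orderOf_eq_prime (by rw [pow_two, hq]) hq1))
        have hcm : f ⟨_, hx⟩ ∈ Subgroup.centralizer ({tq} : Set (H ⧸ Y0)) := by
          rw [← hc]
          exact hnormC.conj_mem _ (Subgroup.mem_centralizer_singleton_iff.2 rfl) c
        obtain ⟨o, ho⟩ := hcases _ (Subgroup.mem_centralizer_singleton_iff.1 hcm)
        rw [← mul_inv_eq_one, ← map_inv, ← map_mul, hfY] at ho
        obtain ⟨y, hy, hye⟩ := ho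
        simp only [Subgroup.coe_mul, Subgroup.coe_inv] at hye
        have hm : b * K.v i * b⁻¹ ∈ K.A := by
          rw [show b * K.v i * b⁻¹ = S.ι y * e o by rw [← hye]; group]
          exact mul_mem (K.Y_A hy) (K.e_A (he o)).1
        exact K.A_comm hm K.t_A
    rcases K.sq_one hA hsq with h | h
    · exact absurd h hne
    · exact h
  choose j c hc hbc using fun a : S.D.U => K.norm_V (hV a a.2)
  have hinj : Function.Injective j := by
    intro a a' h
    have hdiff : n * S.ι ((a : P) * (a' : P)⁻¹) * n⁻¹ = c a * (c a')⁻¹ := by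
      rw [map_mul, map_inv,
        show n * (S.ι (a : P) * (S.ι (a' : P))⁻¹) * n⁻¹ =
          n * S.ι (a : P) * n⁻¹ * (n * S.ι (a' : P) * n⁻¹)⁻¹ by group, hbc a, hbc a', h]
      group
    have hU : (a : P) * (a' : P)⁻¹ ∈ S.D.U := mul_mem a.2 (inv_mem a'.2)
    set z := c a * (c a')⁻¹ with hz
    have hzC : z ∈ K.CV := mul_mem (hc a) (inv_mem (hc a'))
    have hz3 : z ^ 3 = 1 := by
      rw [← hdiff, conj_pow, ← map_pow, S.D.U_exp hU, map_one]; group
    obtain ⟨h1, h2⟩ := K.mem_CV.1 hzC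
    obtain ⟨k, hk, hk3⟩ := S.odd_mem (by decide : Odd 3) h1 hz3
    rw [hk, ← map_mul, ← map_mul, S.ι_eq_iff] at h2
    have hk1 : k = 1 := by
      rcases S.D.commute_u_iff.1 h2 with h' | h'
      · have h2r : k ^ (2 * S.D.r) = 1 := by
          rw [← S.D.card_T]; exact orderOf_dvd_iff_pow_eq_one.1 (Subgroup.orderOf_dvd_natCard _ h')
        have hh := pow_gcd_eq_one.2 ⟨hk3, h2r⟩
        rwa [(Nat.prime_three.coprime_iff_not_dvd.2 fun h3 =>
          hr2 ((Nat.Coprime.dvd_mul_left (by norm_num : Nat.Coprime 3 2)).1 h3)).gcd_eq_one, pow_one] at hh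
      · have e := S.D.w_inverts h'
        have hk2 : k * k = 1 := by
          calc k * k = k * S.D.w * (S.D.w * (k * S.D.w) * S.D.w⁻¹) := by
                rw [show k * S.D.w * (S.D.w * (k * S.D.w) * S.D.w⁻¹) = k * (S.D.w * S.D.w) * k by group,
                  S.D.w2, mul_one]
            _ = 1 := by rw [e, mul_inv_cancel]
        rwa [pow_succ, pow_two, hk2, one_mul] at hk3
    rw [hk, hk1, map_one, conj_eq_one_iff] at hdiff
    exact Subtype.ext (mul_inv_eq_one.1 (S.inj (hdiff.trans (map_one _).symm)))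
  have hle := Nat.card_le_card_of_injective j hinj
  rw [S.D.card_U, Nat.card_eq_fintype_card, Fintype.card_fin] at hle
  have := S.D.q27
  omega

end Cfsg.Agent.Spor.Gold
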