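import Cfsg.Agent.Lib.Spor.Gold.ReeK
import Cfsg.Agent.Lib.Char.Induce
import Cfsg.Agent.Lib.Char.Constituent

/-!
Class functions of `PSL₂(q)` supported on elements of odd order.
-/

open scoped ComplexConjugate

set_option autoImplicit false
set_option linter.unusedSectionVars false
set_option linter.style.haveILetI false

open scoped Classical

namespace Cfsg.Agent.Spor.Gold.KData

open Cfsg Cfsg.Agent.Char

universe u

variable {P : Type u} [Group P] [Fintype P] (K : KData P)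

theorem sum_ite_mem (H : Subgroup P) (F : P → ℂ) :
    ∑ g : P, (if g ∈ H then F g else 0) = ∑ b : H, F b := by
  rw [← Finset.sum_filter]
  exact Finset.sum_subtype _ (fun x => by simp) F

/-- The nontrivial elements of `U`. -/
noncomputable def Ush : Finset P := Finset.univ.filter fun z => z ∈ K.U ∧ z ≠ 1

theorem mem_Ush {z : P} : z ∈ K.Ush ↔ z ∈ K.U ∧ z ≠ 1 := by simp [Ush]

theorem sum_U (F : P → ℂ) : ∑ z : K.U, F z = F 1 + ∑ z ∈ K.Ush, F z := by
  rw [← sum_ite_mem K.U F, ← Finset.sum_filter,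
    ← Finset.add_sum_erase _ _ (show (1 : P) ∈ Finset.univ.filter (· ∈ K.U) by simp [one_mem])]
  congr 1
  refine Finset.sum_congr ?_ fun _ _ => rfl
  ext z
  simp [Ush, and_comm]

theorem card_Ush : K.Ush.card = K.q - 1 := by
  have : K.Ush = (Finset.univ.filter (· ∈ K.U)).erase 1 := by ext z; simp [Ush, and_comm]
  rw [this, Finset.card_erase_of_mem (by simp [one_mem]), ← K.card_U, Nat.card_eq_fintype_card,
    Fintype.card_subtype]

/-- The two orbits of `B` on the nontrivial elements of `U`. -/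
theorem sum_uni {a : P} (ha : a ∈ K.U) (ha1 : a ≠ 1) (F : P → ℂ) :
    (K.q : ℂ) * ∑ z ∈ K.Ush, F z =
      ∑ b : K.B, (F ((b : P)⁻¹ * a * b) + F ((b : P)⁻¹ * a⁻¹ * b)) := by
  let φ : K.B × Bool → P := fun p => (p.1 : P)⁻¹ * (bif p.2 then a else a⁻¹) * p.1
  have hR : ∑ b : K.B, (F ((b : P)⁻¹ * a * b) + F ((b : P)⁻¹ * a⁻¹ * b)) = ∑ p : K.B × Bool, F (φ p) := by
    rw [Fintype.sum_prod_type]
    exact Finset.sum_congr rfl fun b _ => by simp [φ]
  have hsub : ∀ p ∈ (Finset.univ : Finset (K.B × Bool)), φ p ∈ K.Ush := by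
    rintro ⟨b, s⟩ -
    refine K.mem_Ush.2 ⟨?_, fun e => ha1 ?_⟩
    · cases s
      · exact K.conj_mem_U (inv_mem ha) b.2
      · exact K.conj_mem_U ha b.2
    · have h : (bif s then a else a⁻¹) = 1 := by
        rw [show (bif s then a else a⁻¹) = (b : P) * φ (b, s) * (b : P)⁻¹ by simp [φ]; group, e]
        group
      cases s
      · exact inv_eq_one.1 h
      · exact h
  have hfib : ∀ p : K.B × Bool, (Finset.univ.filter fun p' => φ p' = φ p).card = K.q := by
    rintro ⟨b0, s0⟩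
    rw [← K.card_U, Nat.card_eq_fintype_card, ← Fintype.card_subtype]
    refine Fintype.card_congr
      { toFun := fun p => ⟨(p.1.1 : P) * (b0 : P)⁻¹, ?_⟩
        invFun := fun z => ⟨(⟨(z : P), K.U_le_B z.2⟩ * b0, s0), ?_⟩
        left_inv := ?_
        right_inv := fun z => Subtype.ext (by simp) }
    · obtain ⟨⟨b, s⟩, hp⟩ := p
      simp only [φ] at hp ⊢
      set c := (b : P) * (b0 : P)⁻¹ with hc
      have hcB : c ∈ K.B := mul_mem b.2 (inv_mem b0.2)
      have e : c⁻¹ * (bif s then a else a⁻¹) * c = bif s0 then a else a⁻¹ := by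
        rw [hc]
        calc ((b : P) * (b0 : P)⁻¹)⁻¹ * (bif s then a else a⁻¹) * ((b : P) * (b0 : P)⁻¹)
            = (b0 : P) * ((b : P)⁻¹ * (bif s then a else a⁻¹) * b) * (b0 : P)⁻¹ := by group
          _ = _ := by rw [hp]; group
      cases s <;> cases s0 <;> simp only [cond_true, cond_false] at e
      · refine K.U_cent ha ha1 ?_
        have e' : c⁻¹ * a * c = a := inv_injective (by simpa [mul_assoc] using e)
        calc c * a = c * (c⁻¹ * a * c) := by rw [e']
          _ = a * c := by group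
      · exact (K.no_inversion (inv_mem ha) (inv_ne_one.2 ha1) hcB (by rw [inv_inv]; exact e)).elim
      · exact (K.no_inversion ha ha1 hcB e).elim
      · refine K.U_cent ha ha1 ?_
        calc c * a = c * (c⁻¹ * a * c) := by rw [e]
          _ = a * c := by group
    · simp only [φ, Subgroup.coe_mul]
      have hz : ∀ x : P, x ∈ K.U → (z : P)⁻¹ * x * z = x := fun x hx => by
        rw [mul_assoc, K.U_comm hx z.2, inv_mul_cancel_left]
      have hs : (bif s0 then a else a⁻¹) ∈ K.U := by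
        cases s0
        · exact inv_mem ha
        · exact ha
      calc ((z : P) * b0)⁻¹ * (bif s0 then a else a⁻¹) * ((z : P) * b0)
          = (b0 : P)⁻¹ * ((z : P)⁻¹ * (bif s0 then a else a⁻¹) * z) * b0 := by group
        _ = _ := by rw [hz _ hs]
    · rintro ⟨⟨b, s⟩, hp⟩
      refine Subtype.ext (Prod.ext (Subtype.ext (by simp)) ?_)
      simp only [φ] at hp
      show s0 = s
      have hcB : (b : P) * (b0 : P)⁻¹ ∈ K.B := mul_mem b.2 (inv_mem b0.2)
      have e : ((b : P) * (b0 : P)⁻¹)⁻¹ * (bif s then a else a⁻¹) * ((b : P) * (b0 : P)⁻¹) =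
          bif s0 then a else a⁻¹ := by
        calc ((b : P) * (b0 : P)⁻¹)⁻¹ * (bif s then a else a⁻¹) * ((b : P) * (b0 : P)⁻¹)
            = (b0 : P) * ((b : P)⁻¹ * (bif s then a else a⁻¹) * b) * (b0 : P)⁻¹ := by group
          _ = _ := by rw [hp]; group
      cases s <;> cases s0 <;> simp only [cond_true, cond_false] at e
      · rfl
      · exact (K.no_inversion (inv_mem ha) (inv_ne_one.2 ha1) hcB (by rw [inv_inv]; exact e)).elim
      · exact (K.no_inversion ha ha1 hcB e).elim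
      · rfl
  have hcard : (Finset.univ.image φ).card * K.q = K.q * (2 * K.m) := by
    have h := Finset.card_eq_sum_card_fiberwise (f := φ) (t := Finset.univ.image φ)
      (fun p hp => Finset.mem_image_of_mem φ hp)
    rw [Finset.sum_const_nat (m := K.q) fun z hz => ?_] at h
    · rw [← h, Finset.card_univ, Fintype.card_prod, ← Nat.card_eq_fintype_card, K.card_B,
        Fintype.card_bool]
      ring
    · obtain ⟨p, -, rfl⟩ := Finset.mem_image.1 hz
      exact hfib p
  have himg : Finset.univ.image φ = K.Ush := by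
    refine Finset.eq_of_subset_of_card_le (Finset.image_subset_iff.2 hsub) ?_
    have h2 : (Finset.univ.image φ).card = 2 * K.m :=
      Nat.eq_of_mul_eq_mul_right (show 0 < K.q by have := K.q27; omega) (hcard.trans (mul_comm _ _))
    rw [K.card_Ush, h2]
    have := K.q_eq'
    omega
  rw [hR, Finset.sum_comp F φ, himg, Finset.mul_sum]
  refine Finset.sum_congr rfl fun z hz => ?_
  rw [← himg] at hz
  obtain ⟨p, -, rfl⟩ := Finset.mem_image.1 hz
  rw [hfib p, nsmul_eq_mul]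

/-! ### A character of `U` -/

theorem U_comm' (a b : K.U) : a * b = b * a := Subtype.ext (K.U_comm a.2 b.2)

theorem exists_lam : ∃ l : IrrCharacter K.U, (l : K.U → ℂ) ≠ fun _ => 1 := by
  by_contra hno
  push Not at hno
  have h := regular_expansion (⟨K.h, K.h_mem⟩ : K.U)
  rw [if_neg fun e => K.h1 (congrArg Subtype.val e)] at h
  have hs : ∀ χ : IrrCharacter K.U, (χ : K.U → ℂ) 1 * (χ : K.U → ℂ) ⟨K.h, K.h_mem⟩ = 1 := fun χ => by
    simp [hno χ]
  rw [Finset.sum_congr rfl fun χ _ => hs χ, Finset.sum_const, nsmul_eq_mul, mul_one] at h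
  haveI : Nonempty (IrrCharacter K.U) := ⟨⟨_, isIrr_one⟩⟩
  exact absurd h (Nat.cast_ne_zero.2 Fintype.card_ne_zero)

/-- A nontrivial character of `U` plus its conjugate. -/
noncomputable def L (z : K.U) : ℂ :=
  (K.exists_lam.choose : K.U → ℂ) z + conj ((K.exists_lam.choose : K.U → ℂ) z)

theorem L_one : K.L 1 = 2 := by
  rw [L, IsIrr.one_of_comm K.U_comm' K.exists_lam.choose.2, map_one]; norm_num

theorem L_inv (z : K.U) : K.L z⁻¹ = K.L z := by
  rw [L, L, IsIrr.apply_inv K.exists_lam.choose.2, Complex.conj_conj, add_comm]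

theorem L_char : IsCharacter K.U K.L :=
  IsChar.add (IsIrr.isCharacter K.exists_lam.choose.2)
    (IsChar.conj (IsIrr.isCharacter K.exists_lam.choose.2))

/-- Extended to the whole group. -/
noncomputable def Lx : P → ℂ := extendByZero K.U K.L

theorem Lx_of {z : P} (hz : z ∈ K.U) : K.Lx z = K.L ⟨z, hz⟩ := extendByZero_of_mem _ hz

theorem sum_Lx : ∑ z ∈ K.Ush, K.Lx z = -2 := by
  have h0 : ∑ z : K.U, (K.exists_lam.choose : K.U → ℂ) z = 0 := by
    have h := classInner_irr_ne K.exists_lam.choose.2 (isIrr_one (G := K.U)) K.exists_lam.choose_spec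
    simpa [classInner, Nat.card_pos.ne'] using h
  have h1 : ∑ z : K.U, K.Lx z = 0 := by
    have e : ∀ z : K.U, K.Lx z = K.L z := fun z => extendByZero_apply K.L z
    rw [Finset.sum_congr rfl fun z _ => e z]
    unfold L
    rw [Finset.sum_add_distrib, h0, ← map_sum, h0, map_zero, add_zero]
  rw [K.sum_U, K.Lx_of (one_mem _)] at h1
  have : K.L ⟨1, one_mem _⟩ = 2 := K.L_one
  rw [this] at h1
  linear_combination h1

theorem sum_L_conj {a : P} (ha : a ∈ K.U) (ha1 : a ≠ 1) :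
    ∑ b : K.B, K.Lx ((b : P)⁻¹ * a * b) = -(K.q : ℂ) := by
  have h := K.sum_uni ha ha1 K.Lx
  rw [K.sum_Lx, Finset.sum_add_distrib] at h
  have e : ∀ b : K.B, K.Lx ((b : P)⁻¹ * a⁻¹ * b) = K.Lx ((b : P)⁻¹ * a * b) := fun b => by
    rw [K.Lx_of (K.conj_mem_U (inv_mem ha) b.2), K.Lx_of (K.conj_mem_U ha b.2), ← K.L_inv]
    congr 1
    exact Subtype.ext (by simp [mul_assoc])
  rw [Finset.sum_congr rfl fun b _ => e b] at h
  linear_combination (-(1 : ℂ) / 2) * h

/-- `Γ`. -/
noncomputable def Gam : P → ℂ := indFun K.U K.L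

theorem Gam_U {a : P} (ha : a ∈ K.U) (ha1 : a ≠ 1) : K.Gam a = -1 := by
  have hval : ∀ g : P, extendByZero K.U K.L (g⁻¹ * a * g) =
      if g ∈ K.B then K.Lx (g⁻¹ * a * g) else 0 := fun g => by
    split_ifs with hg
    · rfl
    · exact extendByZero_not_mem _ fun h => hg (K.conj_U ha ha1 h)
  simp only [Gam, indFun, hval]
  rw [sum_ite_mem K.B (fun g => K.Lx (g⁻¹ * a * g)), K.sum_L_conj ha ha1, K.card_U]
  have : (K.q : ℂ) ≠ 0 := Nat.cast_ne_zero.2 (by have := K.q27; omega)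
  field_simp

theorem Gam_one : K.Gam 1 = (K.q : ℂ) ^ 2 - 1 := by
  rw [Gam, indFun_one_eq, K.L_one]
  have h := Subgroup.card_mul_index K.U
  rw [K.card_U, K.card_P] at h
  have h' : K.U.index = K.m * (4 * K.r) :=
    Nat.eq_of_mul_eq_mul_left (show 0 < K.q by have := K.q27; omega) (h.trans (mul_assoc _ _ _))
  rw [h']
  have e1 : (K.q : ℂ) + 1 = 4 * K.r := by exact_mod_cast K.q_eq
  have e2 : (K.q : ℂ) = 2 * K.m + 1 := by exact_mod_cast K.q_eq'
  push_cast
  linear_combination (-(2 : ℂ) * K.m) * e1 - ((K.q : ℂ) + 1) * e2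

theorem Gam_Y {y : P} (hy : y ∈ K.Y) (hy1 : y ≠ 1) : K.Gam y = 0 := by
  refine indFun_eq_zero_of_not_conj _ _ fun g hg => absurd ?_ hy1
  have h3 := K.U_exp hg
  rw [show g⁻¹ * y * g = g⁻¹ * y * g⁻¹⁻¹ by rw [inv_inv], conj_pow] at h3
  have h := pow_gcd_eq_one.2 ⟨conj_eq_one_iff.1 h3, hy.2⟩
  rwa [(Nat.prime_three.coprime_iff_not_dvd.2 K.three_r : Nat.Coprime 3 K.r).gcd_eq_one, pow_one] at h

/-! ### The torus -/

theorem Y_comm' (a b : K.Y) : a * b = b * a := Subtype.ext (K.T_comm a.2.1 b.2.1)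

theorem irrY_one (l : IrrCharacter K.Y) : (l : K.Y → ℂ) 1 = 1 := IsIrr.one_of_comm K.Y_comm' l.2

theorem indY {y : P} (hy : y ∈ K.Y) (hy1 : y ≠ 1) (l : IrrCharacter K.Y) :
    indFun K.Y (l : K.Y → ℂ) y =
      2 * ((l : K.Y → ℂ) ⟨y, hy⟩ + conj ((l : K.Y → ℂ) ⟨y, hy⟩)) := by
  have hval : ∀ g : P, extendByZero K.Y (l : K.Y → ℂ) (g⁻¹ * y * g) =
      (if g ∈ K.T then (l : K.Y → ℂ) ⟨y, hy⟩ else 0) +
        if g * K.w ∈ K.T then conj ((l : K.Y → ℂ) ⟨y, hy⟩) else 0 := fun g => by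
    by_cases hg : g ∈ K.T
    · have hgw : g * K.w ∉ K.T := fun h => K.w_not_mem (by
        simpa using mul_mem (inv_mem hg) h)
      rw [if_pos hg, if_neg hgw, add_zero, K.conj_T hy hg, extendByZero_of_mem _ hy]
    by_cases hgw : g * K.w ∈ K.T
    · rw [if_neg hg, if_pos hgw, zero_add, K.conj_Tw hy hgw, extendByZero_of_mem _ (inv_mem hy),
        ← IsIrr.apply_inv l.2]
      rfl
    · rw [if_neg hg, if_neg hgw, add_zero, extendByZero_not_mem]
      exact fun h => (K.conj_Y hy hy1 h).elim hg hgw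
  simp only [indFun, hval]
  rw [Finset.sum_add_distrib, Fintype.sum_equiv (Equiv.mulRight K.w)
    (fun g => if g * K.w ∈ K.T then conj ((l : K.Y → ℂ) ⟨y, hy⟩) else 0)
    (fun g => if g ∈ K.T then conj ((l : K.Y → ℂ) ⟨y, hy⟩) else 0) (fun g => rfl),
    sum_ite_mem K.T (fun _ => (l : K.Y → ℂ) ⟨y, hy⟩),
    sum_ite_mem K.T (fun _ => conj ((l : K.Y → ℂ) ⟨y, hy⟩)), Finset.sum_const, Finset.sum_const,
    Finset.card_univ, ← Nat.card_eq_fintype_card, K.card_T, K.card_Y, nsmul_eq_mul, nsmul_eq_mul]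
  have : (K.r : ℂ) ≠ 0 := Nat.cast_ne_zero.2 (by have := K.r_ge; omega)
  push_cast
  field_simp

/-- `Φ`. -/
noncomputable def Phi (l : IrrCharacter K.Y) : P → ℂ :=
  fun a => 2 * K.Gam a - indFun K.Y (l : K.Y → ℂ) a

theorem Phi_gen (l : IrrCharacter K.Y) : IsGeneralizedCharacter P (K.Phi l) := by
  have h1 := IsGenChar.zsmul (IsGenChar.of_isCharacter (isCharacter_indFun K.U K.L_char)) 2
  have h2 := IsGenChar.of_isCharacter (isCharacter_indFun K.Y (IsIrr.isCharacter l.2))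
  have h3 := IsGenChar.sub h1 h2
  have e : K.Phi l = ((2 : ℤ) : ℂ) • indFun K.U K.L - indFun K.Y (l : K.Y → ℂ) := by
    funext a; simp [Phi, Gam]
  rw [e]; exact h3

theorem Phi_class (l : IrrCharacter K.Y) : IsClassFunction P (K.Phi l) :=
  IsGenChar.classFun (K.Phi_gen l)

theorem Phi_one (l : IrrCharacter K.Y) : K.Phi l 1 = 2 * ((K.q : ℂ) - 1) := by
  rw [Phi, K.Gam_one, indFun_one_eq, K.irrY_one, mul_one]
  have h := Subgroup.card_mul_index K.Y
  rw [K.card_Y, K.card_P] at h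
  have h' : K.Y.index = K.q * K.m * 4 :=
    Nat.eq_of_mul_eq_mul_left (show 0 < K.r by have := K.r_ge; omega) (h.trans (by ring))
  rw [h']
  have e2 : (K.q : ℂ) = 2 * K.m + 1 := by exact_mod_cast K.q_eq'
  push_cast
  linear_combination (2 * (K.q : ℂ)) * e2

theorem Phi_U (l : IrrCharacter K.Y) {a : P} (ha : a ∈ K.U) (ha1 : a ≠ 1) : K.Phi l a = -2 := by
  rw [Phi, K.Gam_U ha ha1, indFun_eq_zero_of_not_conj]
  · ring
  intro g hg
  refine absurd ?_ ha1
  have h3 := hg.2
  rw [show g⁻¹ * a * g = g⁻¹ * a * g⁻¹⁻¹ by rw [inv_inv], conj_pow] at h3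
  have h := pow_gcd_eq_one.2 ⟨K.U_exp ha, conj_eq_one_iff.1 h3⟩
  rwa [(Nat.prime_three.coprime_iff_not_dvd.2 K.three_r : Nat.Coprime 3 K.r).gcd_eq_one, pow_one] at h

theorem Phi_Y (l : IrrCharacter K.Y) {y : P} (hy : y ∈ K.Y) (hy1 : y ≠ 1) :
    K.Phi l y = -2 * ((l : K.Y → ℂ) ⟨y, hy⟩ + conj ((l : K.Y → ℂ) ⟨y, hy⟩)) := by
  rw [Phi, K.Gam_Y hy hy1, K.indY hy hy1]; ring

theorem Phi_supp (l : IrrCharacter K.Y) {a : P} (h : K.Phi l a ≠ 0) : a ^ K.E = 1 := by
  by_contra hE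
  refine h ?_
  rw [Phi, Gam, indFun_eq_zero_of_not_conj K.U _ fun g hg => absurd (K.pow_E_of_B (K.U_le_B hg)) hE,
    indFun_eq_zero_of_not_conj K.Y _ fun g hg => absurd (K.pow_E_of_Y hg) hE]
  ring

theorem classInner_Phi_left (l : IrrCharacter K.Y) {F : P → ℂ} (hF : IsClassFunction P F) :
    classInner (K.Phi l) F =
      2 * classInner K.L (fun z : K.U => F z) - classInner (l : K.Y → ℂ) (fun y : K.Y => F y) := by
  rw [show K.Phi l = (2 : ℂ) • indFun K.U K.L - indFun K.Y (l : K.Y → ℂ) from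
    funext fun a => by simp [Phi, Gam], classInner_sub_left, classInner_smul_left,
    classInner_indFun _ _ hF, classInner_indFun _ _ hF]

theorem classInner_L {F : P → ℂ} :
    classInner K.L (fun z : K.U => F z) =
      (K.q : ℂ)⁻¹ * (2 * conj (F 1) + ∑ z ∈ K.Ush, K.Lx z * conj (F z)) := by
  rw [classInner, K.card_U]
  congr 1
  rw [Finset.sum_congr rfl (g := fun z : K.U => K.Lx z * conj (F z))
    (fun z _ => by rw [show K.Lx z = K.L z from extendByZero_apply _ z]),
    K.sum_U (fun z => K.Lx z * conj (F z)), K.Lx_of (one_mem _)]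
  rw [show K.L ⟨1, one_mem _⟩ = 2 from K.L_one]

theorem sum_Y_delta (c : ℂ) :
    ∑ y : K.Y, (if (y : P) = 1 then c else 0) = c := by
  rw [Finset.sum_eq_single (1 : K.Y)]
  · rw [if_pos (by simp)]
  · exact fun b _ hb => if_neg fun e => hb (Subtype.ext e)
  · exact fun h => absurd (Finset.mem_univ _) h

theorem classInner_Phi (l l' : IrrCharacter K.Y) :
    classInner (K.Phi l) (K.Phi l') = 2 * ((if (l : K.Y → ℂ) = (l' : K.Y → ℂ) then 1 else 0) +
      if (l : K.Y → ℂ) = (fun y => conj ((l' : K.Y → ℂ) y)) then 1 else 0) := by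
  rw [K.classInner_Phi_left l (K.Phi_class l'), K.classInner_L, K.Phi_one,
    Finset.sum_congr rfl (g := fun z => K.Lx z * -2) (fun z hz => by
      rw [K.Phi_U l' (K.mem_Ush.1 hz).1 (K.mem_Ush.1 hz).2, map_neg, Complex.conj_ofNat]),
    ← Finset.sum_mul, K.sum_Lx]
  have hl' : ∀ y : K.Y, K.Phi l' y = -2 * ((l' : K.Y → ℂ) y + conj ((l' : K.Y → ℂ) y)) +
      if (y : P) = 1 then 2 * ((K.q : ℂ) - 1) + 4 else 0 := fun y => by
    by_cases hy : (y : P) = 1
    · rw [if_pos hy, hy, K.Phi_one, show y = 1 from Subtype.ext hy, K.irrY_one, map_one]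
      ring
    · rw [if_neg hy, add_zero, K.Phi_Y l' y.2 hy]
  have hY : classInner (l : K.Y → ℂ) (fun y : K.Y => K.Phi l' y) =
      -2 * (classInner (l : K.Y → ℂ) (l' : K.Y → ℂ) +
        classInner (l : K.Y → ℂ) (fun y => conj ((l' : K.Y → ℂ) y))) +
        (K.r : ℂ)⁻¹ * (2 * (K.q : ℂ) + 2) := by
    have key : ∀ y : K.Y, (l : K.Y → ℂ) y * conj (K.Phi l' y) =
        -2 * ((l : K.Y → ℂ) y * conj ((l' : K.Y → ℂ) y) +
          (l : K.Y → ℂ) y * conj (conj ((l' : K.Y → ℂ) y))) +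
        (if (y : P) = 1 then 2 * (K.q : ℂ) + 2 else 0) := fun y => by
      rw [hl']
      split_ifs with hy
      · rw [show y = 1 from Subtype.ext hy, K.irrY_one, K.irrY_one]
        simp only [map_add, map_mul, map_sub, map_neg, map_one, Complex.conj_ofNat,
          Complex.conj_natCast]
        ring
      · simp only [map_add, map_mul, map_neg, Complex.conj_ofNat, map_zero]
        ring
    simp only [classInner, K.card_Y]
    rw [Finset.sum_congr rfl fun y _ => key y, Finset.sum_add_distrib, sum_Y_delta,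
      ← Finset.mul_sum, Finset.sum_add_distrib]
    ring
  rw [hY, classInner_irr_eq_ite l.2 l'.2, classInner_irr_eq_ite l.2 (IsIrr.conj l'.2)]
  have hq : (K.q : ℂ) ≠ 0 := Nat.cast_ne_zero.2 (by have := K.q27; omega)
  have hr : (K.r : ℂ) ≠ 0 := Nat.cast_ne_zero.2 (by have := K.r_ge; omega)
  have e1 : (K.q : ℂ) + 1 = 4 * K.r := by exact_mod_cast K.q_eq
  rw [show 2 * (K.q : ℂ) + 2 = 8 * K.r by linear_combination (2 : ℂ) * e1,
    map_mul, map_sub, map_one, Complex.conj_natCast, Complex.conj_ofNat]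
  field_simp
  ring

end Cfsg.Agent.Spor.Gold.KData
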