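import Cfsg.Agent.Lib.Spor.Gold.ReeFusion
import Cfsg.Agent.Lib.Spor.Gold.ReeFun
import Mathlib.RingTheory.RootsOfUnity.Complex

/-!
The linear characters of `{1, t, u, tu} × Y` used for coherence.
-/

open scoped ComplexConjugate

set_option autoImplicit false
set_option linter.unusedSectionVars false
set_option linter.style.haveILetI false

open scoped Classical

namespace Cfsg.Agent.Spor.Gold

open Cfsg Cfsg.Agent.Char

universe u v

variable {G : Type u} [Group G] {P : Type v} [Group P] [Fintype P]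

theorem KData.isCyclic_Y (K : KData P) : IsCyclic K.Y := by
  haveI : IsCyclic K.T := K.D.semi_cyclic K.u1 K.u3
  exact isCyclic_of_injective (Subgroup.inclusion K.Y_le) (Subgroup.inclusion_injective _)

theorem KData.exists_l0 (K : KData P) : ∃ l : K.Y →* ℂˣ, Function.Injective l := by
  haveI := K.isCyclic_Y
  haveI : NeZero K.r := ⟨by have := K.r_ge; omega⟩
  let e : K.Y ≃* rootsOfUnity K.r ℂ := mulEquivOfCyclicCardEq (by
    rw [K.card_Y, Complex.card_rootsOfUnity])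
  exact ⟨(rootsOfUnity K.r ℂ).subtype.comp e.toMonoidHom,
    Subtype.val_injective.comp e.injective⟩

namespace Cyc

variable {S : Setting G P} (K : Cyc S)
include K

/-- A faithful linear character of `Y`. -/
noncomputable def l0 (_K : Cyc S) : S.D.Y →* ℂˣ := S.D.exists_l0.choose

theorem l0_inj : Function.Injective K.l0 := S.D.exists_l0.choose_spec

theorem g_mod (n : ℕ) : K.g ^ n = K.g ^ (n % 3) := by
  conv_lhs => rw [← Nat.div_add_mod n 3, pow_add, pow_mul, K.g3, one_pow, one_mul]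

theorem g_add (a b : Fin 3) : K.g ^ ((a + b : Fin 3) : ℕ) = K.g ^ (a : ℕ) * K.g ^ (b : ℕ) := by
  rw [← pow_add, Fin.val_add, ← K.g_mod]

theorem g_neg (a : Fin 3) : (K.g ^ (a : ℕ))⁻¹ = K.g ^ ((-a : Fin 3) : ℕ) :=
  inv_eq_of_mul_eq_one_right (by rw [← K.g_add, add_neg_cancel, Fin.val_zero, pow_zero])

theorem conj_v (i j : Fin 3) :
    K.g ^ (j : ℕ) * K.v i * (K.g ^ (j : ℕ))⁻¹ = K.v (i + j) := by
  simp only [v]
  rw [add_comm i j, K.g_add]
  group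

theorem σ_pow' (i : Fin 3) (y : S.D.Y) :
    K.g ^ (i : ℕ) * S.ι y * (K.g ^ (i : ℕ))⁻¹ = S.ι (((K.σ : S.D.Y → S.D.Y)^[(i : ℕ)]) y) :=
  K.σ_pow _ y

theorem σ_mod (n : ℕ) (y : S.D.Y) :
    ((K.σ : S.D.Y → S.D.Y)^[n]) y = ((K.σ : S.D.Y → S.D.Y)^[n % 3]) y :=
  Subtype.ext (S.inj (by rw [← K.σ_pow, ← K.σ_pow, ← K.g_mod]))

/-- The powers of `σ`. -/
noncomputable def σi (i : Fin 3) : S.D.Y →* S.D.Y :=
  MonoidHom.mk' (fun y => ((K.σ : S.D.Y → S.D.Y)^[(i : ℕ)]) y) fun a b => iterate_map_mul K.σ _ a b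

theorem σi_apply (i : Fin 3) (y : S.D.Y) :
    K.σi i y = ((K.σ : S.D.Y → S.D.Y)^[(i : ℕ)]) y := rfl

theorem σi_spec (i : Fin 3) (y : S.D.Y) :
    K.g ^ (i : ℕ) * S.ι y * (K.g ^ (i : ℕ))⁻¹ = S.ι (K.σi i y) := K.σ_pow _ y

theorem σi_add (a b : Fin 3) (y : S.D.Y) : K.σi a (K.σi b y) = K.σi (a + b) y := by
  simp only [σi_apply]
  rw [← Function.iterate_add_apply, Fin.val_add, K.σ_mod]

theorem σi_zero (y : S.D.Y) : K.σi 0 y = y := rfl

/-- `σⁱ` as a permutation. -/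
noncomputable def σe (i : Fin 3) : S.D.Y ≃ S.D.Y where
  toFun := K.σi i
  invFun := K.σi (-i)
  left_inv y := by rw [K.σi_add, neg_add_cancel, K.σi_zero]
  right_inv y := by rw [K.σi_add, add_neg_cancel, K.σi_zero]

/-- The conjugates of the character. -/
noncomputable def th (i : Fin 3) : IrrCharacter S.D.Y :=
  ⟨fun y => (K.l0 (K.σi i y) : ℂ), isIrr_linear (K.l0.comp (K.σi i))⟩

theorem th_apply (i : Fin 3) (y : S.D.Y) : (K.th i : S.D.Y → ℂ) y = (K.l0 (K.σi i y) : ℂ) := rfl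

theorem th_shift (a i : Fin 3) (y : S.D.Y) :
    (K.th a : S.D.Y → ℂ) (K.σi i y) = (K.th (a + i) : S.D.Y → ℂ) y := by
  rw [th_apply, th_apply, K.σi_add]

theorem σi_fixed (hnc : ∃ y : S.D.Y, K.σ y ≠ y) {i : Fin 3} (h : ∀ y, K.σi i y = y) : i = 0 := by
  obtain ⟨y, hy⟩ := hnc
  fin_cases i
  · rfl
  · exact absurd (h y) hy
  · have e : K.σi ((2 : Fin 3) + 2) y = y := by
      rw [← K.σi_add]
      exact (congrArg (K.σi 2) (h y)).trans (h y)
    exact absurd e hy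

theorem th_inj (hnc : ∃ y : S.D.Y, K.σ y ≠ y) {a b : Fin 3}
    (h : (K.th a : S.D.Y → ℂ) = K.th b) : a = b := by
  have h1 : ∀ y, K.σi a y = K.σi b y := fun y => K.l0_inj (Units.ext (congrFun h y))
  refine sub_eq_zero.1 (K.σi_fixed hnc fun y => ?_)
  obtain ⟨z, rfl⟩ := (K.σe b).surjective y
  show K.σi (a - b) (K.σi b z) = K.σi b z
  rw [K.σi_add, sub_add_cancel, h1]

theorem th_ne_conj (a b : Fin 3) :
    (K.th a : S.D.Y → ℂ) ≠ fun y => conj ((K.th b : S.D.Y → ℂ) y) := by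
  intro h
  have h1 : ∀ y, K.σi a y = (K.σi b y)⁻¹ := fun y => K.l0_inj (Units.ext (by
    have := congrFun h y
    rw [← IsIrr.apply_inv (K.th b).2, th_apply, th_apply] at this
    rw [this, map_inv]))
  have h2 : ∀ z, K.σi (a - b) z = z⁻¹ := fun z => by
    obtain ⟨y, rfl⟩ := (K.σe b).surjective z
    show K.σi (a - b) (K.σi b y) = (K.σi b y)⁻¹
    rw [K.σi_add, sub_add_cancel, h1]
  obtain ⟨y, hy, hy1⟩ := (Subgroup.bot_or_exists_ne_one S.D.Y).resolve_left (fun e => by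
    have := S.D.card_Y
    rw [e, Subgroup.card_bot] at this
    have := S.D.r_ge
    omega)
  have e3 : K.σi (a - b) (K.σi (a - b) (K.σi (a - b) ⟨y, hy⟩)) = (⟨y, hy⟩ : S.D.Y)⁻¹ := by
    rw [h2 ⟨y, hy⟩, map_inv, h2 ⟨y, hy⟩, inv_inv, h2]
  rw [K.σi_add, K.σi_add] at e3
  generalize a - b = d at e3
  have e4 : K.σi 0 ⟨y, hy⟩ = (⟨y, hy⟩ : S.D.Y)⁻¹ := by
    rw [show (0 : Fin 3) = d + d + d by fin_cases d <;> rfl]
    exact e3
  exact S.D.Y_sq hy hy1 (mul_eq_one_iff_eq_inv.2 (congrArg Subtype.val e4))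

/-- A character plus its conjugate. -/
noncomputable def tau (i : Fin 3) (y : S.D.Y) : ℂ :=
  (K.th i : S.D.Y → ℂ) y + conj ((K.th i : S.D.Y → ℂ) y)

theorem tau_one (i : Fin 3) : K.tau i 1 = 2 := by
  simp only [tau, th_apply, map_one, Units.val_one]; norm_num

theorem sum_th_tau (hnc : ∃ y : S.D.Y, K.σ y ≠ y) (a b : Fin 3) :
    ∑ y : S.D.Y, (K.th a : S.D.Y → ℂ) y * conj (K.tau b y) =
      if a = b then (S.D.r : ℂ) else 0 := by
  have hr : (S.D.r : ℂ) ≠ 0 := Nat.cast_ne_zero.2 (by have := S.D.r_ge; omega)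
  have key : ∀ {f : S.D.Y → ℂ}, ∑ y : S.D.Y, (K.th a : S.D.Y → ℂ) y * conj (f y) =
      (S.D.r : ℂ) * classInner (K.th a : S.D.Y → ℂ) f := fun {f} => by
    rw [classInner, S.D.card_Y, mul_inv_cancel_left₀ hr]
  rw [key (f := K.tau b), show K.tau b = (K.th b : S.D.Y → ℂ) + fun y => conj ((K.th b : S.D.Y → ℂ) y)
    from rfl, classInner_add_right, classInner_irr_eq_ite (K.th a).2 (K.th b).2,
    classInner_irr_ne (K.th a).2 (IsIrr.conj (K.th b).2) (K.th_ne_conj a b), add_zero]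
  by_cases h : a = b
  · subst h; simp
  · rw [if_neg fun e => h (K.th_inj hnc e), if_neg h, mul_zero]

/-! ### The characters of `A` -/

theorem A_C {a : G} (ha : a ∈ K.A) : a ∈ S.C := (K.A_le ha).1

/-- Projection of `A` to the torus. -/
noncomputable def κA : K.A →* S.D.T :=
  MonoidHom.mk' (fun a => ⟨S.κ ⟨(a : G), K.A_C a.2⟩, by
    obtain ⟨k, hk, h⟩ := K.mem_A.1 a.2
    rw [S.κ_eq h]; exact hk⟩) fun a b => Subtype.ext (map_mul S.κ ⟨(a : G), K.A_C a.2⟩ ⟨(b : G), K.A_C b.2⟩)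

theorem κA_eq {a : K.A} {k : P} (h : (a : G) = S.ι k ∨ (a : G) = S.t * S.ι k) :
    (K.κA a : P) = k := S.κ_eq h

/-- Conjugation of `A` by a power of `g`. -/
noncomputable def cA (i : Fin 3) : K.A →* K.A :=
  MonoidHom.mk' (fun a => ⟨K.g ^ (i : ℕ) * a * (K.g ^ (i : ℕ))⁻¹, K.gpow_A _ a.2⟩)
    fun a b => Subtype.ext (by simp only [Subgroup.coe_mul]; group)

/-- The sign of the torus. -/
noncomputable def signT (_K : Cyc S) : S.D.T →* ℂˣ :=
  MonoidHom.mk' (fun k => if (k : P) ^ S.D.r = 1 then 1 else -1) fun a b => by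
    have hu : ∀ k : S.D.T, (k : P) ^ S.D.r = 1 ∨ (k : P) ^ S.D.r = S.D.u := fun k =>
      S.D.T_invol (pow_mem k.2 _) (by
        rw [← pow_add, ← two_mul, ← S.D.card_T]
        exact orderOf_dvd_iff_pow_eq_one.1 (Subgroup.orderOf_dvd_natCard _ k.2))
    have hab : ((a * b : S.D.T) : P) ^ S.D.r = (a : P) ^ S.D.r * (b : P) ^ S.D.r := by
      rw [Subgroup.coe_mul, (show Commute (a : P) b from S.D.T_comm a.2 b.2).mul_pow]
    rw [Subgroup.coe_mul] at hab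
    rcases hu a with ha | ha <;> rcases hu b with hb | hb <;>
      simp [hab, ha, hb, S.D.u1, S.D.u2]

/-- The projection of the torus to `Y`. -/
noncomputable def partY (_K : Cyc S) : S.D.T →* S.D.Y :=
  MonoidHom.mk' (fun k => ⟨(k : P) ^ (S.D.r + 1), pow_mem k.2 _, by
    rw [← pow_mul, show (S.D.r + 1) * S.D.r = 2 * S.D.r * ((S.D.r + 1) / 2) by
      obtain ⟨j, hj⟩ := S.D.r_odd
      rw [hj, show (2 * j + 1 + 1) / 2 = j + 1 by omega]; ring, pow_mul, ← S.D.card_T,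
      orderOf_dvd_iff_pow_eq_one.1 (Subgroup.orderOf_dvd_natCard _ k.2), one_pow]⟩)
    fun a b => Subtype.ext (by
      simp only [Subgroup.coe_mul]
      rw [(show Commute (a : P) b from S.D.T_comm a.2 b.2).mul_pow])

/-- The linear characters of `A`. -/
noncomputable def lam (b : Fin 3) : K.A →* ℂˣ :=
  K.signT.comp (K.κA.comp (K.cA (-b))) * K.l0.comp (K.partY.comp K.κA)

theorem partY_Y {y : P} (hy : y ∈ S.D.Y) : K.partY ⟨y, hy.1⟩ = ⟨y, hy⟩ := Subtype.ext (by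
  show y ^ (S.D.r + 1) = y
  rw [pow_succ, hy.2, one_mul])

theorem lam_Y (b : Fin 3) (y : S.D.Y) : K.lam b ⟨S.ι y, K.Y_A y.2⟩ = K.l0 y := by
  have hc : (K.cA (-b) ⟨S.ι y, K.Y_A y.2⟩ : G) = S.ι (K.σi (-b) y) := K.σi_spec _ y
  have h1 : K.κA (K.cA (-b) ⟨S.ι y, K.Y_A y.2⟩) = ⟨_, (K.σi (-b) y).2.1⟩ :=
    Subtype.ext (K.κA_eq (Or.inl hc))
  have h2 : K.κA ⟨S.ι y, K.Y_A y.2⟩ = ⟨_, y.2.1⟩ := Subtype.ext (K.κA_eq (Or.inl rfl))
  simp only [lam, MonoidHom.mul_apply, MonoidHom.coe_comp, Function.comp_apply, h1, h2]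
  rw [K.partY_Y y.2]
  simp [signT, (K.σi (-b) y).2.2]

theorem κ_v (i : Fin 3) :
    ∃ k, (k = if i = 0 then 1 else S.D.u) ∧ (K.v i = S.ι k ∨ K.v i = S.t * S.ι k) := by
  fin_cases i
  · exact ⟨1, by simp, Or.inr (by simp [K.v0])⟩
  · exact ⟨S.D.u, by simp, Or.inl (by simp [K.v1])⟩
  · exact ⟨S.D.u, by simp [Fin.ext_iff], Or.inr (by simp [K.v2])⟩

theorem vy_A (i : Fin 3) (y : S.D.Y) : K.v i * S.ι y ∈ K.A := mul_mem (K.v_A i) (K.Y_A y.2)

theorem lam_v (b i : Fin 3) (y : S.D.Y) :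
    (K.lam b ⟨K.v i * S.ι y, K.vy_A i y⟩ : ℂ) = (if b = i then 1 else -1) * (K.l0 y : ℂ) := by
  have hsplit : (⟨K.v i * S.ι y, K.vy_A i y⟩ : K.A) =
      ⟨K.v i, K.v_A i⟩ * ⟨S.ι y, K.Y_A y.2⟩ := rfl
  rw [hsplit, map_mul, Units.val_mul, K.lam_Y]
  congr 1
  obtain ⟨k, hk, hv⟩ := K.κ_v i
  obtain ⟨l, hl, hw⟩ := K.κ_v (i - b)
  have hc : (K.cA (-b) ⟨K.v i, K.v_A i⟩ : G) = K.v (i - b) := by
    rw [sub_eq_add_neg]; exact K.conj_v i (-b)
  have h1 : (K.κA (K.cA (-b) ⟨K.v i, K.v_A i⟩) : P) = l := K.κA_eq (hc.symm ▸ hw)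
  have h2 : (K.κA ⟨K.v i, K.v_A i⟩ : P) = k := K.κA_eq hv
  have hur : S.D.u ^ S.D.r = S.D.u := by
    obtain ⟨j, hj⟩ := S.D.r_odd
    rw [hj, pow_succ, pow_mul, pow_two, S.D.u2, one_pow, one_mul]
  have hkr : k ^ (S.D.r + 1) = 1 := by
    rw [hk]; split_ifs
    · exact one_pow _
    · rw [pow_succ, hur, S.D.u2]
  have h3 : K.partY (K.κA ⟨K.v i, K.v_A i⟩) = 1 := Subtype.ext (by
    show (K.κA ⟨K.v i, K.v_A i⟩ : P) ^ (S.D.r + 1) = 1
    rw [h2, hkr])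
  simp only [lam, MonoidHom.mul_apply, MonoidHom.coe_comp, Function.comp_apply, h3, map_one, mul_one]
  show ((if (K.κA (K.cA (-b) ⟨K.v i, K.v_A i⟩) : P) ^ S.D.r = 1 then (1 : ℂˣ) else -1 : ℂˣ) : ℂ) = _
  rw [h1, hl]
  by_cases hbi : b = i
  · subst hbi; simp
  · rw [if_neg hbi, if_neg (sub_ne_zero.2 (Ne.symm hbi)), hur, if_neg S.D.u1, Units.val_neg,
      Units.val_one]

/-- Sums over `A`. -/
theorem sum_A [Fintype G] (F : G → ℂ) :
    ∑ a : K.A, F a = (∑ y : S.D.Y, F (S.ι y)) + ∑ i : Fin 3, ∑ y : S.D.Y, F (K.v i * S.ι y) := by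
  let e : Option (Fin 3) × S.D.Y → K.A := fun p =>
    ⟨(p.1.elim 1 K.v) * S.ι p.2, mul_mem (by cases p.1 <;> simp [one_mem, K.v_A]) (K.Y_A p.2.2)⟩
  have he : Function.Bijective e := by
    refine (Fintype.bijective_iff_surjective_and_card e).2 ⟨fun a => ?_, ?_⟩
    · obtain ⟨e₀, y, he₀, hy, h⟩ := K.decomp a.2
      rcases he₀ with rfl | ⟨i, rfl⟩
      · exact ⟨(none, ⟨y, hy⟩), Subtype.ext (by simp [e, h])⟩
      · exact ⟨(some i, ⟨y, hy⟩), Subtype.ext (by simp [e, h])⟩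
    · rw [Fintype.card_prod, Fintype.card_option, Fintype.card_fin, ← Nat.card_eq_fintype_card,
        ← Nat.card_eq_fintype_card, K.card_A, S.D.card_Y]
  rw [← Fintype.sum_bijective e he _ _ fun _ => rfl, Fintype.sum_prod_type, Fintype.sum_option]
  simp [e]

end Cyc

end Cfsg.Agent.Spor.Gold
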