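import Cfsg.Agent.Lib.Spor.Gold.ReeFun

/-!
The characters induced from the Borel subgroup of `PSL₂(q)`, and the resulting identity for class
functions.
-/

open scoped ComplexConjugate

set_option autoImplicit false
set_option linter.unusedSectionVars false
set_option linter.style.haveILetI false

open scoped Classical

namespace Cfsg.Agent.Spor.Gold.KData

open Cfsg Cfsg.Agent.Char

universe u

variable {P : Type u} [Group P] [Fintype P] (K : KData P)

/-- The Borel subgroup modulo `U`. -/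
abbrev BQ : Type u := K.B ⧸ K.U.subgroupOf K.B

theorem BQ_comm (x y : K.BQ) : x * y = y * x := by
  induction x using QuotientGroup.induction_on with
  | _ a =>
    induction y using QuotientGroup.induction_on with
    | _ b =>
      rw [← QuotientGroup.mk_mul, ← QuotientGroup.mk_mul, QuotientGroup.eq, Subgroup.mem_subgroupOf]
      simpa [mul_assoc] using K.B_comm (inv_mem b.2) (inv_mem a.2)

/-- The characters induced from `B`. -/
noncomputable def PiB (φ : IrrCharacter K.BQ) : P → ℂ :=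
  indFun K.B (fun b => (φ : K.BQ → ℂ) (b : K.BQ))

theorem phi_char (φ : IrrCharacter K.BQ) :
    IsCharacter K.B (fun b => (φ : K.BQ → ℂ) (b : K.BQ)) :=
  IsChar.comp (QuotientGroup.mk' _) (IsIrr.isCharacter φ.2)

theorem irrBQ_one (φ : IrrCharacter K.BQ) : (φ : K.BQ → ℂ) 1 = 1 :=
  IsIrr.one_of_comm K.BQ_comm φ.2

theorem irrBQ_norm (φ : IrrCharacter K.BQ) (x : K.BQ) : ‖(φ : K.BQ → ℂ) x‖ ≤ 1 := by
  have h := IsChar.norm_le (IsIrr.isCharacter φ.2) x
  rwa [K.irrBQ_one, norm_one] at h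

theorem PiB_gen (φ : IrrCharacter K.BQ) : IsGeneralizedCharacter P (K.PiB φ) :=
  IsGenChar.of_isCharacter (isCharacter_indFun K.B (K.phi_char φ))

theorem PiB_class (φ : IrrCharacter K.BQ) : IsClassFunction P (K.PiB φ) :=
  indFun_classFun _ _

theorem PiB_one (φ : IrrCharacter K.BQ) : K.PiB φ 1 = (K.q : ℂ) + 1 := by
  rw [PiB, indFun_one_eq, QuotientGroup.mk_one, K.irrBQ_one, mul_one]
  have h := Subgroup.card_mul_index K.B
  rw [K.card_B, K.card_P] at h
  have hm : 0 < K.q * K.m := by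
    have := K.q27; have := K.q_eq'
    exact Nat.mul_pos (by omega) (by omega)
  rw [Nat.eq_of_mul_eq_mul_left hm h]
  have e1 : (K.q : ℂ) + 1 = 4 * K.r := by exact_mod_cast K.q_eq
  push_cast
  rw [e1]

theorem PiB_U (φ : IrrCharacter K.BQ) {a : P} (ha : a ∈ K.U) (ha1 : a ≠ 1) : K.PiB φ a = 1 := by
  have hval : ∀ g : P, extendByZero K.B (fun b : K.B => (φ : K.BQ → ℂ) (b : K.BQ)) (g⁻¹ * a * g) =
      if g ∈ K.B then 1 else 0 := fun g => by
    split_ifs with hg
    · have hU := K.conj_mem_U ha hg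
      rw [extendByZero_of_mem _ (K.U_le_B hU),
        (QuotientGroup.eq_one_iff _).2 (Subgroup.mem_subgroupOf.2 hU), K.irrBQ_one]
    · refine extendByZero_not_mem _ fun h => hg (K.conj_U ha ha1 (K.three_mem_U h ?_))
      rw [show g⁻¹ * a * g = g⁻¹ * a * g⁻¹⁻¹ by rw [inv_inv], conj_pow, K.U_exp ha]; group
  simp only [PiB, indFun, hval]
  rw [sum_ite_mem K.B (fun _ => (1 : ℂ)), Finset.sum_const, Finset.card_univ,
    ← Nat.card_eq_fintype_card, nsmul_eq_mul, mul_one,
    inv_mul_cancel₀ (Nat.cast_ne_zero.2 Nat.card_pos.ne')]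

theorem not_conj_B {y g : P} (hy : y ∈ K.Y) (hy1 : y ≠ 1) : g⁻¹ * y * g ∉ K.B := fun hg => hy1 (by
  have h1 : (g⁻¹ * y * g) ^ (K.q * K.m) = 1 := by
    rw [← K.card_B]; exact orderOf_dvd_iff_pow_eq_one.1 (Subgroup.orderOf_dvd_natCard _ hg)
  rw [show g⁻¹ * y * g = g⁻¹ * y * g⁻¹⁻¹ by rw [inv_inv], conj_pow] at h1
  have h := pow_gcd_eq_one.2 ⟨hy.2, conj_eq_one_iff.1 h1⟩
  rwa [(Nat.Coprime.mul_right K.r_coprime_q K.r_coprime_m).gcd_eq_one, pow_one] at h)

theorem PiB_Y (φ : IrrCharacter K.BQ) {y : P} (hy : y ∈ K.Y) (hy1 : y ≠ 1) : K.PiB φ y = 0 :=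
  indFun_eq_zero_of_not_conj _ _ fun _ hg => absurd hg (K.not_conj_B hy hy1)

theorem PiB_supp (φ : IrrCharacter K.BQ) {a : P} (h : K.PiB φ a ≠ 0) : a ^ K.E = 1 := by
  by_contra hE
  exact h (indFun_eq_zero_of_not_conj _ _ fun g hg => absurd (K.pow_E_of_B hg) hE)

theorem classInner_Phi_PiB (l : IrrCharacter K.Y) (φ : IrrCharacter K.BQ) :
    classInner (K.Phi l) (K.PiB φ) = 0 := by
  rw [K.classInner_Phi_left l (K.PiB_class φ), K.classInner_L, K.PiB_one,
    Finset.sum_congr rfl (g := fun z => K.Lx z) (fun z hz => by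
      rw [K.PiB_U φ (K.mem_Ush.1 hz).1 (K.mem_Ush.1 hz).2, map_one, mul_one]), K.sum_Lx]
  have key : ∀ y : K.Y, (l : K.Y → ℂ) y * conj (K.PiB φ y) =
      if (y : P) = 1 then (K.q : ℂ) + 1 else 0 := fun y => by
    split_ifs with hy
    · rw [hy, K.PiB_one, show y = 1 from Subtype.ext hy, K.irrY_one, map_add, Complex.conj_natCast,
        map_one, one_mul]
    · rw [K.PiB_Y φ y.2 hy, map_zero, mul_zero]
  simp only [classInner, K.card_Y]
  rw [Finset.sum_congr rfl fun y _ => key y, sum_Y_delta]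
  have hq : (K.q : ℂ) ≠ 0 := Nat.cast_ne_zero.2 (by have := K.q27; omega)
  have hr : (K.r : ℂ) ≠ 0 := Nat.cast_ne_zero.2 (by have := K.r_ge; omega)
  have e1 : (K.q : ℂ) + 1 = 4 * K.r := by exact_mod_cast K.q_eq
  rw [map_add, Complex.conj_natCast, map_one, e1]
  field_simp
  linear_combination (-4 : ℂ) * e1

/-- The number of elements of `B` kept in `B` by a conjugation from outside. -/
theorem card_inter {g : P} (hg : g ∉ K.B) :
    (Finset.univ.filter fun b : K.B => g⁻¹ * (b : P) * g ∈ K.B).card ≤ K.m := by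
  rw [← K.index_U, Subgroup.index_eq_card, Nat.card_eq_fintype_card, ← Finset.card_univ]
  refine Finset.card_le_card_of_injOn (fun b => (b : K.BQ)) (fun b _ => Finset.mem_univ _) ?_
  intro a ha b hb hab
  simp only [Finset.coe_filter, Set.mem_setOf_eq, Finset.mem_univ, true_and] at ha hb
  have hz : ((a⁻¹ * b : K.B) : P) ∈ K.U := Subgroup.mem_subgroupOf.1 (QuotientGroup.eq.1 hab)
  by_contra hne
  have hz1 : ((a⁻¹ * b : K.B) : P) ≠ 1 := fun e => hne (inv_mul_eq_one.1 (Subtype.ext e))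
  refine hg (K.conj_U hz hz1 (K.three_mem_U ?_ ?_))
  · rw [Subgroup.coe_mul, Subgroup.coe_inv,
      show g⁻¹ * ((a : P)⁻¹ * b) * g = (g⁻¹ * a * g)⁻¹ * (g⁻¹ * b * g) by group]
    exact mul_mem (inv_mem ha) hb
  · rw [show g⁻¹ * ((a⁻¹ * b : K.B) : P) * g = g⁻¹ * ((a⁻¹ * b : K.B) : P) * g⁻¹⁻¹ by rw [inv_inv],
      conj_pow, K.U_exp hz]
    group

theorem count_B :
    ∑ g : P, (Finset.univ.filter fun b : K.B => g⁻¹ * (b : P) * g ∈ K.B).card ≤
      2 * (K.q * K.m) * (K.q * K.m) := by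
  set S := Finset.univ.filter (fun g : P => g ∈ K.B)
  have hS : S.card = K.q * K.m := by
    rw [← K.card_B, Nat.card_eq_fintype_card, Fintype.card_subtype]
  have hB : Fintype.card K.B = K.q * K.m := by rw [← Nat.card_eq_fintype_card, K.card_B]
  rw [← Finset.sum_add_sum_compl S]
  have h1 : ∑ g ∈ S, (Finset.univ.filter fun b : K.B => g⁻¹ * (b : P) * g ∈ K.B).card ≤
      S.card * (K.q * K.m) := by
    refine (Finset.sum_le_card_nsmul S _ (K.q * K.m) fun g _ => ?_).trans (le_of_eq (smul_eq_mul _ _))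
    exact (Finset.card_le_univ _).trans hB.le
  have h2 : ∑ g ∈ Sᶜ, (Finset.univ.filter fun b : K.B => g⁻¹ * (b : P) * g ∈ K.B).card ≤
      Sᶜ.card * K.m := by
    refine (Finset.sum_le_card_nsmul Sᶜ _ K.m fun g hg => ?_).trans (le_of_eq (smul_eq_mul _ _))
    exact K.card_inter fun h => Finset.mem_compl.1 hg (Finset.mem_filter.2 ⟨Finset.mem_univ _, h⟩)
  have hc : Sᶜ.card + K.q * K.m = K.q * K.m * (K.q + 1) := by
    rw [← hS, Finset.card_compl_add_card, ← Nat.card_eq_fintype_card, K.card_P, hS, K.q_eq]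
  rw [hS] at h1
  have hc' : Sᶜ.card = K.q * K.m * K.q := by
    have : K.q * K.m * (K.q + 1) = K.q * K.m * K.q + K.q * K.m := by ring
    omega
  rw [hc'] at h2
  refine (Nat.add_le_add h1 h2).trans (le_of_eq ?_)
  ring

theorem norm_PiB (φ : IrrCharacter K.BQ) : (classInner (K.PiB φ) (K.PiB φ)).re ≤ 2 := by
  set π : P → ℂ := indFun K.B (fun _ => (1 : ℂ)) with hπ
  set c : P → ℕ := fun a => (Finset.univ.filter fun g : P => g⁻¹ * a * g ∈ K.B).card with hc
  have hπv : ∀ a, π a = ((K.q * K.m : ℕ) : ℂ)⁻¹ * (c a : ℂ) := fun a => by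
    simp only [hπ, indFun, K.card_B, hc]
    congr 1
    rw [Finset.card_filter, Nat.cast_sum]
    refine Finset.sum_congr rfl fun g _ => ?_
    by_cases h : g⁻¹ * a * g ∈ K.B
    · rw [extendByZero_of_mem _ h, if_pos h, Nat.cast_one]
    · rw [extendByZero_not_mem _ h, if_neg h, Nat.cast_zero]
  have hle : ∀ a, ‖K.PiB φ a‖ ≤ ‖π a‖ := fun a => by
    rw [hπv, norm_mul, norm_inv, Complex.norm_natCast, Complex.norm_natCast, PiB, indFun, K.card_B,
      norm_mul, norm_inv, Complex.norm_natCast]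
    refine mul_le_mul_of_nonneg_left ((norm_sum_le _ _).trans ?_) (by positivity)
    simp only [hc]
    rw [Finset.card_filter, Nat.cast_sum]
    refine Finset.sum_le_sum fun g _ => ?_
    by_cases h : g⁻¹ * a * g ∈ K.B
    · rw [extendByZero_of_mem _ h, if_pos h, Nat.cast_one]; exact K.irrBQ_norm φ _
    · rw [extendByZero_not_mem _ h, if_neg h, Nat.cast_zero, norm_zero]
  refine le_trans (b := (classInner π π).re) ?_ ?_
  · rw [classInner_self, classInner_self, Complex.ofReal_re, Complex.ofReal_re]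
    gcongr with a
    exact hle a
  · rw [classInner_indFun K.B _ (indFun_classFun K.B _), classInner, K.card_B]
    simp only [← hπ, hπv, map_mul, map_inv₀, Complex.conj_natCast, one_mul, ← Finset.mul_sum,
      ← Nat.cast_sum]
    have hsum : ∑ b : K.B, c b ≤ 2 * (K.q * K.m) * (K.q * K.m) := by
      refine le_trans (le_of_eq ?_) K.count_B
      simp only [hc, Finset.card_filter]
      exact Finset.sum_comm
    have hN : (0 : ℝ) < ((K.q * K.m : ℕ) : ℝ) := by
      have := K.q27; have := K.q_eq'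
      exact_mod_cast Nat.mul_pos (show 0 < K.q by omega) (show 0 < K.m by omega)
    have hcast : ((K.q * K.m : ℕ) : ℂ)⁻¹ * (((K.q * K.m : ℕ) : ℂ)⁻¹ * ((∑ b : K.B, c b : ℕ) : ℂ)) =
      Complex.ofReal (((K.q * K.m : ℕ) : ℝ)⁻¹ * (((K.q * K.m : ℕ) : ℝ)⁻¹ * ((∑ b : K.B, c b : ℕ) : ℝ))) := by
        simp only [Complex.ofReal_mul, Complex.ofReal_inv, Complex.ofReal_natCast]
    rw [hcast, Complex.ofReal_re, ← mul_assoc, ← mul_inv, inv_mul_le_iff₀ (mul_pos hN hN)]
    calc ((∑ b : K.B, c b : ℕ) : ℝ) ≤ ((2 * (K.q * K.m) * (K.q * K.m) : ℕ) : ℝ) := by exact_mod_cast hsum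
      _ = _ := by push_cast; ring

/-- The identity at the elements of order three. -/
theorem re_eq {f : P → ℂ} (hf : IsClassFunction P f) (hreal : ∀ a, f a⁻¹ = conj (f a))
    (hpi : ∀ φ : IrrCharacter K.BQ, classInner (K.PiB φ) f = 0) :
    ∑ l : IrrCharacter K.Y, classInner (K.Phi l) f = -2 * ((f K.h).re : ℂ) := by
  have hq : (K.q : ℂ) ≠ 0 := Nat.cast_ne_zero.2 (by have := K.q27; omega)
  have hm : (K.m : ℂ) ≠ 0 := Nat.cast_ne_zero.2 (by have := K.q27; have := K.q_eq'; omega)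
  have e2 : (K.q : ℂ) = 2 * K.m + 1 := by exact_mod_cast K.q_eq'
  have e3 : 2 * (K.r : ℂ) = K.m + 1 := by exact_mod_cast K.two_r
  have hfc : ∀ b : K.B, ∀ a, f ((b : P)⁻¹ * a * b) = f a := fun b a => by
    simpa using hf a (b : P)⁻¹
  have hre : f K.h + conj (f K.h) = 2 * ((f K.h).re : ℂ) := by
    rw [Complex.add_conj]; push_cast; ring
  have hf1 : conj (f 1) = f 1 := by rw [← hreal, inv_one]
  -- the sum over `U`
  have hU : f 1 + 2 * (K.m : ℂ) * ((f K.h).re : ℂ) = 0 := by
    have h0 : ∑ φ : IrrCharacter K.BQ, classInner (K.PiB φ) f = 0 :=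
      Finset.sum_eq_zero fun φ _ => hpi φ
    simp only [PiB] at h0
    rw [Finset.sum_congr rfl fun φ _ => classInner_indFun K.B _ hf] at h0
    simp only [classInner, ← Finset.mul_sum] at h0
    rw [Finset.sum_comm] at h0
    have hreg : ∀ b : K.B, ∑ φ : IrrCharacter K.BQ, (φ : K.BQ → ℂ) (b : K.BQ) * conj (f b) =
        if (b : P) ∈ K.U then (Nat.card K.BQ : ℂ) * conj (f b) else 0 := fun b => by
      rw [← Finset.sum_mul]
      have h := regular_expansion ((b : K.BQ))
      simp only [K.irrBQ_one, one_mul] at h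
      rw [h]
      by_cases hb : (b : P) ∈ K.U
      · rw [if_pos hb, if_pos ((QuotientGroup.eq_one_iff _).2 (Subgroup.mem_subgroupOf.2 hb))]
      · rw [if_neg hb, if_neg (fun e => hb (Subgroup.mem_subgroupOf.1 ((QuotientGroup.eq_one_iff _).1 e))),
          zero_mul]
    rw [Finset.sum_congr rfl fun b _ => hreg b, ← Finset.sum_filter, ← Finset.mul_sum] at h0
    have h1 : ∑ z : K.U, conj (f z) = 0 := by
      rcases mul_eq_zero.1 h0 with h | h
      · exact absurd h (inv_ne_zero (Nat.cast_ne_zero.2 Nat.card_pos.ne'))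
      rcases mul_eq_zero.1 h with h' | h'
      · exact absurd h' (Nat.cast_ne_zero.2 Nat.card_pos.ne')
      refine Eq.trans ?_ h'
      refine Finset.sum_nbij' (fun z => (⟨(z : P), K.U_le_B z.2⟩ : K.B))
        (fun b => if hb : (b : P) ∈ K.U then ⟨(b : P), hb⟩ else 1) ?_ ?_ ?_ ?_ ?_
      · intro z _; simp
      · intro b _; exact Finset.mem_univ _
      · intro z _; simp
      · intro b hb
        have hb : (b : P) ∈ K.U := (Finset.mem_filter.1 hb).2
        refine Subtype.ext ?_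
        show ((dite _ _ _ : K.U) : P) = (b : P)
        rw [dif_pos hb]
      · intro z _; rfl
    rw [K.sum_U (fun z => conj (f z)), hf1] at h1
    have h2 := K.sum_uni K.h_mem K.h1 (fun z => conj (f z))
    have e : ∀ b : K.B, conj (f ((b : P)⁻¹ * K.h * b)) + conj (f ((b : P)⁻¹ * K.h⁻¹ * b)) =
        conj (f K.h) + f K.h := fun b => by rw [hfc, hfc, hreal, Complex.conj_conj]
    rw [Finset.sum_congr rfl fun b _ => e b, Finset.sum_const, Finset.card_univ,
      ← Nat.card_eq_fintype_card, K.card_B, nsmul_eq_mul] at h2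
    push_cast at h2
    have h3 : ∑ z ∈ K.Ush, conj (f z) = (K.m : ℂ) * (f K.h + conj (f K.h)) :=
      mul_left_cancel₀ hq (by rw [h2]; ring)
    rw [h3, hre] at h1
    linear_combination h1
  -- the sum over the characters of `Y`
  have hY : ∑ l : IrrCharacter K.Y, classInner (l : K.Y → ℂ) (fun y : K.Y => f y) = f 1 := by
    simp only [classInner, ← Finset.mul_sum]
    rw [Finset.sum_comm, Finset.sum_congr rfl (g := fun y : K.Y =>
      if (y : P) = 1 then (K.r : ℂ) * f 1 else 0) fun y _ => ?_, sum_Y_delta, K.card_Y,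
      inv_mul_cancel_left₀ (Nat.cast_ne_zero.2 (by have := K.r_ge; omega))]
    rw [← Finset.sum_mul]
    have h := regular_expansion y
    simp only [K.irrY_one, one_mul] at h
    rw [h, K.card_Y]
    by_cases hy : y = 1
    · subst hy; simp [hf1]
    · rw [if_neg hy, zero_mul, if_neg]
      exact fun e => hy (Subtype.ext e)
  have hcard : Fintype.card (IrrCharacter K.Y) = K.r := by
    have h := sum_degree_sq (G := K.Y)
    simp only [K.irrY_one, one_pow, Finset.sum_const, Finset.card_univ, nsmul_eq_mul, mul_one,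
      K.card_Y] at h
    exact_mod_cast h
  have hL : ∑ z ∈ K.Ush, K.Lx z * conj (f z) = -(2 * ((f K.h).re : ℂ)) := by
    have h2 := K.sum_uni K.h_mem K.h1 (fun z => K.Lx z * conj (f z))
    rw [Finset.sum_congr rfl (g := fun b : K.B => K.Lx ((b : P)⁻¹ * K.h * b) * conj (f K.h) +
        K.Lx ((b : P)⁻¹ * K.h⁻¹ * b) * f K.h) (fun b _ => by
      show _ * conj (f _) + _ * conj (f _) = _
      rw [hfc, hfc, hreal, Complex.conj_conj]), Finset.sum_add_distrib, ← Finset.sum_mul,
      ← Finset.sum_mul, K.sum_L_conj K.h_mem K.h1,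
      K.sum_L_conj (inv_mem K.h_mem) (inv_ne_one.2 K.h1)] at h2
    refine mul_left_cancel₀ hq ?_
    rw [h2, ← hre]
    ring
  rw [Finset.sum_congr rfl fun l _ => K.classInner_Phi_left l hf, Finset.sum_sub_distrib, hY,
    Finset.sum_const, Finset.card_univ, hcard, nsmul_eq_mul, K.classInner_L, hf1, hL]
  field_simp
  linear_combination (4 * (K.r : ℂ) - K.q) * hU + (4 * (K.r : ℂ) * ((f K.h).re : ℂ)) * e2
    - (2 * (K.q : ℂ) * ((f K.h).re : ℂ)) * e3

end Cfsg.Agent.Spor.Gold.KData
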