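import Cfsg.Agent.Lib.Spor.Gold.ReeDade
import Cfsg.Agent.Lib.Spor.Gold.ReeBlock
import Cfsg.Agent.Lib.Spor.Gold.ReeCentral
import Cfsg.Agent.Lib.Spor.Gold.ReeFunB

/-!
In a group of Ree type some element of order three is inverted by a 2-element.
-/

open scoped ComplexConjugate

set_option autoImplicit false
set_option linter.unusedSectionVars false
set_option linter.style.haveILetI false

open scoped Classical

namespace Cfsg.Agent.Spor.Gold

open Cfsg Cfsg.Agent.Char Cfsg.Agent.Invol

universe u v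

variable {P : Type v} [Group P] [Fintype P]

namespace KData

variable (K : KData P)

theorem Phi_Y_all (l : IrrCharacter K.Y) (y : K.Y) :
    K.Phi l y = -2 * ((l : K.Y → ℂ) y + conj ((l : K.Y → ℂ) y)) +
      if (y : P) = 1 then 2 * (K.q : ℂ) + 2 else 0 := by
  by_cases hy : (y : P) = 1
  · rw [if_pos hy, hy, K.Phi_one, show y = 1 from Subtype.ext hy, K.irrY_one, map_one]
    ring
  · rw [if_neg hy, add_zero, K.Phi_Y l y.2 hy]

theorem sum_irr_Phi (m l : IrrCharacter K.Y) :
    ∑ y : K.Y, (m : K.Y → ℂ) y * conj (K.Phi l y) =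
      -2 * (K.r : ℂ) * ((if (m : K.Y → ℂ) = (l : K.Y → ℂ) then 1 else 0) +
        if (m : K.Y → ℂ) = (fun y => conj ((l : K.Y → ℂ) y)) then 1 else 0) + (2 * (K.q : ℂ) + 2) := by
  have hr : (K.r : ℂ) ≠ 0 := Nat.cast_ne_zero.2 (by have := K.r_ge; omega)
  rw [← classInner_irr_eq_ite m.2 l.2, ← classInner_irr_eq_ite m.2 (IsIrr.conj l.2)]
  simp only [classInner, K.card_Y]
  have key : ∀ y : K.Y, (m : K.Y → ℂ) y * conj (K.Phi l y) =
      -2 * ((m : K.Y → ℂ) y * conj ((l : K.Y → ℂ) y) +
        (m : K.Y → ℂ) y * conj (conj ((l : K.Y → ℂ) y))) +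
      if (y : P) = 1 then 2 * (K.q : ℂ) + 2 else 0 := fun y => by
    rw [K.Phi_Y_all]
    by_cases hy : (y : P) = 1
    · simp only [if_pos hy]
      rw [show y = 1 from Subtype.ext hy, K.irrY_one, K.irrY_one]
      simp only [map_add, map_mul, map_neg, map_one, Complex.conj_ofNat, Complex.conj_natCast]
      ring
    · simp only [if_neg hy]
      simp only [map_add, map_mul, map_neg, Complex.conj_ofNat, map_zero]
      ring
  rw [Finset.sum_congr rfl fun y _ => key y, Finset.sum_add_distrib, sum_Y_delta, ← Finset.mul_sum,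
    Finset.sum_add_distrib]
  field_simp

theorem irrY_real {l : IrrCharacter K.Y}
    (h : (l : K.Y → ℂ) = fun y => conj ((l : K.Y → ℂ) y)) : (l : K.Y → ℂ) = fun _ => 1 := by
  obtain ⟨f, hf⟩ := linearHom_of_isCharacter (IsIrr.isCharacter l.2) (K.irrY_one l)
  funext y
  have h2 : f y = f y⁻¹ := Units.ext (by
    have e1 := congrFun h y
    rw [← IsIrr.apply_inv l.2, hf] at e1
    exact e1)
  have h3 : f y * f y = 1 := by
    conv_lhs => arg 2; rw [h2]
    rw [← map_mul, mul_inv_cancel, map_one]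
  have h4 : f y ^ K.r = 1 := by
    rw [← map_pow, show y ^ K.r = 1 from Subtype.ext (by simpa using y.2.2), map_one]
  obtain ⟨j, hj⟩ := K.r_odd
  rw [hj, pow_succ, pow_mul, pow_two, h3, one_pow, one_mul] at h4
  rw [hf]
  simp [h4]

end KData

namespace Cyc

variable {G : Type u} [Group G] [Fintype G] {S : Setting G P} (K : Cyc S)
include K

/-- The basic induced functions. -/
noncomputable def va (a : Fin 3) : G → ℂ := S.Ind (S.D.Phi (K.th a))

theorem va_gen (a : Fin 3) : IsGeneralizedCharacter G (K.va a) := S.Ind_gen (S.D.Phi_gen _)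

theorem va_inner (hnc : ∃ y : S.D.Y, K.σ y ≠ y) (a b : Fin 3) :
    classInner (K.va a) (K.va b) = if a = b then 4 else 0 := by
  rw [va, va, S.isometry (fun _ => S.D.Phi_supp _) (S.D.Phi_class _) (fun _ => S.D.Phi_supp _),
    S.D.classInner_Phi, if_neg (K.th_ne_conj a b)]
  by_cases h : a = b
  · subst h; norm_num
  · rw [if_neg fun e => h (K.th_inj hnc e), if_neg h]; ring

theorem va_Dd (hnc : ∃ y : S.D.Y, K.σ y ≠ y) (a b c : Fin 3) :
    classInner (K.Dd b c) (K.va a) = -2 * ((if b = a then 1 else 0) - if c = a then 1 else 0) := by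
  rw [va, K.inner_Dd_Ind b c (S.D.Phi_class _) (fun _ => S.D.Phi_supp _), S.D.sum_irr_Phi,
    S.D.sum_irr_Phi, if_neg (K.th_ne_conj b a), if_neg (K.th_ne_conj c a)]
  have hr : (S.D.r : ℂ) ≠ 0 := Nat.cast_ne_zero.2 (by have := S.D.r_ge; omega)
  have hb : ∀ b, ((K.th b : S.D.Y → ℂ) = (K.th a : S.D.Y → ℂ)) ↔ b = a :=
    fun b => ⟨K.th_inj hnc, fun e => e ▸ rfl⟩
  simp only [hb]
  field_simp
  ring

/-- The coherent configuration. -/
structure Coh (e : ℤ) (X : Fin 3 → G → ℂ) (Ω : G → ℂ) : Prop where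
  he : e = 1 ∨ e = -1
  hX : ∀ i, IsIrrCharacter G (X i)
  hinj : Function.Injective X
  hΩ : IsIrrCharacter G Ω ∨ IsIrrCharacter G (-Ω)
  orth : ∀ i, classInner Ω (X i) = 0
  dd : ∀ i j, K.Dd i j = (e : ℂ) • (X i - X j)
  vv : ∀ a, K.va a = (e : ℂ) • ((∑ b, (if b = a then (-1 : ℂ) else 1) • X b) - Ω)

theorem exists_coh (hnc : ∃ y : S.D.Y, K.σ y ≠ y) : ∃ e X Ω, K.Coh e X Ω := by
  obtain ⟨ε, hε, X, hX, hinj, hD⟩ := K.exists_X hnc
  obtain ⟨e, he, rfl⟩ : ∃ e : ℤ, (e = 1 ∨ e = -1) ∧ (e : ℂ) = ε := by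
    rcases hε with rfl | rfl
    · exact ⟨1, Or.inl rfl, by simp⟩
    · exact ⟨-1, Or.inr rfl, by simp⟩
  have hXg : ∀ i, IsGeneralizedCharacter G (X i) := fun i => IsGenChar.of_isCharacter (IsIrr.isCharacter (hX i))
  have hXX : ∀ i j, classInner (X i) (X j) = if i = j then 1 else 0 := fun i j => by
    rw [classInner_irr_eq_ite (hX i) (hX j)]; simp only [hinj.eq_iff]
  choose n hn using fun a b => IsGenChar.classInner_int (K.va_gen a) (hXg b)
  have hn' : ∀ a b, classInner (X b) (K.va a) = n a b := fun a b => by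
    rw [← classInner_conj_symm, hn, map_intCast]
  have hdiff : ∀ a b c, e * (n a b - n a c) = -2 * ((if b = a then 1 else 0) - if c = a then 1 else 0) :=
    fun a b c => by
      have h := K.va_Dd hnc a b c
      rw [hD, classInner_smul_left, classInner_sub_left, hn', hn'] at h
      apply Int.cast_injective (α := ℂ)
      push_cast
      exact h
  -- the norm of the rest
  set W : Fin 3 → G → ℂ := fun a => K.va a - ∑ b, (n a b : ℂ) • X b with hW
  have hWX : ∀ a c, classInner (W a) (X c) = 0 := fun a c => by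
    rw [hW, classInner_sub_left, hn, classInner_sum_left,
      Finset.sum_eq_single c (fun b _ hb => by rw [classInner_smul_left, hXX, if_neg hb, mul_zero])
        (fun h => absurd (Finset.mem_univ c) h),
      classInner_smul_left, hXX, if_pos rfl, mul_one, sub_self]
  have hWW : ∀ a b, classInner (W a) (W b) =
      (if a = b then 4 else 0) - ∑ c, (n a c : ℂ) * n b c := fun a b => by
    conv_lhs => arg 2; rw [hW]
    rw [classInner_sub_right, classInner_sum_right, Finset.sum_eq_zero fun c _ => by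
      rw [classInner_smul_right, hWX, mul_zero], sub_zero, hW, classInner_sub_left, K.va_inner hnc,
      classInner_sum_left]
    congr 1
    exact Finset.sum_congr rfl fun c _ => by rw [classInner_smul_left, hn']
  have hW0 : ∀ a, ∑ c, n a c ^ 2 ≤ 4 ∧ (∑ c, n a c ^ 2 = 4 → W a = 0) := fun a => by
    have h := hWW a a
    rw [if_pos rfl] at h
    have h' : classInner (W a) (W a) = ((4 - ∑ c, n a c ^ 2 : ℤ) : ℂ) := by
      rw [h]; push_cast; simp only [sq]
    refine ⟨?_, fun h4 => (classInner_self_eq_zero _).1 (by rw [h', h4, sub_self, Int.cast_zero])⟩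
    have h0 := classInner_self_re_nonneg (W a)
    rw [h', Complex.intCast_re] at h0
    have : (0 : ℤ) ≤ 4 - ∑ c, n a c ^ 2 := by exact_mod_cast h0
    omega
  have hX1 : ∀ b, X b 1 = X 0 1 := fun b => by
    have h := congrFun (hD b 0) 1
    rw [K.Dd_odd b 0 (n := 1) odd_one (pow_one 1)] at h
    rcases he with rfl | rfl <;> simp at h <;> first | linear_combination h | linear_combination -h
  have hval : ∀ a c, n a c = e * if c = a then -1 else 1 := by
    intro a c
    have ee : e * e = 1 := by rcases he with rfl | rfl <;> rfl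
    obtain ⟨b, hb⟩ : ∃ b, b ≠ a := exists_ne a
    have hall : ∀ c, n a c = n a b + if c = a then -2 * e else 0 := fun c => by
      have h := hdiff a c b
      rw [if_neg hb, sub_zero] at h
      have h' : n a c - n a b = e * (-2 * if c = a then 1 else 0) := by rw [← h, ← mul_assoc, ee, one_mul]
      split_ifs at h' ⊢ <;> linear_combination h'
    set s := n a b
    have hsum : ∑ c, n a c ^ 2 = 3 * s ^ 2 - 4 * e * s + 4 := by
      simp only [hall]
      rw [Fin.sum_univ_three]
      fin_cases a <;> simp <;> linear_combination 4 * ee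
    obtain ⟨hle, h4⟩ := hW0 a
    have hs : s = 0 ∨ s = e := by
      rw [hsum] at hle
      rcases he with rfl | rfl
      · have h1 : 0 ≤ s := by nlinarith
        have h2 : s ≤ 1 := by nlinarith
        omega
      · have h1 : s ≤ 0 := by nlinarith
        have h2 : -1 ≤ s := by nlinarith
        omega
    rcases hs with hs | hs
    · exfalso
      have hz : W a = 0 := h4 (by rw [hsum, hs]; ring)
      have h1 : W a 1 = 0 := by rw [hz]; rfl
      simp only [hW, Pi.sub_apply, Finset.sum_apply, Pi.smul_apply, smul_eq_mul, va,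
        S.Ind_odd (fun _ => S.D.Phi_supp _) (n := 1) odd_one (pow_one 1), hall, hs, zero_add,
        hX1] at h1
      rw [zero_sub, neg_eq_zero, ← Finset.sum_mul, mul_eq_zero] at h1
      rcases h1 with h1 | h1
      · rcases he with rfl | rfl <;> simp at h1
      · exact IsIrr.one_ne_zero (hX 0) h1
    · rw [hall, hs]; split_ifs <;> ring
  have hWg : ∀ a, IsGeneralizedCharacter G (W a) := fun a =>
    IsGenChar.sub (K.va_gen a) (IsGenChar.sum fun b _ => IsGenChar.zsmul (hXg b) _)
  have hW1 : ∀ a b, classInner (W a) (W b) = 1 := fun a b => by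
    rw [hWW, Fin.sum_univ_three, hval, hval, hval, hval, hval, hval]
    rcases he with rfl | rfl <;> fin_cases a <;> fin_cases b <;> simp <;> norm_num
  have hWeq : ∀ a, W a = W 0 := fun a => sub_eq_zero.1 ((classInner_self_eq_zero _).1 (by
    rw [classInner_sub_left, classInner_sub_right (W a) (W a) (W 0),
      classInner_sub_right (W 0) (W a) (W 0), hW1, hW1, hW1, hW1]; ring))
  refine ⟨e, X, (-(e : ℂ)) • W 0, he, hX, hinj, ?_, fun i => by
    rw [classInner_smul_left, hWX, mul_zero], hD, fun a => ?_⟩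
  · rcases IsGenChar.norm_one (hWg 0) (hW1 0 0) with h | h <;> rcases he with rfl | rfl
    · right; simpa using h
    · left; simpa using h
    · left; simpa using h
    · right; simpa using h
  · rw [← hWeq a, hW]
    funext g
    simp only [Pi.smul_apply, Pi.sub_apply, Finset.sum_apply, smul_eq_mul, hval, Int.cast_mul,
      mul_sub, Finset.mul_sum]
    push_cast
    have ee : (e : ℂ) * e = 1 := by rcases he with rfl | rfl <;> norm_num
    simp only [Fin.sum_univ_three, Int.cast_ite, Int.cast_neg, Int.cast_one]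
    linear_combination
      (-K.va a g + ((e : ℂ) * ((if (0 : Fin 3) = a then -1 else 1) * X 0 g) +
        (e : ℂ) * ((if (1 : Fin 3) = a then -1 else 1) * X 1 g) +
        (e : ℂ) * ((if (2 : Fin 3) = a then -1 else 1) * X 2 g))) * ee

variable {e : ℤ} {X : Fin 3 → G → ℂ} {Ω : G → ℂ} {K}

theorem Coh.XX (hc : K.Coh e X Ω) (i j : Fin 3) :
    classInner (X i) (X j) = if i = j then 1 else 0 := by
  rw [classInner_irr_eq_ite (hc.hX i) (hc.hX j)]; simp only [hc.hinj.eq_iff]

theorem Coh.ΩΩ (hc : K.Coh e X Ω) : classInner Ω Ω = 1 := by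
  rcases hc.hΩ with h | h
  · exact classInner_self_irr h
  · have := classInner_self_irr h
    rwa [classInner_neg_left, classInner_neg_right, neg_neg] at this

theorem Coh.va_X (hc : K.Coh e X Ω) (a b : Fin 3) :
    classInner (K.va a) (X b) = (e : ℂ) * if b = a then -1 else 1 := by
  rw [hc.vv, classInner_smul_left, classInner_sub_left, hc.orth, sub_zero, classInner_sum_left,
    Finset.sum_eq_single b (fun c _ hcb => by rw [classInner_smul_left, hc.XX, if_neg hcb, mul_zero])
      (fun h => absurd (Finset.mem_univ b) h), classInner_smul_left, hc.XX, if_pos rfl, mul_one]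

theorem Coh.e_ne (hc : K.Coh e X Ω) : (e : ℂ) ≠ 0 := by
  rcases hc.he with rfl | rfl <;> norm_num

/-- The equal degrees, and the values at elements of odd order. -/
theorem Coh.odd_eq (hc : K.Coh e X Ω) {g : G} {n : ℕ} (hn : Odd n) (hg : g ^ n = 1) :
    (∀ i, X i g = X 0 g) ∧ Ω g = X 0 g := by
  have h1 : ∀ i, X i g = X 0 g := fun i => by
    have h := congrFun (hc.dd i 0) g
    rw [K.Dd_odd i 0 hn hg, Pi.smul_apply, Pi.sub_apply, smul_eq_mul, eq_comm, mul_eq_zero] at h
    exact sub_eq_zero.1 (h.resolve_left hc.e_ne)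
  refine ⟨h1, ?_⟩
  have h := congrFun (hc.vv 0) g
  rw [va, S.Ind_odd (fun _ => S.D.Phi_supp _) hn hg, Pi.smul_apply, Pi.sub_apply, smul_eq_mul,
    eq_comm, mul_eq_zero, Finset.sum_apply, Fin.sum_univ_three] at h
  have h := h.resolve_left hc.e_ne
  simp [h1 1, h1 2] at h
  linear_combination -h

/-- The value of the fourth character. -/
theorem Coh.tx_eq (hc : K.Coh e X Ω) :
    Ω (S.t * S.ι S.D.h) = X 0 (S.t * S.ι S.D.h) + 4 * e := by
  set g := S.t * S.ι S.D.h with hg
  have h1 : ∀ i, X i g = X 0 g := fun i => by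
    have h := congrFun (hc.dd i 0) g
    rw [hg, K.Dd_tx i 0, Pi.smul_apply, Pi.sub_apply, smul_eq_mul, eq_comm, mul_eq_zero] at h
    exact sub_eq_zero.1 (h.resolve_left hc.e_ne)
  have hk : S.D.h ^ S.D.E = 1 := S.D.pow_E_of_B (g := 1) (by simpa using S.D.U_le_B S.D.h_mem)
  have h := congrFun (hc.vv 0) g
  rw [va, hg, S.Ind_val (S.D.Phi_class _) (fun _ => S.D.Phi_supp _) hk,
    S.D.Phi_U _ S.D.h_mem S.D.h1, ← hg, Pi.smul_apply, Pi.sub_apply, smul_eq_mul, Finset.sum_apply,
    Fin.sum_univ_three] at h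
  simp [h1 1, h1 2] at h
  have ee : (e : ℂ) * e = 1 := by rcases hc.he with h | h <;> rw [h] <;> norm_num
  linear_combination (e : ℂ) * h + (X 0 g - Ω g) * ee

/-- The coefficient of an induced function orthogonal to the configuration. -/
theorem Coh.coef (hc : K.Coh e X Ω) {Φ : P → ℂ} (hg : IsGeneralizedCharacter P Φ)
    (hs : ∀ a, Φ a ≠ 0 → a ^ S.D.E = 1) (horth : ∀ a, classInner Φ (S.D.Phi (K.th a)) = 0)
    (hsum : ∀ b c, ∑ y : S.D.Y, (K.th b : S.D.Y → ℂ) y * conj (Φ y) =
      ∑ y : S.D.Y, (K.th c : S.D.Y → ℂ) y * conj (Φ y)) :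
    ∃ k : ℤ, classInner Φ (S.fS (X 0)) = k ∧ 4 * (k : ℝ) ^ 2 ≤ 2 * (classInner Φ Φ).re ∧
      ((classInner Φ Φ).re ≤ 2 → k = 0) := by
  have hΦ := IsGenChar.classFun hg
  set w := S.Ind Φ with hw
  have hXg : ∀ i, IsGeneralizedCharacter G (X i) := fun i =>
    IsGenChar.of_isCharacter (IsIrr.isCharacter (hc.hX i))
  obtain ⟨k, hk⟩ := IsGenChar.classInner_int (S.Ind_gen hg) (hXg 0)
  have hk' : classInner (X 0) w = k := by
    rw [← classInner_conj_symm, ← map_intCast (starRingEnd ℂ) k, ← hk]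
  have hall : ∀ i, classInner w (X i) = k := fun i => by
    have h := K.inner_Dd_Ind i 0 hΦ hs
    rw [hsum i 0, sub_self, mul_zero, hc.dd, classInner_smul_left, mul_eq_zero,
      classInner_sub_left, sub_eq_zero] at h
    rw [← classInner_conj_symm, h.resolve_left hc.e_ne, hk', map_intCast]
  have hΩ : classInner w Ω = k := by
    have h0 : classInner w (K.va 0) = 0 := by
      rw [hw, va, S.isometry hs (S.D.Phi_class _) (fun _ => S.D.Phi_supp _), horth, mul_zero]
    rw [hc.vv, classInner_smul_right, classInner_sub_right, classInner_sum_right, mul_eq_zero] at h0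
    have h0 := h0.resolve_left (by rw [map_intCast]; exact hc.e_ne)
    simp only [classInner_smul_right, hall, Fin.sum_univ_three] at h0
    simp at h0
    linear_combination -h0
  set R := X 0 + X 1 + X 2 + Ω with hR
  have hwR : classInner w R = 4 * k := by
    rw [hR, classInner_add_right, classInner_add_right, classInner_add_right, hall, hall, hall, hΩ]
    ring
  have hRR : classInner R R = 4 := by
    have ho : ∀ i, classInner (X i) Ω = 0 := fun i => by
      rw [← classInner_conj_symm, hc.orth, map_zero]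
    simp only [hR, classInner_add_left, classInner_add_right, hc.XX, hc.orth, ho, hc.ΩΩ]
    simp; norm_num
  have hnorm : classInner (w - (k : ℂ) • R) (w - (k : ℂ) • R) =
      2 * classInner Φ Φ - 4 * (k : ℂ) ^ 2 := by
    rw [classInner_sub_left, classInner_sub_right, classInner_sub_right, classInner_smul_left,
      classInner_smul_left, classInner_smul_right, classInner_smul_right, hwR, hRR,
      ← classInner_conj_symm w R, hwR, hw, S.isometry hs hΦ hs, map_mul, Complex.conj_ofNat,
      map_intCast]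
    ring
  have hre : (classInner (w - (k : ℂ) • R) (w - (k : ℂ) • R)).re =
      2 * (classInner Φ Φ).re - 4 * (k : ℝ) ^ 2 := by
    rw [hnorm]; simp [sq]
  have h0 := classInner_self_re_nonneg (w - (k : ℂ) • R)
  rw [hre] at h0
  refine ⟨k, ?_, by linarith, fun h2 => ?_⟩
  · rw [← S.classInner_Ind Φ (IsGenChar.classFun (hXg 0))]; exact hk
  by_contra hk0
  have hk1 : (1 : ℝ) ≤ (k : ℝ) ^ 2 := by
    have : 1 ≤ k ^ 2 := by nlinarith [Int.one_le_abs hk0, sq_abs k]
    exact_mod_cast this
  have hz : w - (k : ℂ) • R = 0 := by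
    refine (classInner_self_eq_zero _).1 ?_
    rw [classInner_self] at hre ⊢
    rw [Complex.ofReal_re] at hre
    rw [show (0 : ℂ) = ((0 : ℝ) : ℂ) from Complex.ofReal_zero.symm]
    congr 1
    linarith [show (0:ℝ) ≤ 2 * (classInner Φ Φ).re - 4 * (k : ℝ) ^ 2 from h0]
  have h1 := congrFun hz 1
  obtain ⟨hX1, hΩ1⟩ := hc.odd_eq (g := 1) (n := 1) odd_one (pow_one 1)
  rw [Pi.sub_apply, Pi.smul_apply, hw, S.Ind_odd hs (n := 1) odd_one (pow_one 1), hR] at h1
  simp only [Pi.add_apply, Pi.zero_apply, smul_eq_mul, hX1 1, hX1 2, hΩ1, zero_sub, neg_eq_zero,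
    mul_eq_zero] at h1
  rcases h1 with h1 | h1
  · exact hk0 (by exact_mod_cast h1)
  · exact IsIrr.one_ne_zero (hc.hX 0) (by linear_combination (1 / 4 : ℂ) * h1)

theorem not_coh (hnc : ∃ y : S.D.Y, K.σ y ≠ y) (hnr : ¬ HasInvertedThree G) (hc : K.Coh e X Ω) :
    False := by
  obtain ⟨N, W, D⟩ := S.exists_xData hnr
  set u := X 0 (S.t * S.ι S.D.h) with hu
  -- the value at `t` times an element of order three
  have hu2 : u = -2 * e := by
    obtain ⟨χ, s, hs, hχ⟩ : ∃ (χ : IrrCharacter G) (s : ℂ), (s = 1 ∨ s = -1) ∧ ∀ g, Ω g = s * (χ : G → ℂ) g := by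
      rcases hc.hΩ with h | h
      · exact ⟨⟨Ω, h⟩, 1, Or.inl rfl, fun g => (one_mul _).symm⟩
      · exact ⟨⟨-Ω, h⟩, -1, Or.inr rfl, fun g => by simp⟩
    have hxt : S.x * S.t = S.t * S.ι S.D.h := S.tc _
    obtain ⟨a, ha, h1⟩ := S.sum_W D ⟨X 0, hc.hX 0⟩
    obtain ⟨b, hb, h2⟩ := S.sum_W D χ
    have hodd : ∀ w : W, X 0 (S.x * w) = s * (χ : G → ℂ) (S.x * w) := fun w => by
      rw [← hχ]
      have hcx : Commute S.x (w : G) := (S.mem_X.1 (D.NX (D.WN w.2))).symm
      refine ((hc.odd_eq (n := 3 * Nat.card W) ((by decide : Odd 3).mul D.Wodd) ?_).2).symm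
      rw [hcx.mul_pow, pow_mul, S.x3, one_pow, one_mul, mul_comm, pow_mul,
        orderOf_dvd_iff_pow_eq_one.1 (Subgroup.orderOf_dvd_natCard W w.2), one_pow]
    simp only at h1
    rw [Finset.sum_congr rfl fun w _ => hodd w, ← Finset.mul_sum, h2, hxt] at h1
    have hχt := hχ (S.t * S.ι S.D.h)
    rw [hc.tx_eq, ← hu] at hχt
    rw [← hu] at h1
    have hW : (Nat.card W : ℂ) ≠ 0 := Nat.cast_ne_zero.2 Nat.card_pos.ne'
    have h3 : b * (u + 4 * e) = a * u := by
      rw [hχt]
      exact mul_left_cancel₀ hW (by linear_combination h1)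
    rcases ha with rfl | rfl <;> rcases hb with rfl | rfl
    · exact absurd (show (e : ℂ) = 0 by linear_combination (1 / 4 : ℂ) * h3) hc.e_ne
    · linear_combination (-1 / 2 : ℂ) * h3
    · linear_combination (1 / 2 : ℂ) * h3
    · exact absurd (show (e : ℂ) = 0 by linear_combination (-1 / 4 : ℂ) * h3) hc.e_ne
  -- the identity
  have hXc : IsClassFunction G (X 0) := IsIrr.classFun (hc.hX 0)
  have hreal : ∀ k, S.fS (X 0) k⁻¹ = conj (S.fS (X 0) k) := fun k => by
    simp only [Setting.fS]
    rw [← IsIrr.apply_inv (hc.hX 0), mul_inv_rev, ← map_inv, S.t_inv, S.tc]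
  have hpi : ∀ φ : IrrCharacter S.D.BQ, classInner (S.D.PiB φ) (S.fS (X 0)) = 0 := fun φ => by
    obtain ⟨k, hk, -, h0⟩ := hc.coef (S.D.PiB_gen φ) (fun _ => S.D.PiB_supp φ)
      (fun a => by rw [← classInner_conj_symm, S.D.classInner_Phi_PiB, map_zero])
      (fun b c => by
        have key : ∀ b, ∑ y : S.D.Y, (K.th b : S.D.Y → ℂ) y * conj (S.D.PiB φ y) = (S.D.q : ℂ) + 1 :=
          fun b => by
            rw [Finset.sum_eq_single (1 : S.D.Y)]
            · rw [Subgroup.coe_one, S.D.PiB_one, S.D.irrY_one, one_mul, map_add, Complex.conj_natCast,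
                map_one]
            · intro y _ hy
              rw [S.D.PiB_Y φ y.2 fun e => hy (Subtype.ext e), map_zero, mul_zero]
            · exact fun h => absurd (Finset.mem_univ _) h
        rw [key, key])
    rw [hk, h0 (S.D.norm_PiB φ), Int.cast_zero]
  have hre := S.D.re_eq (S.fS_class hXc) hreal hpi
  -- the six characters
  let six : Bool × Fin 3 → IrrCharacter S.D.Y := fun p =>
    bif p.1 then ⟨fun y => conj ((K.th p.2 : S.D.Y → ℂ) y), IsIrr.conj (K.th p.2).2⟩ else K.th p.2
  let one : IrrCharacter S.D.Y := ⟨fun _ => 1, isIrr_one⟩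
  have hth1 : ∀ a, (K.th a : S.D.Y → ℂ) ≠ fun _ => 1 := fun a h => K.th_ne_conj a a (by
    rw [h]; funext y; simp)
  have hsix : Function.Injective six := by
    rintro ⟨s, a⟩ ⟨s', a'⟩ h
    have h' := congrArg Subtype.val h
    cases s <;> cases s' <;> simp only [six, cond_true, cond_false] at h'
    · rw [K.th_inj hnc h']
    · exact absurd h' (K.th_ne_conj a a')
    · exact absurd h'.symm (K.th_ne_conj a' a)
    · refine Prod.ext rfl (K.th_inj hnc (funext fun y => ?_))
      exact (starRingEnd ℂ).injective (congrFun h' y)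
  have hone : ∀ p, six p ≠ one := by
    rintro ⟨s, a⟩ h
    have h' := congrArg Subtype.val h
    refine hth1 a (funext fun y => ?_)
    cases s <;> simp only [six, one, cond_true, cond_false] at h'
    · exact congrFun h' y
    · exact (starRingEnd ℂ).injective ((congrFun h' y).trans (map_one _).symm)
  have hsame : ∀ p, S.D.Phi (six p) = S.D.Phi (K.th p.2) := by
    rintro ⟨s, a⟩
    cases s
    · rfl
    · refine sub_eq_zero.1 ((classInner_self_eq_zero _).1 ?_)
      have n0 := K.th_ne_conj a a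
      rw [classInner_sub_left, classInner_sub_right, classInner_sub_right, S.D.classInner_Phi,
        S.D.classInner_Phi, S.D.classInner_Phi, S.D.classInner_Phi]
      simp only [six, cond_true, Complex.conj_conj, if_neg n0, if_neg n0.symm]
      simp
  have hother : ∀ l : IrrCharacter S.D.Y, l ∉ Set.range six →
      ∃ k : ℤ, classInner (S.D.Phi l) (S.fS (X 0)) = k ∧ 4 * (k : ℝ) ^ 2 ≤ 8 ∧ (l ≠ one → k = 0) := by
    intro l hl
    have hne1 : ∀ a, (l : S.D.Y → ℂ) ≠ (K.th a : S.D.Y → ℂ) := fun a e =>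
      hl ⟨(false, a), Subtype.ext e.symm⟩
    have hne2 : ∀ a, (l : S.D.Y → ℂ) ≠ fun y => conj ((K.th a : S.D.Y → ℂ) y) := fun a e =>
      hl ⟨(true, a), Subtype.ext e.symm⟩
    have hne3 : ∀ a, (K.th a : S.D.Y → ℂ) ≠ fun y => conj ((l : S.D.Y → ℂ) y) := fun a e =>
      hne2 a (funext fun y => by rw [e, Complex.conj_conj])
    obtain ⟨k, hk, hk2, h0⟩ := hc.coef (S.D.Phi_gen l) (fun _ => S.D.Phi_supp l)
      (fun a => by rw [S.D.classInner_Phi, if_neg (hne1 a), if_neg (hne2 a)]; ring)
      (fun b c => by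
        rw [S.D.sum_irr_Phi, S.D.sum_irr_Phi, if_neg (hne1 b).symm, if_neg (hne3 b),
          if_neg (hne1 c).symm, if_neg (hne3 c)])
    have hn : (classInner (S.D.Phi l) (S.D.Phi l)).re =
        if (l : S.D.Y → ℂ) = fun y => conj ((l : S.D.Y → ℂ) y) then 4 else 2 := by
      rw [S.D.classInner_Phi, if_pos rfl]
      split_ifs <;> norm_num
    refine ⟨k, hk, hk2.trans ?_, fun hl1 => h0 ?_⟩
    · rw [hn]; split_ifs <;> norm_num
    · rw [hn, if_neg fun h => hl1 (Subtype.ext (S.D.irrY_real h))]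
  obtain ⟨k, hk, hk8, -⟩ := hother one fun ⟨p, h⟩ => hone p h
  have hsum : ∑ l : IrrCharacter S.D.Y, classInner (S.D.Phi l) (S.fS (X 0)) = 2 * (e : ℂ) + k := by
    rw [← Finset.sum_compl_add_sum (Finset.univ.image six), Finset.sum_image (fun p _ q _ h => hsix h),
      Finset.sum_eq_single one]
    · rw [hk, add_comm]
      congr 1
      have hval : ∀ p, classInner (S.D.Phi (six p)) (S.fS (X 0)) =
          (e : ℂ) * if (0 : Fin 3) = p.2 then -1 else 1 := fun p => by
        rw [hsame, ← S.classInner_Ind _ hXc]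
        exact hc.va_X p.2 0
      simp only [hval, Fintype.sum_prod_type, Fintype.sum_bool, Fin.sum_univ_three]
      simp
      ring
    · intro l hl hl1
      obtain ⟨k', hk', -, h0'⟩ := hother l fun ⟨p, hp⟩ =>
        Finset.mem_compl.1 hl (Finset.mem_image.2 ⟨p, Finset.mem_univ _, hp⟩)
      rw [hk', h0' hl1, Int.cast_zero]
    · intro h
      refine absurd (Finset.mem_compl.2 fun h' => ?_) h
      obtain ⟨p, -, hp⟩ := Finset.mem_image.1 h'
      exact hone p hp
  rw [hsum, show S.fS (X 0) S.D.h = u from rfl, hu2] at hre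
  simp at hre
  have hke : (k : ℝ) = 2 * e := by
    have := congrArg Complex.re hre
    simp at this
    linarith
  rcases hc.he with rfl | rfl <;> rw [hke] at hk8 <;> norm_num at hk8

end Cyc

/-- In a group of Ree type some element of order three is inverted by a 2-element. -/
theorem hasInvertedThree_of_setting {G : Type u} [Group G] [Finite G] [IsSimpleGroup G]
    (hnab : ¬ IsMulCommutative G) (S : Setting G P) : HasInvertedThree G := by
  by_contra hnr
  cases nonempty_fintype G
  obtain ⟨K⟩ := nonempty_cyc S hnab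
  have hnc := K.not_central hnr
  obtain ⟨e, X, Ω, hc⟩ := K.exists_coh hnc
  exact K.not_coh hnc hnr hc

end Cfsg.Agent.Spor.Gold
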