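import Cfsg.Agent.Lib.Spor.Gold.ReeLocal
import Cfsg.Agent.Lib.Spor.Gold.ReeFunB
import Cfsg.Agent.Lib.Char.Constituent

/-!
Induction to the group of functions on the centralizer of the involution living on the coset of `t`.
-/

open scoped ComplexConjugate

set_option autoImplicit false
set_option linter.unusedSectionVars false
set_option linter.style.haveILetI false

open scoped Classical

namespace Cfsg.Agent.Spor.Gold.Setting

open Cfsg Cfsg.Agent.Char

universe u v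

variable {G : Type u} [Group G] [Fintype G] {P : Type v} [Group P] [Fintype P] (S : Setting G P)
include S

/-- The sign character of the centralizer. -/
noncomputable def sgn : S.C →* ℂˣ :=
  MonoidHom.mk' (fun c => if (c : G) ∈ S.ι.range then 1 else -1) fun a b => by
    have hn : ∀ k, S.t * S.ι k ∉ S.ι.range := fun k ⟨k', e⟩ => S.t_mul_ne k k' e.symm
    rcases S.κ_spec a with ha | ha <;> rcases S.κ_spec b with hb | hb
    · have h : ((a * b : S.C) : G) ∈ S.ι.range := ⟨_, by rw [Subgroup.coe_mul, ha, hb, map_mul]⟩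
      rw [if_pos h, if_pos ⟨_, ha.symm⟩, if_pos ⟨_, hb.symm⟩, one_mul]
    · have h : ((a * b : S.C) : G) ∉ S.ι.range := by
        rw [Subgroup.coe_mul, ha, hb, S.t_ι]; exact hn _
      rw [if_neg h, if_pos ⟨_, ha.symm⟩, if_neg (hb ▸ hn _), one_mul]
    · have h : ((a * b : S.C) : G) ∉ S.ι.range := by
        rw [Subgroup.coe_mul, ha, hb, mul_assoc, ← map_mul]; exact hn _
      rw [if_neg h, if_neg (ha ▸ hn _), if_pos ⟨_, hb.symm⟩, mul_one]
    · have h : ((a * b : S.C) : G) ∈ S.ι.range := ⟨S.κ a * S.κ b, by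
        rw [Subgroup.coe_mul, ha, hb, mul_assoc, S.t_ι, ← mul_assoc, S.tt, one_mul]⟩
      rw [if_pos h, if_neg (ha ▸ hn _), if_neg (hb ▸ hn _), neg_mul_neg, one_mul]

/-- The function on the centralizer. -/
noncomputable def psi (Φ : P → ℂ) : S.C → ℂ := fun c => (1 - (S.sgn c : ℂ)) * Φ (S.κ c)

/-- Its induced function. -/
noncomputable def Ind (Φ : P → ℂ) : G → ℂ := indFun S.C (S.psi Φ)

/-- Restriction to the coset of `t`. -/
def fS (χ : G → ℂ) : P → ℂ := fun k => χ (S.t * S.ι k)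

theorem psi_ι (Φ : P → ℂ) {c : S.C} {k : P} (h : (c : G) = S.ι k) : S.psi Φ c = 0 := by
  have : (S.sgn c : ℂ) = 1 := by simp [sgn, h]
  rw [psi, this, sub_self, zero_mul]

theorem psi_t (Φ : P → ℂ) {c : S.C} {k : P} (h : (c : G) = S.t * S.ι k) :
    S.psi Φ c = 2 * Φ k := by
  have hn : ¬ ∃ k', S.ι k' = S.t * S.ι k := fun ⟨k', e⟩ => S.t_mul_ne k k' e.symm
  have : (S.sgn c : ℂ) = -1 := by simp [sgn, h, hn]
  rw [psi, this, S.κ_eq (Or.inr h)]
  ring

theorem psi_class {Φ : P → ℂ} (hΦ : IsClassFunction P Φ) : IsClassFunction S.C (S.psi Φ) := by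
  intro a b
  simp only [psi, map_mul, map_inv, mul_inv_cancel_comm, hΦ (S.κ a) (S.κ b)]

theorem psi_gen {Φ : P → ℂ} (hΦ : IsGeneralizedCharacter P Φ) :
    IsGeneralizedCharacter S.C (S.psi Φ) := by
  have h1 : IsGeneralizedCharacter S.C (fun c => Φ (S.κ c)) := IsGenChar.comp S.κ hΦ
  have h2 := IsGenChar.mul (IsGenChar.of_isCharacter (IsIrr.isCharacter (isIrr_linear S.sgn))) h1
  have e : S.psi Φ = (fun c => Φ (S.κ c)) - ((fun c => (S.sgn c : ℂ)) * fun c => Φ (S.κ c)) := by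
    funext c; simp [psi, sub_mul]
  rw [e]
  exact IsGenChar.sub h1 h2

theorem Ind_gen {Φ : P → ℂ} (hΦ : IsGeneralizedCharacter P Φ) :
    IsGeneralizedCharacter G (S.Ind Φ) := IsGenChar.ind S.C (S.psi_gen hΦ)

theorem Ind_class (Φ : P → ℂ) : IsClassFunction G (S.Ind Φ) := indFun_classFun _ _

theorem fS_class {χ : G → ℂ} (hχ : IsClassFunction G χ) : IsClassFunction P (S.fS χ) := by
  intro a b
  have h := hχ (S.t * S.ι a) (S.ι b)
  simp only [fS, map_mul, map_inv]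
  rw [← h]
  congr 1
  rw [← mul_assoc (S.ι b) S.t, S.tc b]
  group

theorem pow_E_t {k : P} (hk : k ^ S.D.E = 1) : (S.t * S.ι k) ^ S.D.E = S.t := by
  rw [(show Commute S.t (S.ι k) from (S.tc k).symm).mul_pow, ← map_pow, hk, map_one, mul_one]
  obtain ⟨j, hj⟩ := S.D.E_odd
  rw [hj, pow_succ, pow_mul, pow_two, S.tt, one_pow, one_mul]

theorem psi_ne {Φ : P → ℂ} (hs : ∀ a, Φ a ≠ 0 → a ^ S.D.E = 1) {c : S.C} (h : S.psi Φ c ≠ 0) :
    ∃ k, k ^ S.D.E = 1 ∧ (c : G) = S.t * S.ι k := by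
  rcases S.κ_spec c with e | e
  · exact absurd (S.psi_ι Φ e) h
  · refine ⟨_, hs _ fun h0 => h ?_, e⟩
    rw [S.psi_t Φ e, h0, mul_zero]

/-- The value on the coset of `t`. -/
theorem Ind_val {Φ : P → ℂ} (hΦ : IsClassFunction P Φ) (hs : ∀ a, Φ a ≠ 0 → a ^ S.D.E = 1) {k : P}
    (hk : k ^ S.D.E = 1) : S.Ind Φ (S.t * S.ι k) = 2 * Φ k := by
  set g := S.t * S.ι k with hg
  have hgC : g ∈ S.C := mul_mem S.t_mem (S.ι_mem k)
  have hval : ∀ x : G, extendByZero S.C (S.psi Φ) (x⁻¹ * g * x) =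
      if x ∈ S.C then 2 * Φ k else 0 := by
    intro x
    split_ifs with hx
    · rw [extendByZero_of_mem _ (mul_mem (mul_mem (inv_mem hx) hgC) hx)]
      have h := S.psi_class hΦ ⟨g, hgC⟩ (⟨x, hx⟩⁻¹)
      rw [inv_inv] at h
      exact h.trans (S.psi_t Φ (c := ⟨g, hgC⟩) hg)
    · by_cases hm : x⁻¹ * g * x ∈ S.C
      · rw [extendByZero_of_mem _ hm]
        by_contra hne
        obtain ⟨k', hk', he⟩ := S.psi_ne hs hne
        have h := congrArg (· ^ S.D.E) he
        simp only at h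
        rw [S.pow_E_t hk', show x⁻¹ * g * x = x⁻¹ * g * x⁻¹⁻¹ by rw [inv_inv], conj_pow,
          S.pow_E_t hk, inv_inv] at h
        refine hx (S.mem_C.2 ?_)
        calc x * S.t = x * (x⁻¹ * S.t * x) := by rw [h]
          _ = S.t * x := by group
      · exact extendByZero_not_mem _ hm
  simp only [Ind, indFun, hval]
  rw [← Finset.sum_filter, Finset.sum_const, nsmul_eq_mul, ← Fintype.card_subtype,
    ← Nat.card_eq_fintype_card, ← mul_assoc,
    inv_mul_cancel₀ (Nat.cast_ne_zero.2 Nat.card_pos.ne'), one_mul]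

theorem Ind_ne {Φ : P → ℂ} (hs : ∀ a, Φ a ≠ 0 → a ^ S.D.E = 1) {g : G} (h : S.Ind Φ g ≠ 0) :
    ∃ x k, k ^ S.D.E = 1 ∧ x⁻¹ * g * x = S.t * S.ι k := by
  by_contra hno
  push Not at hno
  refine h ?_
  simp only [Ind, indFun]
  rw [Finset.sum_eq_zero, mul_zero]
  intro x _
  by_cases hm : x⁻¹ * g * x ∈ S.C
  · rw [extendByZero_of_mem _ hm]
    by_contra hne
    obtain ⟨k, hk, he⟩ := S.psi_ne hs hne
    exact hno x k hk he
  · exact extendByZero_not_mem _ hm

/-- It vanishes on elements of odd order. -/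
theorem Ind_odd {Φ : P → ℂ} (hs : ∀ a, Φ a ≠ 0 → a ^ S.D.E = 1) {g : G} {n : ℕ} (hn : Odd n)
    (hg : g ^ n = 1) : S.Ind Φ g = 0 := by
  by_contra h
  obtain ⟨x, k, hk, he⟩ := S.Ind_ne hs h
  have h1 : (S.t * S.ι k) ^ (S.D.E * n) = 1 := by
    rw [← he, show x⁻¹ * g * x = x⁻¹ * g * x⁻¹⁻¹ by rw [inv_inv], conj_pow, mul_comm, pow_mul, hg,
      one_pow]
    group
  rw [pow_mul, S.pow_E_t hk] at h1
  obtain ⟨j, hj⟩ := hn
  rw [hj, pow_succ, pow_mul, pow_two, S.tt, one_pow, one_mul] at h1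
  exact S.t_ne h1

theorem classInner_Ind (Φ : P → ℂ) {χ : G → ℂ} (hχ : IsClassFunction G χ) :
    classInner (S.Ind Φ) χ = classInner Φ (S.fS χ) := by
  rw [Ind, classInner_indFun _ _ hχ]
  simp only [classInner, S.card_C]
  let e : Bool × P → S.C := fun p =>
    ⟨(bif p.1 then S.t else 1) * S.ι p.2, mul_mem (by cases p.1 <;> simp [S.t_mem, one_mem]) (S.ι_mem _)⟩
  have he : Function.Bijective e := by
    refine (Fintype.bijective_iff_surjective_and_card e).2 ⟨fun c => ?_, ?_⟩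
    · rcases S.κ_spec c with h | h
      · exact ⟨(false, S.κ c), Subtype.ext (by simp [e, ← h])⟩
      · exact ⟨(true, S.κ c), Subtype.ext (by simp [e, ← h])⟩
    · rw [Fintype.card_prod, Fintype.card_bool, ← Nat.card_eq_fintype_card,
        ← Nat.card_eq_fintype_card, S.card_C]
  rw [← Fintype.sum_bijective e he _ _ fun _ => rfl, Fintype.sum_prod_type, Fintype.sum_bool]
  have h1 : ∀ k, S.psi Φ (e (true, k)) = 2 * Φ k := fun k => S.psi_t Φ (by simp [e])
  have h2 : ∀ k, S.psi Φ (e (false, k)) = 0 := fun k => S.psi_ι Φ (k := k) (by simp [e])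
  simp only [h1, h2, zero_mul, Finset.sum_const_zero, add_zero, mul_assoc, ← Finset.mul_sum]
  simp only [e, fS, cond_true, Nat.cast_mul, Nat.cast_ofNat]
  field_simp

theorem isometry {Φ Φ' : P → ℂ} (hs : ∀ a, Φ a ≠ 0 → a ^ S.D.E = 1) (hΦ' : IsClassFunction P Φ')
    (hs' : ∀ a, Φ' a ≠ 0 → a ^ S.D.E = 1) :
    classInner (S.Ind Φ) (S.Ind Φ') = 2 * classInner Φ Φ' := by
  rw [S.classInner_Ind Φ (S.Ind_class Φ')]
  simp only [classInner, fS]
  rw [mul_left_comm, Finset.mul_sum _ _ (2 : ℂ)]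
  congr 1
  refine Finset.sum_congr rfl fun k _ => ?_
  by_cases hk : Φ k = 0
  · rw [hk]; ring
  · rw [S.Ind_val hΦ' hs' (hs k hk), map_mul, Complex.conj_ofNat]; ring

end Cfsg.Agent.Spor.Gold.Setting
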