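import Cfsg.Agent.Lib.Spor.Gold.ReeChars
import Cfsg.Agent.Lib.Spor.Gold.ReeInd
import Cfsg.Agent.Lib.Char.Exceptional

/-!
Induction from `{1, t, u, tu} × Y` of differences of its linear characters.
-/

open scoped ComplexConjugate

set_option autoImplicit false
set_option linter.unusedSectionVars false
set_option linter.style.haveILetI false

open scoped Classical

namespace Cfsg.Agent.Spor.Gold.Cyc

open Cfsg Cfsg.Agent.Char

universe u v

variable {G : Type u} [Group G] [Fintype G] {P : Type v} [Group P] [Fintype P] {S : Setting G P}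
  (K : Cyc S)
include K

theorem CV_v {a : G} (ha : a ∈ K.CV) (i : Fin 3) : a * K.v i = K.v i * a := by
  obtain ⟨h1, h2⟩ := K.mem_CV.1 ha
  fin_cases i <;> simp only [Fin.zero_eta, Fin.mk_one, Fin.reduceFinMk, Fin.isValue, v0, v1, v2]
  · exact h1
  · exact h2
  · rw [← mul_assoc, h1, mul_assoc, h2, mul_assoc]

theorem CV_cases {c : G} (hc : c ∈ K.CV) : c ∈ K.A ∨ c * S.ι S.D.w ∈ K.A := by
  obtain ⟨h1, h2⟩ := K.mem_CV.1 hc
  obtain ⟨k, hk⟩ := S.cover c h1
  have hku : k * S.D.u = S.D.u * k := by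
    refine S.inj ?_
    rw [map_mul, map_mul]
    rcases hk with e | e <;> rw [e] at h2
    · exact h2
    · rw [mul_assoc, ← mul_assoc (S.ι S.D.u) S.t, S.tc, mul_assoc] at h2
      exact mul_left_cancel h2
  rcases S.D.commute_u_iff.1 hku with h | h
  · exact Or.inl (K.mem_A.2 ⟨k, h, hk⟩)
  · refine Or.inr (K.mem_A.2 ⟨_, h, ?_⟩)
    rcases hk with e | e
    · exact Or.inl (by rw [e, map_mul])
    · exact Or.inr (by rw [e, map_mul, mul_assoc])

theorem ιw_not_A : S.ι S.D.w ∉ K.A := fun h => by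
  obtain ⟨k, hk, e | e⟩ := K.mem_A.1 h
  · exact S.D.w_not_mem (S.inj e ▸ hk)
  · exact S.t_mul_ne _ _ e.symm

theorem gpow_v0 {i : Fin 3} (h : K.g ^ (i : ℕ) ∈ K.CV) : i = 0 := by
  have e := K.conj_v 0 i
  rw [K.CV_v h 0, mul_inv_cancel_right, zero_add] at e
  exact (K.v_inj e).symm

/-- Representatives for the elements moving a mixed element into `A`. -/
noncomputable def φx (p : Bool × K.A × Fin 3) : G :=
  (p.2.1 : G) * (bif p.1 then S.ι S.D.w else 1) * K.g ^ (p.2.2 : ℕ)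

theorem φx_CV (s : Bool) (a : K.A) : (a : G) * (bif s then S.ι S.D.w else 1) ∈ K.CV :=
  mul_mem (K.A_le a.2) (by cases s <;> simp [one_mem, K.ιw_CV])

theorem φx_inj : Function.Injective K.φx := by
  rintro ⟨s, a, j⟩ ⟨s', a', j'⟩ h
  simp only [φx] at h
  set c := (a : G) * (bif s then S.ι S.D.w else 1)
  set c' := (a' : G) * (bif s' then S.ι S.D.w else 1)
  have hj : j' - j = 0 := K.gpow_v0 (by
    rw [show K.g ^ ((j' - j : Fin 3) : ℕ) = c'⁻¹ * c by
      rw [sub_eq_add_neg, K.g_add, ← K.g_neg, eq_comm, inv_mul_eq_iff_eq_mul, ← mul_assoc, ← h,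
        mul_inv_cancel_right]]
    exact mul_mem (inv_mem (K.φx_CV s' a')) (K.φx_CV s a))
  obtain rfl := sub_eq_zero.1 hj
  have hc := mul_right_cancel h
  have hs : s = s' := by
    by_contra hne
    cases s <;> cases s' <;> simp only [c, c', cond_true, cond_false, mul_one] at hc <;>
      first
      | exact hne rfl
      | (refine K.ιw_not_A ?_
         rw [show S.ι S.D.w = (a' : G)⁻¹ * a by rw [hc]; group]
         exact mul_mem (inv_mem a'.2) a.2)
      | (refine K.ιw_not_A ?_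
         rw [show S.ι S.D.w = (a : G)⁻¹ * a' by rw [← hc]; group]
         exact mul_mem (inv_mem a.2) a'.2)
  subst hs
  rw [Subtype.ext (mul_right_cancel hc : (a : G) = a')]

theorem mem_range_φx {x : G} {j : Fin 3} {c : G} (hc : c ∈ K.CV) (hx : x = c * K.g ^ (j : ℕ)) :
    x ∈ Set.range K.φx := by
  rcases K.CV_cases hc with h | h
  · exact ⟨(false, ⟨c, h⟩, j), by simp [φx, hx]⟩
  · refine ⟨(true, ⟨_, h⟩, j), ?_⟩
    have hw : S.ι S.D.w * S.ι S.D.w = 1 := by rw [← map_mul, S.D.w2, map_one]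
    simp [φx, hx, mul_assoc c, hw]

/-- The difference of two of the linear characters. -/
noncomputable def Fd (b c : Fin 3) : K.A → ℂ := fun a => (K.lam b a : ℂ) - (K.lam c a : ℂ)

/-- Its induced function. -/
noncomputable def Dd (b c : Fin 3) : G → ℂ := indFun K.A (K.Fd b c)

theorem Dd_class (b c : Fin 3) : IsClassFunction G (K.Dd b c) := indFun_classFun _ _

theorem Fd_Y (b c : Fin 3) {a : K.A} {y : S.D.Y} (h : (a : G) = S.ι y) : K.Fd b c a = 0 := by
  rw [show a = ⟨S.ι y, K.Y_A y.2⟩ from Subtype.ext h, Fd, K.lam_Y, K.lam_Y, sub_self]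

theorem Fd_v (b c i : Fin 3) {a : K.A} {y : S.D.Y} (h : (a : G) = K.v i * S.ι y) :
    K.Fd b c a =
      2 * ((if b = i then 1 else 0) - if c = i then 1 else 0) * (K.th 0 : S.D.Y → ℂ) y := by
  rw [show a = ⟨K.v i * S.ι y, K.vy_A i y⟩ from Subtype.ext h, Fd, K.lam_v, K.lam_v, th_apply,
    K.σi_zero]
  split_ifs <;> ring

theorem Dd_ne {b c : Fin 3} {g : G} (h : K.Dd b c g ≠ 0) :
    ∃ x, ∃ i, ∃ y : S.D.Y, x⁻¹ * g * x = K.v i * S.ι y := by
  by_contra hno
  push Not at hno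
  refine h ?_
  simp only [Dd, indFun]
  rw [Finset.sum_eq_zero, mul_zero]
  intro x _
  by_cases hm : x⁻¹ * g * x ∈ K.A
  · rw [extendByZero_of_mem _ hm]
    obtain ⟨e, y, he, hy, hxe⟩ := K.decomp hm
    rcases he with rfl | ⟨i, rfl⟩
    · exact K.Fd_Y b c (y := ⟨y, hy⟩) (by simp [hxe])
    · exact absurd hxe (hno x i ⟨y, hy⟩)
  · exact extendByZero_not_mem _ hm

/-- It vanishes at elements of odd order. -/
theorem Dd_odd (b c : Fin 3) {g : G} {n : ℕ} (hn : Odd n) (hg : g ^ n = 1) : K.Dd b c g = 0 := by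
  by_contra h
  obtain ⟨x, i, y, he⟩ := K.Dd_ne h
  have h1 : (K.v i * S.ι y) ^ n = 1 := by
    rw [← he, show x⁻¹ * g * x = x⁻¹ * g * x⁻¹⁻¹ by rw [inv_inv], conj_pow, hg]; group
  obtain ⟨e1, -⟩ := K.pow_part (Or.inr ⟨i, rfl⟩) y.2
  have h2 : K.v i ^ n = 1 := by rw [← e1, ← pow_mul, mul_comm, pow_mul, h1, one_pow]
  obtain ⟨j, hj⟩ := hn
  rw [hj, pow_succ, pow_mul, pow_two, K.v_sq, one_pow, one_mul] at h2
  exact K.v_ne i h2

/-- It vanishes at `t` times an element of order three. -/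
theorem Dd_tx (b c : Fin 3) : K.Dd b c (S.t * S.ι S.D.h) = 0 := by
  by_contra h
  obtain ⟨x, i, y, he⟩ := K.Dd_ne h
  set g := S.t * S.ι S.D.h with hgdef
  have hc : Commute S.t (S.ι S.D.h) := (S.tc _).symm
  have hg2 : g ^ 2 = S.ι (S.D.h * S.D.h) := by
    rw [hgdef, hc.mul_pow, pow_two, S.tt, one_mul, pow_two, ← map_mul]
  have hg6 : g ^ 6 = 1 := by
    rw [show (6 : ℕ) = 2 * 3 by norm_num, pow_mul, hg2, ← map_pow,
      show (S.D.h * S.D.h) ^ 3 = (S.D.h ^ 3) ^ 2 by rw [← pow_two, ← pow_mul, ← pow_mul], S.D.h3,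
      one_pow, map_one]
  have hconj : ∀ n, (K.v i * S.ι y) ^ n = x⁻¹ * g ^ n * x := fun n => by
    rw [← he, show x⁻¹ * g * x = x⁻¹ * g * x⁻¹⁻¹ by rw [inv_inv], conj_pow, inv_inv]
  obtain ⟨-, e2⟩ := K.pow_part (Or.inr ⟨i, rfl⟩) y.2
  have hy6 : (y : P) ^ 6 = 1 := by
    refine S.inj ?_
    rw [map_pow, ← e2, ← pow_mul, mul_comm, pow_mul, hconj, hg6, map_one]
    simp
  have hcop : Nat.Coprime S.D.r 6 := by
    rw [show (6 : ℕ) = 2 * 3 by norm_num]
    exact Nat.Coprime.mul_right (Nat.coprime_two_right.2 S.D.r_odd)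
      (Nat.prime_three.coprime_iff_not_dvd.2 S.D.three_r).symm
  have hy : (y : P) = 1 := by
    have hh := pow_gcd_eq_one.2 ⟨y.2.2, hy6⟩
    rwa [hcop.gcd_eq_one, pow_one] at hh
  have h2 := hconj 2
  rw [hy, map_one, mul_one, pow_two, K.v_sq, hg2] at h2
  have h3 : S.D.h * S.D.h = 1 := S.inj (by
    calc S.ι (S.D.h * S.D.h) = x * (x⁻¹ * S.ι (S.D.h * S.D.h) * x) * x⁻¹ := by group
      _ = S.ι 1 := by rw [← h2, map_one]; group)
  exact S.D.h1 (by have := S.D.h3; rwa [pow_succ, pow_two, h3, one_mul] at this)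

/-- The values at the mixed elements. -/
theorem Dd_vy (d e i : Fin 3) (y : S.D.Y) :
    K.Dd d e (K.v i * S.ι y) = 2 * (K.tau (d - i) y - K.tau (e - i) y) := by
  simp only [Dd, indFun]
  set T := fun x : G => extendByZero K.A (K.Fd d e) (x⁻¹ * (K.v i * S.ι y) * x)
  show _ * ∑ x, T x = _
  by_cases hy1 : (y : P) = 1
  · obtain rfl : y = 1 := Subtype.ext hy1
    rw [K.tau_one, K.tau_one, sub_self, mul_zero, mul_eq_zero]
    right
    have hg : S.ι ((1 : S.D.Y) : P) = 1 := by rw [Subgroup.coe_one, map_one]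
    have hT : ∀ x, T x =
        ∑ j : Fin 3, if x⁻¹ * K.v i * x = K.v j then
          2 * ((if d = j then (1 : ℂ) else 0) - if e = j then 1 else 0) else 0 := fun x => by
      simp only [T, hg, mul_one]
      by_cases hm : x⁻¹ * K.v i * x ∈ K.A
      · rw [extendByZero_of_mem _ hm]
        have hsq : x⁻¹ * K.v i * x * (x⁻¹ * K.v i * x) = 1 := by
          calc x⁻¹ * K.v i * x * (x⁻¹ * K.v i * x) = x⁻¹ * (K.v i * K.v i) * x := by group
            _ = 1 := by rw [K.v_sq]; group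
        rcases K.sq_one hm hsq with h | ⟨j, hj⟩
        · exact absurd (by
            calc K.v i = x * (x⁻¹ * K.v i * x) * x⁻¹ := by group
              _ = 1 := by rw [h]; group) (K.v_ne i)
        · rw [Finset.sum_eq_single j (fun k _ hk => if_neg fun h => hk (K.v_inj (h.symm.trans hj)))
            (fun h => absurd (Finset.mem_univ j) h), if_pos hj,
            K.Fd_v d e j (y := 1) (by rw [hg, mul_one]; exact hj), th_apply, map_one, map_one,
            Units.val_one, mul_one]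
      · rw [extendByZero_not_mem _ hm, Finset.sum_eq_zero fun j _ => if_neg
          fun h : x⁻¹ * K.v i * x = K.v j => hm (by rw [h]; exact K.v_A j)]
    have hN : ∀ j, ∑ x : G, (if x⁻¹ * K.v i * x = K.v j then (1 : ℂ) else 0) =
        ∑ x : G, if x⁻¹ * K.v i * x = K.v 0 then (1 : ℂ) else 0 := fun j => by
      refine Fintype.sum_equiv (Equiv.mulRight (K.g ^ (j : ℕ))) _ _ fun x => if_congr ?_ rfl rfl
      have hj := K.conj_v 0 j
      rw [zero_add] at hj
      simp only [Equiv.coe_mulRight, mul_inv_rev]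
      constructor
      · intro h
        calc (K.g ^ (j : ℕ))⁻¹ * x⁻¹ * K.v i * (x * K.g ^ (j : ℕ))
            = (K.g ^ (j : ℕ))⁻¹ * (x⁻¹ * K.v i * x) * K.g ^ (j : ℕ) := by group
          _ = K.v 0 := by rw [h, ← hj]; group
      · intro h
        calc x⁻¹ * K.v i * x
            = K.g ^ (j : ℕ) * ((K.g ^ (j : ℕ))⁻¹ * x⁻¹ * K.v i * (x * K.g ^ (j : ℕ))) *
              (K.g ^ (j : ℕ))⁻¹ := by group
          _ = K.v j := by rw [h, hj]
    rw [Finset.sum_congr rfl fun x _ => hT x, Finset.sum_comm]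
    have hj : ∀ j, (∑ x : G, if x⁻¹ * K.v i * x = K.v j then
        2 * ((if d = j then (1 : ℂ) else 0) - if e = j then 1 else 0) else 0) =
        2 * ((if d = j then (1 : ℂ) else 0) - if e = j then 1 else 0) *
          ∑ x : G, if x⁻¹ * K.v i * x = K.v 0 then (1 : ℂ) else 0 := fun j => by
      rw [← hN j, Finset.mul_sum]
      exact Finset.sum_congr rfl fun x _ => by split_ifs <;> ring
    rw [Finset.sum_congr rfl fun j _ => hj j, ← Finset.sum_mul, ← Finset.mul_sum,
      Finset.sum_sub_distrib]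
    simp
  · have hzero : ∀ x ∉ Set.range K.φx, T x = 0 := fun x hx => by
      by_contra hne
      have hm : x⁻¹ * (K.v i * S.ι y) * x ∈ K.A := by
        by_contra hm
        exact hne (extendByZero_not_mem _ hm)
      obtain ⟨j, c, hc, hxc⟩ := K.fusion y.2 hy1 hm
      exact hx (K.mem_range_φx hc hxc)
    rw [← Fintype.sum_of_injective K.φx K.φx_inj (fun p => T (K.φx p)) T hzero (fun p => rfl),
      Fintype.sum_prod_type, Fintype.sum_bool]
    have hterm : ∀ (s : Bool) (a : K.A) (j : Fin 3),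
        T (K.φx (s, a, j)) = 2 * ((if d = i - j then 1 else 0) - if e = i - j then 1 else 0) *
          (bif s then conj ((K.th (-j) : S.D.Y → ℂ) y) else (K.th (-j) : S.D.Y → ℂ) y) := by
      intro s a j
      set y' : S.D.Y := bif s then y⁻¹ else y with hy'
      have hcv := K.CV_v (K.φx_CV s a) i
      have hcy : ((a : G) * (bif s then S.ι S.D.w else 1))⁻¹ * S.ι y *
          ((a : G) * (bif s then S.ι S.D.w else 1)) = S.ι y' := by
        have ha : (a : G)⁻¹ * S.ι y * a = S.ι y := by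
          rw [mul_assoc, K.A_comm (K.Y_A y.2) a.2, inv_mul_cancel_left]
        cases s
        · simpa [y'] using ha
        · simp only [y', cond_true, Subgroup.coe_inv]
          calc ((a : G) * S.ι S.D.w)⁻¹ * S.ι y * ((a : G) * S.ι S.D.w)
              = (S.ι S.D.w)⁻¹ * ((a : G)⁻¹ * S.ι y * a) * S.ι S.D.w := by group
            _ = S.ι ((y : P)⁻¹) := by
              rw [ha, ← map_inv, ← map_mul, ← map_mul,
                S.D.conj_Tw y.2 (by rw [S.D.w2]; exact one_mem _)]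
      have harg : (K.φx (s, a, j))⁻¹ * (K.v i * S.ι y) * K.φx (s, a, j) =
          K.v (i - j) * S.ι (K.σi (-j) y') := by
        simp only [φx]
        set cc := (a : G) * (bif s then S.ι S.D.w else 1)
        calc (cc * K.g ^ (j : ℕ))⁻¹ * (K.v i * S.ι y) * (cc * K.g ^ (j : ℕ))
            = (K.g ^ (j : ℕ))⁻¹ * (cc⁻¹ * (K.v i * cc)) * (K.g ^ (j : ℕ))⁻¹⁻¹ *
              ((K.g ^ (j : ℕ))⁻¹ * (cc⁻¹ * S.ι y * cc) * (K.g ^ (j : ℕ))⁻¹⁻¹) := by group
          _ = K.v (i - j) * S.ι (K.σi (-j) y') := by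
            rw [← hcv, inv_mul_cancel_left, hcy, K.g_neg, K.σi_spec, sub_eq_add_neg, K.conj_v]
      simp only [T]
      rw [harg, extendByZero_of_mem _ (K.vy_A _ _), K.Fd_v d e (i - j) rfl]
      congr 1
      rw [K.th_shift, zero_add]
      cases s
      · rfl
      · simp only [y', cond_true]
        exact IsIrr.apply_inv (K.th (-j)).2 y
    have h4r : (Nat.card K.A : ℂ) ≠ 0 := Nat.cast_ne_zero.2 Nat.card_pos.ne'
    have hs : ∀ s : Bool, ∑ q : K.A × Fin 3, T (K.φx (s, q)) = (Nat.card K.A : ℂ) * ∑ j : Fin 3,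
        2 * ((if d = i - j then 1 else 0) - if e = i - j then 1 else 0) *
          (bif s then conj ((K.th (-j) : S.D.Y → ℂ) y) else (K.th (-j) : S.D.Y → ℂ) y) := fun s => by
      rw [Fintype.sum_prod_type,
        Finset.sum_congr rfl fun a _ => Finset.sum_congr rfl fun j _ => hterm s a j,
        Finset.sum_const, Finset.card_univ, ← Nat.card_eq_fintype_card, nsmul_eq_mul]
    rw [hs, hs]
    simp only [cond_true, cond_false]
    rw [← mul_add, ← Finset.sum_add_distrib, inv_mul_cancel_left₀ h4r]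
    have hd : ∀ z : Fin 3, ∀ j : Fin 3, (z = i - j ↔ j = i - z) := fun z j =>
      ⟨fun h => by rw [h, sub_sub_cancel], fun h => by rw [h, sub_sub_cancel]⟩
    simp only [tau, mul_add, add_mul, mul_sub, sub_mul, Finset.sum_sub_distrib, Finset.sum_add_distrib, hd, mul_ite, mul_one,
      mul_zero, ite_mul, zero_mul, Finset.sum_ite_eq', Finset.mem_univ, if_true, neg_sub]
    ring

/-- Inner products with the differences. -/
theorem inner_Dd (b c : Fin 3) {χ : G → ℂ} (hχ : IsClassFunction G χ) :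
    classInner (K.Dd b c) χ = (2 * S.D.r : ℂ)⁻¹ * ∑ i : Fin 3,
      ((if b = i then (1 : ℂ) else 0) - if c = i then 1 else 0) *
        ∑ y : S.D.Y, (K.th 0 : S.D.Y → ℂ) y * conj (χ (K.v i * S.ι y)) := by
  rw [Dd, classInner_indFun _ _ hχ]
  simp only [classInner, K.card_A]
  have h := K.sum_A (fun a => extendByZero K.A (K.Fd b c) a * conj (χ a))
  simp only [extendByZero_apply] at h
  have hY : ∀ y : S.D.Y, extendByZero K.A (K.Fd b c) (S.ι y) = 0 := fun y => by
    rw [extendByZero_of_mem _ (K.Y_A y.2), K.Fd_Y b c rfl]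
  have hv : ∀ (i : Fin 3) (y : S.D.Y), extendByZero K.A (K.Fd b c) (K.v i * S.ι y) =
      2 * ((if b = i then 1 else 0) - if c = i then 1 else 0) * (K.th 0 : S.D.Y → ℂ) y := fun i y => by
    rw [extendByZero_of_mem _ (K.vy_A i y), K.Fd_v b c i rfl]
  simp only [hY, hv, zero_mul, Finset.sum_const_zero, zero_add] at h
  rw [h, Finset.mul_sum, Finset.mul_sum]
  refine Finset.sum_congr rfl fun i _ => ?_
  simp only [Finset.mul_sum, Nat.cast_mul, Nat.cast_ofNat]
  refine Finset.sum_congr rfl fun y _ => ?_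
  field_simp
  ring

theorem inner_Dd_Dd (hnc : ∃ y : S.D.Y, K.σ y ≠ y) (i j k l : Fin 3) :
    classInner (K.Dd i j) (K.Dd k l) =
      ((if i = k then (1 : ℂ) else 0) - if i = l then 1 else 0) -
        (if j = k then 1 else 0) + if j = l then 1 else 0 := by
  rw [K.inner_Dd i j (K.Dd_class k l)]
  have hr : (S.D.r : ℂ) ≠ 0 := Nat.cast_ne_zero.2 (by have := S.D.r_ge; omega)
  have hs : ∀ m : Fin 3, ∑ y : S.D.Y, (K.th 0 : S.D.Y → ℂ) y * conj (K.Dd k l (K.v m * S.ι y)) =
      2 * S.D.r * ((if k = m then 1 else 0) - if l = m then 1 else 0) := fun m => by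
    simp only [K.Dd_vy, map_mul, map_sub, Complex.conj_ofNat, mul_sub, mul_left_comm _ (2 : ℂ),
      Finset.sum_sub_distrib, ← Finset.mul_sum, K.sum_th_tau hnc,
      eq_comm (a := (0 : Fin 3)), sub_eq_zero]
    split_ifs <;> ring
  simp only [hs, sub_mul, mul_sub, ite_mul, one_mul, zero_mul, Finset.sum_sub_distrib,
    Finset.sum_ite_eq, Finset.mem_univ, if_true, eq_comm (a := k), eq_comm (a := l)]
  field_simp
  split_ifs <;> ring

/-- The family to which the coherence lemma applies. -/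
theorem exists_X (hnc : ∃ y : S.D.Y, K.σ y ≠ y) :
    ∃ ε : ℂ, (ε = 1 ∨ ε = -1) ∧ ∃ X : Fin 3 → (G → ℂ),
      (∀ i, IsIrrCharacter G (X i)) ∧ Function.Injective X ∧
      ∀ i j, K.Dd i j = ε • (X i - X j) := by
  have hsub : ∀ i j, indFun K.A (fun a => (K.lam i a : ℂ)) - indFun K.A (fun a => (K.lam j a : ℂ)) =
      K.Dd i j := fun i j => (indFun_sub _ _ _).symm
  obtain ⟨ε, hε, X, hX, hinj, he⟩ := Exceptional.exists_family (by norm_num)
    (fun b => indFun K.A (fun a => (K.lam b a : ℂ)))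
    (fun i j => IsGenChar.sub
      (IsGenChar.of_isCharacter (isCharacter_indFun _ (IsIrr.isCharacter (isIrr_linear _))))
      (IsGenChar.of_isCharacter (isCharacter_indFun _ (IsIrr.isCharacter (isIrr_linear _)))))
    (fun i j => by rw [indFun_one_eq, indFun_one_eq, map_one, map_one])
    (fun i j k l => by rw [hsub, hsub]; exact K.inner_Dd_Dd hnc i j k l)
  exact ⟨ε, hε, X, hX, hinj, fun i j => by rw [← hsub]; exact he i j⟩

/-- The values at mixed elements of an induced function. -/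
theorem Ind_vy {Φ : P → ℂ} (hΦ : IsClassFunction P Φ) (hs : ∀ a, Φ a ≠ 0 → a ^ S.D.E = 1)
    (i : Fin 3) (y : S.D.Y) :
    S.Ind Φ (K.v i * S.ι y) = 2 * Φ (K.σi (-i) y : S.D.Y) := by
  have e : K.v i * S.ι y =
      K.g ^ (i : ℕ) * (S.t * S.ι (K.σi (-i) y : S.D.Y)) * (K.g ^ (i : ℕ))⁻¹ := by
    rw [← K.σi_spec, ← K.g_neg, v]
    group
  rw [e, S.Ind_class Φ _ _, S.Ind_val hΦ hs]
  rw [show S.D.E = S.D.r * (S.D.q * S.D.m) by rw [KData.E]; ring, pow_mul, (K.σi (-i) y).2.2,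
    one_pow]

/-- Inner products of differences with induced functions. -/
theorem inner_Dd_Ind (b c : Fin 3) {Φ : P → ℂ} (hΦ : IsClassFunction P Φ)
    (hs : ∀ a, Φ a ≠ 0 → a ^ S.D.E = 1) :
    classInner (K.Dd b c) (S.Ind Φ) = (S.D.r : ℂ)⁻¹ *
      ((∑ y : S.D.Y, (K.th b : S.D.Y → ℂ) y * conj (Φ y)) -
        ∑ y : S.D.Y, (K.th c : S.D.Y → ℂ) y * conj (Φ y)) := by
  rw [K.inner_Dd b c (S.Ind_class Φ)]
  have key : ∀ i : Fin 3, ∑ y : S.D.Y, (K.th 0 : S.D.Y → ℂ) y * conj (S.Ind Φ (K.v i * S.ι y)) =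
      2 * ∑ y : S.D.Y, (K.th i : S.D.Y → ℂ) y * conj (Φ y) := fun i => by
    rw [Finset.mul_sum]
    refine (Fintype.sum_equiv (K.σe i) _ _ fun y => ?_).symm
    show _ = (K.th 0 : S.D.Y → ℂ) (K.σi i y) * conj (S.Ind Φ (K.v i * S.ι (K.σi i y : S.D.Y)))
    rw [K.Ind_vy hΦ hs, K.th_shift, zero_add, K.σi_add, neg_add_cancel, K.σi_zero, map_mul,
      Complex.conj_ofNat]
    ring
  simp only [key, sub_mul, Finset.sum_sub_distrib, ite_mul, one_mul, zero_mul, Finset.sum_ite_eq,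
    Finset.mem_univ, if_true]
  field_simp

end Cfsg.Agent.Spor.Gold.Cyc
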