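import Cfsg.Agent.Lib.Spor.Gold.ReeLocal

/-!
The subgroup `{1, t, u, tu} × Y` of a group of Ree type and its fusion.
-/

set_option autoImplicit false
set_option linter.unusedSectionVars false
set_option linter.style.haveILetI false

open scoped Classical

namespace Cfsg.Agent.Spor.Gold

universe u v

variable {G : Type u} [Group G] {P : Type v} [Group P] [Finite P]

/-- An element of order three cycling `t`, `u` and `tu`. -/
structure Cyc (S : Setting G P) where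
  /-- the element -/
  g : G
  /-- the conjugating element -/
  n : G
  g3 : g ^ 3 = 1
  gt : g * S.t * g⁻¹ = S.ι S.D.u
  gu : g * S.ι S.D.u * g⁻¹ = S.t * S.ι S.D.u
  gdef : g = n * S.ι S.D.h * n⁻¹ ∨ g = (n * S.ι S.D.h * n⁻¹)⁻¹

theorem nonempty_cyc [Finite G] (S : Setting G P) [IsSimpleGroup G] (hnab : ¬ IsMulCommutative G) :
    Nonempty (Cyc S) := by
  obtain ⟨g, n, h1, h2, h3, h4⟩ := S.exists_cycle hnab
  exact ⟨⟨g, n, h1, h2, h3, h4⟩⟩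

namespace Cyc

variable {S : Setting G P} (K : Cyc S)
include K

theorem ιu_sq : S.ι S.D.u * S.ι S.D.u = 1 := by rw [← map_mul, S.D.u2, map_one]

theorem ιu_ne : S.ι S.D.u ≠ 1 := fun e => S.D.u1 (S.inj (e.trans (map_one _).symm))

theorem gtu : K.g * (S.t * S.ι S.D.u) * K.g⁻¹ = S.t := by
  rw [← conj_mul, K.gt, K.gu, ← mul_assoc, S.tc, mul_assoc, K.ιu_sq, mul_one]

/-- The three involutions. -/
def v (i : Fin 3) : G := K.g ^ (i : ℕ) * S.t * (K.g ^ (i : ℕ))⁻¹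

theorem v0 : K.v 0 = S.t := by simp [v]

theorem v1 : K.v 1 = S.ι S.D.u := by simp [v, K.gt]

theorem v2 : K.v 2 = S.t * S.ι S.D.u := by
  show K.g ^ 2 * S.t * (K.g ^ 2)⁻¹ = _
  calc K.g ^ 2 * S.t * (K.g ^ 2)⁻¹ = K.g * (K.g * S.t * K.g⁻¹) * K.g⁻¹ := by rw [pow_two]; group
    _ = _ := by rw [K.gt, K.gu]

theorem v_sq (i : Fin 3) : K.v i * K.v i = 1 := by
  show K.g ^ (i : ℕ) * S.t * (K.g ^ (i : ℕ))⁻¹ * (K.g ^ (i : ℕ) * S.t * (K.g ^ (i : ℕ))⁻¹) = 1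
  rw [conj_mul, S.tt]; group

theorem v_ne (i : Fin 3) : K.v i ≠ 1 := fun e => S.t_ne (conj_eq_one_iff.1 e)

theorem v_inj {i j : Fin 3} (h : K.v i = K.v j) : i = j := by
  have h01 : S.t ≠ S.ι S.D.u := fun e => S.t_not _ e.symm
  have h02 : S.t ≠ S.t * S.ι S.D.u := fun e => K.ιu_ne (mul_eq_left.1 e.symm)
  have h12 : S.ι S.D.u ≠ S.t * S.ι S.D.u := fun e => S.t_mul_ne _ _ e.symm
  fin_cases i <;> fin_cases j <;> simp only [Fin.zero_eta, Fin.mk_one, Fin.reduceFinMk, Fin.isValue,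
    v0, v1, v2] at h <;>
    first
    | rfl
    | exact absurd h h01
    | exact absurd h h02
    | exact absurd h h12
    | exact absurd h.symm h01
    | exact absurd h.symm h02
    | exact absurd h.symm h12

theorem g_pow_inv (j : Fin 3) : ∃ i : Fin 3, (K.g ^ (j : ℕ))⁻¹ = K.g ^ (i : ℕ) := by
  fin_cases j
  · exact ⟨0, by simp⟩
  · exact ⟨2, inv_eq_of_mul_eq_one_right (by
      show K.g ^ 1 * K.g ^ 2 = 1
      rw [← pow_add]; exact K.g3)⟩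
  · exact ⟨1, inv_eq_of_mul_eq_one_right (by
      show K.g ^ 2 * K.g ^ 1 = 1
      rw [← pow_add]; exact K.g3)⟩

/-- The centralizer of the four group. -/
def CV (_K : Cyc S) : Subgroup G :=
  Subgroup.centralizer ({S.t} : Set G) ⊓ Subgroup.centralizer ({S.ι S.D.u} : Set G)

theorem mem_CV {a : G} : a ∈ K.CV ↔ a * S.t = S.t * a ∧ a * S.ι S.D.u = S.ι S.D.u * a := by
  simp only [CV, Subgroup.mem_inf, Subgroup.mem_centralizer_singleton_iff]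

theorem g_CV {a : G} (ha : a ∈ K.CV) : K.g * a * K.g⁻¹ ∈ K.CV := by
  obtain ⟨h1, h2⟩ := K.mem_CV.1 ha
  have e1 : K.g * a * K.g⁻¹ * S.ι S.D.u = S.ι S.D.u * (K.g * a * K.g⁻¹) := by
    rw [← K.gt, conj_mul, conj_mul, h1]
  have e2 : K.g * a * K.g⁻¹ * (S.t * S.ι S.D.u) = S.t * S.ι S.D.u * (K.g * a * K.g⁻¹) := by
    rw [← K.gu, conj_mul, conj_mul, h2]
  refine K.mem_CV.2 ⟨?_, e1⟩
  calc K.g * a * K.g⁻¹ * S.t
      = K.g * a * K.g⁻¹ * (S.t * S.ι S.D.u) * S.ι S.D.u := by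
        rw [mul_assoc _ (S.t * S.ι S.D.u), mul_assoc S.t, K.ιu_sq, mul_one]
    _ = S.t * (S.ι S.D.u * (K.g * a * K.g⁻¹) * S.ι S.D.u) := by rw [e2]; group
    _ = S.t * (K.g * a * K.g⁻¹) := by rw [← e1, mul_assoc, K.ιu_sq, mul_one]

theorem gpow_CV (i : ℕ) {a : G} (ha : a ∈ K.CV) : K.g ^ i * a * (K.g ^ i)⁻¹ ∈ K.CV := by
  induction i with
  | zero => simpa using ha
  | succ i ih =>
    rw [pow_succ', show K.g * K.g ^ i * a * (K.g * K.g ^ i)⁻¹ = K.g * (K.g ^ i * a * (K.g ^ i)⁻¹) * K.g⁻¹ by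
      group]
    exact K.g_CV ih

theorem cv_pow_r {c : G} (hc : c ∈ K.CV) (hr : c ^ S.D.r = 1) : ∃ y ∈ S.D.Y, c = S.ι y := by
  obtain ⟨h1, h2⟩ := K.mem_CV.1 hc
  obtain ⟨k, rfl, hk⟩ := S.odd_mem S.D.r_odd h1 hr
  rw [← map_mul, ← map_mul, S.ι_eq_iff] at h2
  refine ⟨k, ⟨?_, hk⟩, rfl⟩
  rcases S.D.commute_u_iff.1 h2 with h | h
  · exact h
  · have hk2 : k * k = 1 := by
      have e := S.D.w_inverts h
      calc k * k = k * S.D.w * (S.D.w * (k * S.D.w) * S.D.w⁻¹) := by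
            rw [show k * S.D.w * (S.D.w * (k * S.D.w) * S.D.w⁻¹) = k * (S.D.w * S.D.w) * k by group,
              S.D.w2, mul_one]
        _ = 1 := by rw [e, mul_inv_cancel]
    obtain ⟨j, hj⟩ := S.D.r_odd
    rw [hj, pow_succ, pow_mul, pow_two, hk2, one_pow, one_mul] at hk
    rw [hk]; exact one_mem _

theorem ι_CV {k : P} (hk : k ∈ S.D.T) : S.ι k ∈ K.CV :=
  K.mem_CV.2 ⟨S.tc k, by rw [← map_mul, ← map_mul, S.D.T_comm hk S.D.u_mem]⟩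

theorem ιw_CV : S.ι S.D.w ∈ K.CV :=
  K.mem_CV.2 ⟨S.tc _, by rw [← map_mul, ← map_mul, S.D.comm]⟩

theorem gpow_Y (i : ℕ) {y : P} (hy : y ∈ S.D.Y) :
    ∃ y' ∈ S.D.Y, K.g ^ i * S.ι y * (K.g ^ i)⁻¹ = S.ι y' :=
  K.cv_pow_r (K.gpow_CV i (K.ι_CV hy.1)) (by
    rw [conj_pow, ← map_pow, hy.2, map_one]; group)

theorem σ_aux (y : S.D.Y) : ∃ y' : S.D.Y, K.g * S.ι y * K.g⁻¹ = S.ι y' := by
  obtain ⟨y', hy', h⟩ := K.gpow_Y 1 y.2
  exact ⟨⟨y', hy'⟩, by simpa using h⟩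

/-- The action of `g` on `Y`. -/
noncomputable def σ : S.D.Y →* S.D.Y :=
  MonoidHom.mk' (fun y => (K.σ_aux y).choose) fun a b => Subtype.ext (S.inj (by
    rw [← (K.σ_aux (a * b)).choose_spec, Subgroup.coe_mul, Subgroup.coe_mul, map_mul, map_mul,
      ← (K.σ_aux a).choose_spec, ← (K.σ_aux b).choose_spec, conj_mul]))

theorem σ_spec (y : S.D.Y) : K.g * S.ι y * K.g⁻¹ = S.ι (K.σ y) := (K.σ_aux y).choose_spec

theorem σ_pow (i : ℕ) (y : S.D.Y) :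
    K.g ^ i * S.ι y * (K.g ^ i)⁻¹ = S.ι (((K.σ : S.D.Y → S.D.Y)^[i]) y) := by
  induction i with
  | zero => simp
  | succ i ih =>
    rw [Function.iterate_succ_apply', ← σ_spec, ← ih, pow_succ']
    group

theorem σ_three (y : S.D.Y) : ((K.σ : S.D.Y → S.D.Y)^[3]) y = y := Subtype.ext (S.inj (by
  rw [← K.σ_pow, K.g3]; group))

/-! ### The abelian group `{1, t, u, tu} × Y` -/

/-- `A = {1, t, u, tu} × Y`. -/
noncomputable def A (_K : Cyc S) : Subgroup G := (S.D.T.comap S.κ).map S.C.subtype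

theorem mem_A {a : G} : a ∈ K.A ↔ ∃ k ∈ S.D.T, a = S.ι k ∨ a = S.t * S.ι k := by
  constructor
  · rintro ⟨x, hx, rfl⟩
    exact ⟨S.κ x, hx, S.κ_spec x⟩
  · rintro ⟨k, hk, h⟩
    have hc : a ∈ S.C := by
      rcases h with rfl | rfl
      · exact S.ι_mem k
      · exact mul_mem S.t_mem (S.ι_mem k)
    exact ⟨⟨a, hc⟩, show S.κ _ ∈ S.D.T by rw [S.κ_eq h]; exact hk, rfl⟩

theorem A_le : K.A ≤ K.CV := by
  intro a ha
  obtain ⟨k, hk, rfl | rfl⟩ := K.mem_A.1 ha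
  · exact K.ι_CV hk
  · exact mul_mem (K.mem_CV.2 ⟨rfl, (S.tc _).symm⟩) (K.ι_CV hk)

theorem A_comm {a b : G} (ha : a ∈ K.A) (hb : b ∈ K.A) : a * b = b * a := by
  obtain ⟨k, hk, rfl | rfl⟩ := K.mem_A.1 ha <;> obtain ⟨l, hl, rfl | rfl⟩ := K.mem_A.1 hb
  · rw [← map_mul, ← map_mul, S.D.T_comm hk hl]
  · rw [S.t_ι, mul_assoc, ← map_mul, S.D.T_comm hk hl]
  · rw [mul_assoc, ← map_mul, S.t_ι, S.D.T_comm hk hl]
  · rw [mul_assoc, S.t_ι, mul_assoc S.t (S.ι l), S.t_ι, S.D.T_comm hk hl]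

theorem card_A : Nat.card K.A = 4 * S.D.r := by
  rw [show 4 * S.D.r = Nat.card (Bool × S.D.T) by
    rw [Nat.card_prod, S.D.card_T, Nat.card_eq_fintype_card (α := Bool), Fintype.card_bool]; ring]
  refine (Nat.card_eq_of_bijective (fun p : Bool × S.D.T =>
    (⟨(bif p.1 then S.t else 1) * S.ι p.2,
      K.mem_A.2 ⟨p.2, p.2.2, by cases p.1 <;> simp⟩⟩ : K.A)) ⟨?_, fun c => ?_⟩).symm
  · rintro ⟨s, k⟩ ⟨s', k'⟩ h
    have h' := congrArg Subtype.val h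
    cases s <;> cases s' <;> simp only [cond_true, cond_false, one_mul] at h'
    · rw [Subtype.ext (S.inj h')]
    · exact absurd h'.symm (S.t_mul_ne _ _)
    · exact absurd h' (S.t_mul_ne _ _)
    · rw [Subtype.ext (S.inj (mul_left_cancel h'))]
  · obtain ⟨k, hk, h | h⟩ := K.mem_A.1 c.2
    · exact ⟨(false, ⟨k, hk⟩), Subtype.ext (by simp [← h])⟩
    · exact ⟨(true, ⟨k, hk⟩), Subtype.ext (by simp [← h])⟩

theorem t_A : S.t ∈ K.A := K.mem_A.2 ⟨1, one_mem _, Or.inr (by rw [map_one, mul_one])⟩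

theorem v_A (i : Fin 3) : K.v i ∈ K.A := by
  fin_cases i <;> simp only [Fin.zero_eta, Fin.mk_one, Fin.reduceFinMk, Fin.isValue, v0, v1, v2]
  · exact K.t_A
  · exact K.mem_A.2 ⟨_, S.D.u_mem, Or.inl rfl⟩
  · exact K.mem_A.2 ⟨_, S.D.u_mem, Or.inr rfl⟩

theorem Y_A {y : P} (hy : y ∈ S.D.Y) : S.ι y ∈ K.A := K.mem_A.2 ⟨y, hy.1, Or.inl rfl⟩

theorem decomp {a : G} (ha : a ∈ K.A) :
    ∃ e y, (e = 1 ∨ ∃ i, e = K.v i) ∧ y ∈ S.D.Y ∧ a = e * S.ι y := by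
  obtain ⟨k, hk, hak⟩ := K.mem_A.1 ha
  have h2r : k ^ (2 * S.D.r) = 1 := by
    rw [← S.D.card_T]; exact orderOf_dvd_iff_pow_eq_one.1 (Subgroup.orderOf_dvd_natCard _ hk)
  have hyY : k ^ (S.D.r + 1) ∈ S.D.Y := ⟨pow_mem hk _, by
    obtain ⟨j, hj⟩ := S.D.r_odd
    rw [← pow_mul, show (S.D.r + 1) * S.D.r = 2 * S.D.r * (j + 1) by rw [hj]; ring, pow_mul, h2r, one_pow]⟩
  have hk' : k = k ^ S.D.r * k ^ (S.D.r + 1) := by
    rw [← pow_add, show S.D.r + (S.D.r + 1) = 2 * S.D.r + 1 by ring, pow_succ, h2r, one_mul]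
  have hr : k ^ S.D.r = 1 ∨ k ^ S.D.r = S.D.u :=
    S.D.T_invol (pow_mem hk _) (by rw [← pow_add, ← two_mul, h2r])
  rcases hr with hr | hr <;> rw [hr] at hk'
  · rw [one_mul] at hk'
    rcases hak with rfl | rfl
    · exact ⟨1, _, Or.inl rfl, hyY, by rw [one_mul, ← hk']⟩
    · exact ⟨S.t, _, Or.inr ⟨0, K.v0.symm⟩, hyY, by rw [← hk']⟩
  · rcases hak with rfl | rfl
    · exact ⟨S.ι S.D.u, _, Or.inr ⟨1, K.v1.symm⟩, hyY, by rw [← map_mul, ← hk']⟩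
    · exact ⟨S.t * S.ι S.D.u, _, Or.inr ⟨2, K.v2.symm⟩, hyY, by rw [mul_assoc, ← map_mul, ← hk']⟩

theorem e_A {e : G} (he : e = 1 ∨ ∃ i, e = K.v i) : e ∈ K.A ∧ e * e = 1 := by
  rcases he with rfl | ⟨i, rfl⟩
  · exact ⟨one_mem _, one_mul 1⟩
  · exact ⟨K.v_A i, K.v_sq i⟩

theorem pow_part {e : G} (he : e = 1 ∨ ∃ i, e = K.v i) {y : P} (hy : y ∈ S.D.Y) :
    (e * S.ι y) ^ S.D.r = e ∧ (e * S.ι y) ^ (S.D.r + 1) = S.ι y := by
  obtain ⟨heA, he2⟩ := K.e_A he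
  have hc : Commute e (S.ι y) := K.A_comm heA (K.Y_A hy)
  have her : e ^ S.D.r = e := by
    obtain ⟨j, hj⟩ := S.D.r_odd
    rw [hj, pow_succ, pow_mul, pow_two, he2, one_pow, one_mul]
  have h1 : (e * S.ι y) ^ S.D.r = e := by
    rw [hc.mul_pow, her, ← map_pow, hy.2, map_one, mul_one]
  refine ⟨h1, ?_⟩
  rw [pow_succ, h1, ← mul_assoc, he2, one_mul]

theorem sq_one {a : G} (ha : a ∈ K.A) (h : a * a = 1) : a = 1 ∨ ∃ i, a = K.v i := by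
  obtain ⟨e, y, he, hy, rfl⟩ := K.decomp ha
  have h1 := (K.pow_part he hy).2
  obtain ⟨j, hj⟩ := S.D.r_odd
  rw [show S.D.r + 1 = 2 * (j + 1) by omega, pow_mul, pow_two, h, one_pow] at h1
  rw [← h1, mul_one]
  exact he

theorem g_A {a : G} (ha : a ∈ K.A) : K.g * a * K.g⁻¹ ∈ K.A := by
  obtain ⟨e, y, he, hy, rfl⟩ := K.decomp ha
  rw [← conj_mul]
  refine mul_mem ?_ ?_
  · rcases he with rfl | ⟨i, rfl⟩
    · simp [one_mem]
    · fin_cases i <;> simp only [Fin.zero_eta, Fin.mk_one, Fin.reduceFinMk, Fin.isValue, v0, v1, v2]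
      · rw [K.gt, ← K.v1]; exact K.v_A 1
      · rw [K.gu, ← K.v2]; exact K.v_A 2
      · rw [K.gtu]; exact K.t_A
  · obtain ⟨y', hy', e'⟩ := K.gpow_Y 1 hy
    rw [pow_one] at e'
    rw [e']; exact K.Y_A hy'

theorem gpow_A (i : ℕ) {a : G} (ha : a ∈ K.A) : K.g ^ i * a * (K.g ^ i)⁻¹ ∈ K.A := by
  induction i with
  | zero => simpa using ha
  | succ i ih =>
    rw [pow_succ', show K.g * K.g ^ i * a * (K.g * K.g ^ i)⁻¹ = K.g * (K.g ^ i * a * (K.g ^ i)⁻¹) * K.g⁻¹ by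
      group]
    exact K.g_A ih

/-- The centralizer of a mixed element is `A`. -/
theorem cent_D {i : Fin 3} {y : P} (hy : y ∈ S.D.Y) (hy1 : y ≠ 1) {a : G}
    (h : a * (K.v i * S.ι y) = K.v i * S.ι y * a) : a ∈ K.A := by
  obtain ⟨e1, e2⟩ := K.pow_part (Or.inr ⟨i, rfl⟩) hy
  have hc : Commute a (K.v i * S.ι y) := h
  have hv : a * K.v i = K.v i * a := by have := hc.pow_right S.D.r; rwa [e1] at this
  have hY : a * S.ι y = S.ι y * a := by have := hc.pow_right (S.D.r + 1); rwa [e2] at this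
  obtain ⟨j, hj⟩ := K.g_pow_inv i
  obtain ⟨y', hy', e'⟩ := K.gpow_Y (j : ℕ) hy
  set z := K.g ^ (j : ℕ) * a * (K.g ^ (j : ℕ))⁻¹ with hz
  have hzt : z * S.t = S.t * z := by
    have : K.g ^ (j : ℕ) * K.v i * (K.g ^ (j : ℕ))⁻¹ = S.t := by
      rw [← hj, inv_inv]; simp only [v]; group
    rw [← this, hz, conj_mul, conj_mul, hv]
  have hzy : z * S.ι y' = S.ι y' * z := by rw [← e', hz, conj_mul, conj_mul, hY]
  obtain ⟨k, hk⟩ := S.cover z hzt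
  have hky : k * y' = y' * k := by
    rcases hk with hk | hk <;> rw [hk] at hzy
    · exact S.inj (by rw [map_mul, map_mul, hzy])
    · rw [mul_assoc, ← mul_assoc (S.ι y'), S.tc y', mul_assoc] at hzy
      exact S.inj (by rw [map_mul, map_mul, mul_left_cancel hzy])
  have hy'1 : y' ≠ 1 := by
    rintro rfl
    rw [map_one, conj_eq_one_iff] at e'
    exact hy1 (S.inj (e'.trans (map_one _).symm))
  have hzA : z ∈ K.A := K.mem_A.2 ⟨k, (S.D.commute_Y_iff hy' hy'1).1 hky, hk⟩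
  have := K.gpow_A (i : ℕ) hzA
  rwa [hz, ← hj, inv_inv, show K.g ^ (i : ℕ) * ((K.g ^ (i : ℕ))⁻¹ * a * K.g ^ (i : ℕ)) * (K.g ^ (i : ℕ))⁻¹ = a by
    group] at this

/-- Elements permuting the three involutions. -/
theorem norm_V {z : G} (hz : ∀ i, ∃ j, z * K.v i * z⁻¹ = K.v j) :
    ∃ j : Fin 3, ∃ c ∈ K.CV, z = c * K.g ^ (j : ℕ) := by
  obtain ⟨j, hj⟩ := hz 0
  rw [K.v0] at hj
  set c := (K.g ^ (j : ℕ))⁻¹ * z with hc
  have hct : c * S.t = S.t * c := by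
    calc c * S.t = (K.g ^ (j : ℕ))⁻¹ * (z * S.t * z⁻¹) * z := by rw [hc]; group
      _ = S.t * c := by rw [hj, hc, v]; group
  obtain ⟨k, hk⟩ := S.cover c hct
  have hcu : c * S.ι S.D.u * c⁻¹ = S.ι (k * S.D.u * k⁻¹) := by
    rcases hk with e | e <;> rw [e]
    · rw [map_mul, map_mul, map_inv]
    · calc S.t * S.ι k * S.ι S.D.u * (S.t * S.ι k)⁻¹
          = S.t * (S.ι k * S.ι S.D.u * (S.ι k)⁻¹) * S.t⁻¹ := by group
        _ = _ := by rw [← map_inv, ← map_mul, ← map_mul, ← S.tc, mul_inv_cancel_right]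
  obtain ⟨l, hl⟩ := hz 1
  rw [K.v1] at hl
  obtain ⟨j', hj'⟩ := K.g_pow_inv j
  have hV : ∃ l', c * S.ι S.D.u * c⁻¹ = K.v l' := by
    have e : c * S.ι S.D.u * c⁻¹ = K.g ^ (j' : ℕ) * K.v l * (K.g ^ (j' : ℕ))⁻¹ := by
      rw [← hj', ← hl, hc]; group
    rw [e]
    have hA := K.gpow_A (j' : ℕ) (K.v_A l)
    rcases K.sq_one hA (by rw [conj_mul, K.v_sq]; group) with h | h
    · exact absurd (conj_eq_one_iff.1 h) (K.v_ne l)
    · exact h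
  obtain ⟨l', hl'⟩ := hV
  rw [hcu] at hl'
  have hcu' : c * S.ι S.D.u * c⁻¹ = S.ι S.D.u := by
    rw [hcu, hl']
    fin_cases l' <;> simp only [Fin.zero_eta, Fin.mk_one, Fin.reduceFinMk, Fin.isValue, v0, v1, v2] at hl' ⊢
    · exact absurd hl' (S.t_not _)
    · exact absurd hl'.symm (S.t_mul_ne _ _)
  refine ⟨j, K.g ^ (j : ℕ) * c * (K.g ^ (j : ℕ))⁻¹, K.gpow_CV _ (K.mem_CV.2 ⟨hct,
    mul_inv_eq_iff_eq_mul.1 hcu'⟩), ?_⟩
  rw [hc]; group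

/-- Fusion of mixed elements inside `A`. -/
theorem fusion {i : Fin 3} {y : P} (hy : y ∈ S.D.Y) (hy1 : y ≠ 1) {x : G}
    (hx : x⁻¹ * (K.v i * S.ι y) * x ∈ K.A) : ∃ j : Fin 3, ∃ c ∈ K.CV, x = c * K.g ^ (j : ℕ) := by
  obtain ⟨e, y', he, hy', hxe⟩ := K.decomp hx
  obtain ⟨e1, e2⟩ := K.pow_part he hy'
  obtain ⟨f1, f2⟩ := K.pow_part (Or.inr ⟨i, rfl⟩) hy
  have hd : x⁻¹ * (K.v i * S.ι y) * x = x⁻¹ * (K.v i * S.ι y) * x⁻¹⁻¹ := by rw [inv_inv]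
  have he1 : e ≠ 1 := by
    intro h
    rw [← hxe, hd, conj_pow, f1, h, conj_eq_one_iff] at e1
    exact K.v_ne i e1
  have hy'1 : y' ≠ 1 := by
    intro h
    rw [← hxe, hd, conj_pow, f2, h, map_one, conj_eq_one_iff] at e2
    exact hy1 (S.inj (e2.trans (map_one _).symm))
  obtain ⟨l, rfl⟩ := he.resolve_left he1
  have hmap : ∀ k, ∃ j, x⁻¹ * K.v k * x⁻¹⁻¹ = K.v j := fun k => by
    have hA : x⁻¹ * K.v k * x⁻¹⁻¹ ∈ K.A := by
      refine K.cent_D hy' hy'1 (i := l) ?_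
      rw [← hxe, hd, conj_mul, conj_mul, K.A_comm (K.v_A k) (mul_mem (K.v_A i) (K.Y_A hy))]
    rcases K.sq_one hA (by rw [conj_mul, K.v_sq]; group) with h | h
    · exact absurd (conj_eq_one_iff.1 h) (K.v_ne k)
    · exact h
  obtain ⟨j, c, hc, hxc⟩ := K.norm_V hmap
  obtain ⟨j', hj'⟩ := K.g_pow_inv j
  refine ⟨j', K.g ^ (j' : ℕ) * c⁻¹ * (K.g ^ (j' : ℕ))⁻¹, K.gpow_CV _ (inv_mem hc), ?_⟩
  rw [inv_mul_cancel_right, ← hj', ← mul_inv_rev, ← hxc, inv_inv]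

end Cyc

end Cfsg.Agent.Spor.Gold
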