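import Cfsg.Agent.Lib.Classical.DicksonTorus
import Cfsg.Agent.Lib.Classical.DicksonKlein
import Cfsg.Agent.Lib.Classical.DicksonCentral

/-!
The subgroups of `PSL₂(3^(2n+1))` used for groups of Ree type.
-/

set_option autoImplicit false
set_option linter.unusedSectionVars false
set_option linter.style.haveILetI false

namespace Cfsg.Agent.Spor.Gold

open Subgroup Cfsg.Agent.Dickson Cfsg.Agent.Grp.SL2 Cfsg.Agent.PSL2Spec

universe u

/-- The data of `PSL₂(q)`, `q` an odd power of three. -/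
structure KData (P : Type u) [Group P] where
  /-- the field size -/
  q : ℕ
  /-- the partition -/
  D : Cfsg.Agent.Dickson.Data P 3
  qpow : ∃ k, q = 3 ^ k
  q27 : 27 ≤ q
  q8 : q % 8 = 3
  /-- an involution -/
  u : P
  /-- a commuting involution -/
  w : P
  /-- an element of order three permuting them -/
  h : P
  u2 : u * u = 1
  w2 : w * w = 1
  u1 : u ≠ 1
  w1 : w ≠ 1
  uw : u ≠ w
  comm : u * w = w * u
  ho : orderOf h = 3
  hu : h * u * h⁻¹ = u * w
  hw : h * w * h⁻¹ = u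
  cardP : Nat.card P * 2 = q * ((q - 1) * (q + 1))
  card_uni : ∀ a : P, a ≠ 1 → a ^ 3 = 1 →
    Nat.card (D.T a) = q ∧ Nat.card (normalizer (D.T a : Set P)) * 2 = q * (q - 1)
  card_u : Nat.card (D.T u) = (q + 1) / 2

theorem nonempty_kData (F : Type) [Field F] [Fintype F] {n : ℕ} (hn : 1 ≤ n)
    (hF : Fintype.card F = 3 ^ (2 * n + 1)) :
    ∃ K : KData (Matrix.ProjectiveSpecialLinearGroup (Fin 2) F), K.q = Fintype.card F := by
  haveI : Fact (Nat.Prime 3) := ⟨Nat.prime_three⟩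
  haveI : CharP F 3 := charP_of_card_eq_prime_pow hF
  have hodd : Odd (Fintype.card F) := by rw [hF]; exact (by decide : Odd 3).pow
  have h8 : Fintype.card F % 8 = 3 := by
    rw [hF, pow_succ, pow_mul, Nat.mul_mod, Nat.pow_mod]; norm_num
  have h27 : 27 ≤ Fintype.card F := by
    rw [hF]
    exact le_trans (by norm_num) (Nat.pow_le_pow_right (by norm_num) (show 3 ≤ 2 * n + 1 by omega))
  have hdel : del F = 2 := by
    rcases del_cases F with ⟨-, he⟩ | ⟨hd, -⟩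
    · exact absurd he (Nat.not_even_iff_odd.mpr hodd)
    · exact hd
  obtain ⟨x, y, hxy⟩ := exists_quat (F := F) hodd
  obtain ⟨h, ho, -, e1, e2⟩ := exists_three hodd hxy
  have h2 := two_ne_zero_of_odd_card hodd
  have hu1 := Quat.proj_ne_one h2 hxy.xx
  have huo := orderOf_eq_prime (p := 2) (by rw [sq]; exact Quat.sq_proj hxy.xx) hu1
  refine ⟨{
    q := Fintype.card F
    D := pslData 3
    qpow := ⟨2 * n + 1, hF⟩
    q27 := h27
    q8 := h8
    u := proj x
    w := proj y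
    h := h
    u2 := Quat.sq_proj hxy.xx
    w2 := Quat.sq_proj hxy.yy
    u1 := hu1
    w1 := Quat.proj_ne_one h2 hxy.yy
    uw := hxy.ne h2
    comm := hxy.comm.symm
    ho := ho
    hu := e1
    hw := e2
    cardP := ?_
    card_uni := ?_
    card_u := ?_ }, rfl⟩
  · have := card_psl (F := F)
    rw [hdel] at this
    exact this
  · intro a ha hap
    have h1 := card_borel 3 ha hap
    rw [hdel] at h1
    exact ⟨card_tor_uni 3 ha hap, h1⟩
  · exact (card_tor_involution 3 hodd huo).2.2 (by omega)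

namespace KData

variable {P : Type u} [Group P] (K : KData P)

/-- The odd part of the torus order. -/
def r : ℕ := (K.q + 1) / 4

/-- Half of `q - 1`. -/
def m : ℕ := (K.q - 1) / 2

theorem q_eq : K.q + 1 = 4 * K.r := by
  have := K.q8; unfold r; omega

theorem q_eq' : K.q = 2 * K.m + 1 := by
  have := K.q8; unfold m; omega

theorem two_r : 2 * K.r = K.m + 1 := by
  have h1 := K.q_eq; have h2 := K.q_eq'; omega

theorem r_odd : Odd K.r := by
  have := K.q8; rw [Nat.odd_iff]; unfold r; omega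

theorem m_odd : Odd K.m := by
  have := K.q8; rw [Nat.odd_iff]; unfold m; omega

theorem q_odd : Odd K.q := ⟨K.m, K.q_eq'⟩

theorem r_ge : 7 ≤ K.r := by
  have := K.q27; unfold r; omega

theorem q_mod_three : K.q % 3 = 0 := by
  obtain ⟨k, hk⟩ := K.qpow
  have := K.q27
  rcases k with _ | k
  · omega
  · rw [hk, pow_succ]; omega

theorem three_r : ¬ 3 ∣ K.r := by
  have h1 := K.q_eq; have h2 := K.q_mod_three; omega

theorem three_m : ¬ 3 ∣ K.m := by
  have h1 := K.q_eq'; have h2 := K.q_mod_three; omega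

theorem r_coprime_m : Nat.Coprime K.r K.m := by
  rw [Nat.coprime_iff_gcd_eq_one, ← Nat.dvd_one]
  have h1 := Nat.gcd_dvd_left K.r K.m
  have h2 := Nat.gcd_dvd_right K.r K.m
  exact (Nat.dvd_add_right h2).1 (K.two_r ▸ dvd_mul_of_dvd_right h1 2)

theorem r_coprime_q : Nat.Coprime K.r K.q := by
  obtain ⟨k, hk⟩ := K.qpow
  rw [hk]
  exact ((Nat.prime_three.coprime_iff_not_dvd.2 K.three_r).symm).pow_right k

theorem card_P : Nat.card P = K.q * K.m * (4 * K.r) := by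
  have h := K.cardP
  rw [← K.q_eq]
  rw [show K.q - 1 = 2 * K.m by have := K.q_eq'; omega] at h
  have e : K.q * (2 * K.m * (K.q + 1)) = K.q * K.m * (K.q + 1) * 2 := by ring
  rw [e] at h
  exact Nat.eq_of_mul_eq_mul_right two_pos h

/-- The odd exponent. -/
def E : ℕ := K.q * K.m * K.r

theorem E_odd : Odd K.E := (K.q_odd.mul K.m_odd).mul K.r_odd

/-- The torus at the involution. -/
def T : Subgroup P := K.D.T K.u

/-- The Sylow 3-subgroup. -/
def U : Subgroup P := K.D.T K.h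

/-- Its normalizer. -/
def B : Subgroup P := normalizer (K.U : Set P)

theorem h1 : K.h ≠ 1 := fun e => by
  have := K.ho; rw [e, orderOf_one] at this; omega

theorem h3 : K.h ^ 3 = 1 := by rw [← K.ho]; exact pow_orderOf_eq_one _

theorem u_inv : K.u⁻¹ = K.u := inv_eq_of_mul_eq_one_right K.u2

theorem w_inv : K.w⁻¹ = K.w := inv_eq_of_mul_eq_one_right K.w2

theorem u3 : K.u ^ 3 ≠ 1 := by
  rw [pow_succ, pow_two, K.u2, one_mul]; exact K.u1

theorem u_mem : K.u ∈ K.T := K.D.self _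

theorem h_mem : K.h ∈ K.U := K.D.self _

theorem T_comm {a b : P} (ha : a ∈ K.T) (hb : b ∈ K.T) : a * b = b * a :=
  (K.D.comm K.u1 ha hb).eq

theorem card_T : Nat.card K.T = 2 * K.r := by
  rw [T, K.card_u]
  have := K.q_eq; omega

theorem T_invol [Finite P] {a : P} (ha : a ∈ K.T) (h2 : a * a = 1) : a = 1 ∨ a = K.u := by
  classical
  by_contra hc
  push Not at hc
  haveI : IsCyclic K.T := K.D.semi_cyclic K.u1 K.u3
  haveI := Fintype.ofFinite K.T
  have hu := IsCyclic.card_pow_eq_one_le (α := K.T) (n := 2) two_pos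
  have hsub : ({1, ⟨a, ha⟩, ⟨K.u, K.u_mem⟩} : Finset K.T) ⊆
      ({x : K.T | x ^ 2 = 1} : Finset _) := by
    intro x hx
    simp only [Finset.mem_insert, Finset.mem_singleton] at hx
    rw [Finset.mem_filter]
    refine ⟨Finset.mem_univ _, ?_⟩
    rcases hx with rfl | rfl | rfl
    · exact one_pow 2
    · exact Subtype.ext (by rw [SubmonoidClass.coe_pow, pow_two]; exact h2)
    · exact Subtype.ext (by rw [SubmonoidClass.coe_pow, pow_two]; exact K.u2)
  have h3 : ({1, ⟨a, ha⟩, ⟨K.u, K.u_mem⟩} : Finset K.T).card = 3 := by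
    refine Finset.card_eq_three.2 ⟨_, _, _, ?_, ?_, ?_, rfl⟩
    · exact fun e => hc.1 (congrArg Subtype.val e).symm
    · exact fun e => K.u1 (congrArg Subtype.val e).symm
    · exact fun e => hc.2 (congrArg Subtype.val e)
  have := (Finset.card_le_card hsub).trans hu
  omega

theorem w_not_mem [Finite P] : K.w ∉ K.T := fun h => by
  rcases K.T_invol h K.w2 with e | e
  · exact K.w1 e
  · exact K.uw e.symm

theorem w_norm : K.w * K.u * K.w⁻¹ ∈ K.D.T K.u := by
  rw [← K.comm, mul_inv_cancel_right]; exact K.D.self _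

theorem w_inverts [Finite P] {a : P} (ha : a ∈ K.T) : K.w * a * K.w⁻¹ = a⁻¹ :=
  (K.D.semi_flip K.u1 K.u3 K.w_norm K.w_not_mem).2 a ha

/-- The centralizer of the involution. -/
theorem commute_u_iff [Finite P] {a : P} : a * K.u = K.u * a ↔ a ∈ K.T ∨ a * K.w ∈ K.T := by
  constructor
  · intro hc
    by_cases ha : a ∈ K.T
    · exact Or.inl ha
    · refine Or.inr (K.D.semi_mul K.u1 K.u3 ?_ ha K.w_norm K.w_not_mem)
      rw [hc, mul_inv_cancel_right]; exact K.D.self _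
  · rintro (ha | ha)
    · exact K.T_comm ha K.u_mem
    · have h1 := K.T_comm ha K.u_mem
      calc a * K.u = a * (K.w * K.w) * K.u := by rw [K.w2, mul_one]
        _ = a * K.w * K.u * K.w := by
            rw [show a * (K.w * K.w) * K.u = a * K.w * (K.w * K.u) by group, ← K.comm]; group
        _ = K.u * (a * (K.w * K.w)) := by rw [h1]; group
        _ = K.u * a := by rw [K.w2, mul_one]

/-- The four group is self-centralizing. -/
theorem klein_cent [Finite P] {a : P} (h1 : a * K.u = K.u * a) (h2 : a * K.w = K.w * a) :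
    a = 1 ∨ a = K.u ∨ a = K.w ∨ a = K.u * K.w := by
  have key : ∀ b : P, b ∈ K.T → b * K.w = K.w * b → b = 1 ∨ b = K.u := by
    intro b hb hbw
    refine K.T_invol hb (mul_eq_one_iff_eq_inv.2 ?_)
    rw [← K.w_inverts hb, ← hbw, mul_inv_cancel_right]
  rcases K.commute_u_iff.1 h1 with ha | ha
  · rcases key a ha h2 with e | e
    · exact Or.inl e
    · exact Or.inr (Or.inl e)
  · have e : a = a * K.w * K.w := by rw [mul_assoc, K.w2, mul_one]
    rcases key _ ha (by rw [mul_assoc, ← mul_assoc K.w, ← h2]; group) with e' | e' <;> rw [e'] at e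
    · exact Or.inr (Or.inr (Or.inl (by rw [e, one_mul])))
    · exact Or.inr (Or.inr (Or.inr e))

/-- The odd part of the torus. -/
def Y : Subgroup P where
  carrier := {a | a ∈ K.T ∧ a ^ K.r = 1}
  one_mem' := ⟨one_mem _, one_pow _⟩
  mul_mem' := fun {a b} ha hb => ⟨mul_mem ha.1 hb.1, by
    rw [(show Commute a b from K.T_comm ha.1 hb.1).mul_pow, ha.2, hb.2, one_mul]⟩
  inv_mem' := fun {a} ha => ⟨inv_mem ha.1, by rw [inv_pow, ha.2, inv_one]⟩

theorem mem_Y {a : P} : a ∈ K.Y ↔ a ∈ K.T ∧ a ^ K.r = 1 := Iff.rfl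

theorem Y_le : K.Y ≤ K.T := fun _ ha => ha.1

theorem u_not_Y : K.u ∉ K.Y := fun ⟨_, h⟩ => by
  obtain ⟨k, hk⟩ := K.r_odd
  rw [hk, pow_succ, pow_mul, pow_two, K.u2, one_pow, one_mul] at h
  exact K.u1 h

theorem card_Y [Finite P] : Nat.card K.Y = K.r := by
  haveI : IsCyclic K.T := K.D.semi_cyclic K.u1 K.u3
  obtain ⟨g, hg⟩ := IsCyclic.exists_generator (α := K.T)
  have ho : orderOf (g : P) = 2 * K.r := by
    rw [Subgroup.orderOf_coe, orderOf_eq_card_of_forall_mem_zpowers hg, K.card_T]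
  have h2 : (g : P) ^ 2 ∈ K.Y := ⟨pow_mem g.2 2, by
    rw [← pow_mul, ← ho, pow_orderOf_eq_one]⟩
  have hlow : K.r ≤ Nat.card K.Y := by
    have h := Nat.le_of_dvd Nat.card_pos (Subgroup.orderOf_dvd_natCard _ h2)
    rwa [orderOf_pow_of_dvd two_ne_zero (ho ▸ dvd_mul_right 2 K.r), ho,
      Nat.mul_div_cancel_left _ two_pos] at h
  have hne : Nat.card K.Y ≠ 2 * K.r := fun e => K.u_not_Y <| by
    rw [Subgroup.eq_of_le_of_card_ge K.Y_le (by rw [e, K.card_T])]
    exact K.u_mem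
  have hd : Nat.card K.Y ∣ 2 * K.r := K.card_T ▸ Subgroup.card_dvd_of_le K.Y_le
  obtain ⟨c, hc⟩ := hd
  rcases c with _ | _ | c
  · have := K.r_ge; omega
  · omega
  · nlinarith

theorem Y_sq {y : P} (hy : y ∈ K.Y) (hy1 : y ≠ 1) : y * y ≠ 1 := fun h => by
  obtain ⟨k, hk⟩ := K.r_odd
  have := hy.2
  rw [hk, pow_succ, pow_mul, pow_two, h, one_pow, one_mul] at this
  exact hy1 this

theorem T_of_Y {y : P} (hy : y ∈ K.Y) (hy1 : y ≠ 1) : K.D.T y = K.T :=
  K.D.same K.u1 hy.1 hy1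

/-- The centralizer of a nontrivial element of `Y`. -/
theorem commute_Y_iff {y : P} (hy : y ∈ K.Y) (hy1 : y ≠ 1) {a : P} :
    a * y = y * a ↔ a ∈ K.T := by
  refine ⟨fun hc => ?_, fun ha => K.T_comm ha hy.1⟩
  rw [← K.T_of_Y hy hy1]
  exact K.D.mem_of_commute hy1 (K.D.semi_of_ne K.u1 K.u3 hy.1 hy1) (K.Y_sq hy hy1) hc

/-- `Y` is a TI subgroup. -/
theorem conj_Y [Finite P] {y a : P} (hy : y ∈ K.Y) (hy1 : y ≠ 1) (h : a⁻¹ * y * a ∈ K.Y) :
    a ∈ K.T ∨ a * K.w ∈ K.T := by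
  have hne : a⁻¹ * y * a⁻¹⁻¹ ≠ 1 := fun e => hy1 (conj_eq_one_iff.1 e)
  rw [inv_inv] at hne
  have h' : a⁻¹ * y * a⁻¹⁻¹ ∈ K.D.T y := by rw [inv_inv, K.T_of_Y hy hy1]; exact h.1
  have hn := (K.D.mem_normalizer_iff hy1).2 h'
  rw [K.T_of_Y hy hy1] at hn
  have hu := (Subgroup.mem_normalizer_iff.1 hn K.u).1 K.u_mem
  rw [inv_inv] at hu
  refine K.commute_u_iff.1 ?_
  rcases K.T_invol hu (by
    rw [show a⁻¹ * K.u * a * (a⁻¹ * K.u * a) = a⁻¹ * (K.u * K.u) * a by group, K.u2]; group) with e | e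
  · exact absurd (by
      calc K.u = a * (a⁻¹ * K.u * a) * a⁻¹ := by group
        _ = 1 := by rw [e]; group) K.u1
  · calc a * K.u = a * (a⁻¹ * K.u * a) := by rw [e]
      _ = K.u * a := by group

theorem conj_T [Finite P] {y a : P} (hy : y ∈ K.Y) (ha : a ∈ K.T) : a⁻¹ * y * a = y := by
  rw [mul_assoc, K.T_comm hy.1 ha, inv_mul_cancel_left]

theorem conj_Tw [Finite P] {y a : P} (hy : y ∈ K.Y) (ha : a * K.w ∈ K.T) : a⁻¹ * y * a = y⁻¹ := by
  have h := K.conj_T hy ha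
  calc a⁻¹ * y * a = K.w * ((a * K.w)⁻¹ * y * (a * K.w)) * K.w⁻¹ := by group
    _ = y⁻¹ := by rw [h, K.w_inverts hy.1]

/-! ### The Sylow 3-subgroup -/

theorem card_U : Nat.card K.U = K.q := (K.card_uni _ K.h1 K.h3).1

theorem card_B : Nat.card K.B = K.q * K.m := by
  have h := (K.card_uni _ K.h1 K.h3).2
  rw [show K.q - 1 = K.m * 2 by have := K.q_eq'; omega, ← mul_assoc] at h
  exact Nat.eq_of_mul_eq_mul_right two_pos h

theorem U_exp {a : P} (ha : a ∈ K.U) : a ^ 3 = 1 := K.D.uni_exp K.h1 K.h3 ha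

theorem U_comm {a b : P} (ha : a ∈ K.U) (hb : b ∈ K.U) : a * b = b * a :=
  (K.D.comm K.h1 ha hb).eq

theorem T_of_U {a : P} (ha : a ∈ K.U) (ha1 : a ≠ 1) : K.D.T a = K.U :=
  K.D.same K.h1 ha ha1

theorem U_cent {a g : P} (ha : a ∈ K.U) (ha1 : a ≠ 1) (hc : g * a = a * g) : g ∈ K.U :=
  K.T_of_U ha ha1 ▸ K.D.uni_cent ha1 (K.U_exp ha) hc

theorem U_le_B : K.U ≤ K.B := Subgroup.le_normalizer

theorem conj_U {a g : P} (ha : a ∈ K.U) (ha1 : a ≠ 1) (h : g⁻¹ * a * g ∈ K.U) : g ∈ K.B := by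
  have h' : g⁻¹ * a * g⁻¹⁻¹ ∈ K.D.T a := by rw [inv_inv, K.T_of_U ha ha1]; exact h
  have := (K.D.mem_normalizer_iff ha1).2 h'
  rw [K.T_of_U ha ha1] at this
  simpa [B] using inv_mem this

theorem conj_mem_U {a b : P} (ha : a ∈ K.U) (hb : b ∈ K.B) : b⁻¹ * a * b ∈ K.U := by
  have := (Subgroup.mem_normalizer_iff.1 (inv_mem hb) a).1 ha
  rwa [inv_inv] at this

instance U_normal : (K.U.subgroupOf K.B).Normal := Subgroup.normal_in_normalizer

theorem index_U [Finite P] : (K.U.subgroupOf K.B).index = K.m := by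
  have h := Subgroup.card_mul_index (K.U.subgroupOf K.B)
  rw [Nat.card_congr (Subgroup.subgroupOfEquivOfLe K.U_le_B).toEquiv, K.card_U, K.card_B] at h
  exact Nat.eq_of_mul_eq_mul_left (by have := K.q27; omega) h

theorem three_mem_U [Finite P] {b : P} (hb : b ∈ K.B) (h3 : b ^ 3 = 1) : b ∈ K.U := by
  have hm := Subgroup.pow_index_mem (K.U.subgroupOf K.B) (⟨b, hb⟩ : K.B)
  rw [K.index_U, Subgroup.mem_subgroupOf] at hm
  have hm' : b ^ K.m ∈ K.U := by simpa using hm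
  have : K.m % 3 = 1 ∨ K.m % 3 = 2 := by have := K.three_m; omega
  rcases this with e | e
  · rwa [← Nat.div_add_mod K.m 3, e, pow_add, pow_mul, h3, one_pow, one_mul, pow_one] at hm'
  · rw [← Nat.div_add_mod K.m 3, e, pow_add, pow_mul, h3, one_pow, one_mul] at hm'
    have h4 : b = b ^ 2 * b ^ 2 := by
      rw [← pow_add]; show b = b ^ 4; rw [pow_succ, h3, one_mul]
    rw [h4]; exact mul_mem hm' hm'

theorem no_inversion [Finite P] {a b : P} (ha : a ∈ K.U) (ha1 : a ≠ 1) (hb : b ∈ K.B)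
    (h : b⁻¹ * a * b = a⁻¹) : False := by
  have h2 : b ^ 2 * a = a * b ^ 2 := by
    have h' : b⁻¹ * a⁻¹ * b = a := by
      calc b⁻¹ * a⁻¹ * b = (b⁻¹ * a * b)⁻¹ := by group
        _ = a := by rw [h, inv_inv]
    calc b ^ 2 * a = b ^ 2 * (b⁻¹ * (b⁻¹ * a * b) * b) := by rw [h, h']
      _ = a * b ^ 2 := by rw [pow_two]; group
  have hbU : b ∈ K.U := by
    have hc : b ^ (K.q * K.m) = 1 := by
      rw [← K.card_B]
      exact orderOf_dvd_iff_pow_eq_one.1 (Subgroup.orderOf_dvd_natCard _ hb)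
    obtain ⟨k, hk⟩ := K.q_odd.mul K.m_odd
    have : b = (b ^ 2) ^ (k + 1) := by
      rw [← pow_mul, show 2 * (k + 1) = (2 * k + 1) + 1 by ring, pow_succ, ← hk, hc, one_mul]
    rw [this]
    exact pow_mem (K.U_cent ha ha1 h2) _
  have e : a = a⁻¹ := by rw [← h, mul_assoc, K.U_comm ha hbU, inv_mul_cancel_left]
  apply ha1
  have h3 := K.U_exp ha
  rw [pow_succ, pow_two] at h3
  rwa [mul_eq_one_iff_eq_inv.2 e, one_mul] at h3

theorem B_comm {a b : P} (ha : a ∈ K.B) (hb : b ∈ K.B) : a * b * a⁻¹ * b⁻¹ ∈ K.U :=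
  K.D.borel_comm K.h1 K.h3 ((K.D.mem_normalizer_iff K.h1).1 ha)
    ((K.D.mem_normalizer_iff K.h1).1 hb)

theorem pow_E_of_B [Finite P] {g a : P} (h : g⁻¹ * a * g ∈ K.B) : a ^ K.E = 1 := by
  have h1 : (g⁻¹ * a * g) ^ (K.q * K.m) = 1 := by
    rw [← K.card_B]; exact orderOf_dvd_iff_pow_eq_one.1 (Subgroup.orderOf_dvd_natCard _ h)
  have h2 : a ^ (K.q * K.m) = 1 := by
    have e : g⁻¹ * a * g = g⁻¹ * a * g⁻¹⁻¹ := by rw [inv_inv]
    rw [e, conj_pow] at h1
    exact conj_eq_one_iff.1 h1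
  rw [E, pow_mul, h2, one_pow]

theorem pow_E_of_Y {g a : P} (h : g⁻¹ * a * g ∈ K.Y) : a ^ K.E = 1 := by
  have h1 := h.2
  rw [show g⁻¹ * a * g = g⁻¹ * a * g⁻¹⁻¹ by rw [inv_inv], conj_pow] at h1
  rw [E, mul_comm, pow_mul, conj_eq_one_iff.1 h1, one_pow]

end KData

end Cfsg.Agent.Spor.Gold
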