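import Cfsg.Agent.Lib.Spor.Gold.ReeK
import Cfsg.Agent.Lib.Block.ElemEight.Local
import Cfsg.Prelude.Def_TwoFusion

/-!
The 2-local structure of a group of Ree type.
-/

set_option autoImplicit false
set_option linter.unusedSectionVars false
set_option linter.style.haveILetI false

open scoped Classical

namespace Cfsg.Agent.Spor.Gold

open Cfsg Cfsg.Agent.Block

universe u v

variable (G : Type u) [Group G] (P : Type v) [Group P]

/-- An involution with centralizer `⟨t⟩ × PSL₂(q)` of odd index. -/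
structure Setting where
  /-- the data of the second factor -/
  D : KData P
  /-- the involution -/
  t : G
  /-- the embedding of the second factor -/
  ι : P →* G
  inj : Function.Injective ι
  ht : orderOf t = 2
  hodd : Odd (Subgroup.centralizer ({t} : Set G)).index
  tc : ∀ k, ι k * t = t * ι k
  cover : ∀ c : G, c * t = t * c → ∃ k, c = ι k ∨ c = t * ι k
  t_not : ∀ k, ι k ≠ t

variable {G P}

namespace Setting

variable (S : Setting G P)
include S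

theorem tt : S.t * S.t = 1 := by rw [← pow_two, ← S.ht, pow_orderOf_eq_one]

theorem t_inv : S.t⁻¹ = S.t := inv_eq_of_mul_eq_one_right S.tt

theorem t_ne : S.t ≠ 1 := fun h => by
  have := S.ht; rw [h, orderOf_one] at this; norm_num at this

theorem t_mul_ne (k k' : P) : S.t * S.ι k ≠ S.ι k' := fun h => S.t_not (k' * k⁻¹) (by
  rw [map_mul, map_inv, ← h, mul_inv_cancel_right])

/-- The centralizer of the involution. -/
abbrev C : Subgroup G := Subgroup.centralizer ({S.t} : Set G)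

theorem mem_C {c : G} : c ∈ S.C ↔ c * S.t = S.t * c := Subgroup.mem_centralizer_singleton_iff

theorem ι_mem (k : P) : S.ι k ∈ S.C := S.mem_C.2 (S.tc k)

theorem t_mem : S.t ∈ S.C := S.mem_C.2 rfl

theorem ι_eq_iff {k k' : P} : S.ι k = S.ι k' ↔ k = k' := S.inj.eq_iff

theorem uniq {c : G} {k k' : P} (h : c = S.ι k ∨ c = S.t * S.ι k)
    (h' : c = S.ι k' ∨ c = S.t * S.ι k') : k = k' := by
  rcases h with h | h <;> rcases h' with h' | h' <;> rw [h] at h'
  · exact S.inj h'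
  · exact absurd h'.symm (S.t_mul_ne _ _)
  · exact absurd h' (S.t_mul_ne _ _)
  · exact S.inj (mul_left_cancel h')

theorem t_ι (k k' : P) : S.ι k * (S.t * S.ι k') = S.t * S.ι (k * k') := by
  rw [map_mul, ← mul_assoc, S.tc k, mul_assoc]

theorem mul_spec {a b : G} {ka kb : P} (ha : a = S.ι ka ∨ a = S.t * S.ι ka)
    (hb : b = S.ι kb ∨ b = S.t * S.ι kb) :
    a * b = S.ι (ka * kb) ∨ a * b = S.t * S.ι (ka * kb) := by
  rcases ha with rfl | rfl <;> rcases hb with rfl | rfl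
  · exact Or.inl (map_mul _ _ _).symm
  · exact Or.inr (S.t_ι _ _)
  · exact Or.inr (by rw [map_mul, mul_assoc])
  · refine Or.inl ?_
    rw [mul_assoc, S.t_ι, ← mul_assoc, S.tt, one_mul]

/-- The projection of the centralizer. -/
noncomputable def κ : S.C →* P :=
  MonoidHom.mk' (fun c => (S.cover c (S.mem_C.1 c.2)).choose) fun a b =>
    S.uniq (S.cover _ (S.mem_C.1 (a * b).2)).choose_spec
      (S.mul_spec (S.cover a (S.mem_C.1 a.2)).choose_spec (S.cover b (S.mem_C.1 b.2)).choose_spec)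

theorem κ_spec (c : S.C) : (c : G) = S.ι (S.κ c) ∨ (c : G) = S.t * S.ι (S.κ c) :=
  (S.cover c (S.mem_C.1 c.2)).choose_spec

theorem κ_eq {c : S.C} {k : P} (h : (c : G) = S.ι k ∨ (c : G) = S.t * S.ι k) : S.κ c = k :=
  S.uniq (S.κ_spec c) h

theorem κ_ι (k : P) : S.κ ⟨S.ι k, S.ι_mem k⟩ = k := S.κ_eq (Or.inl rfl)

theorem κ_t : S.κ ⟨S.t, S.t_mem⟩ = 1 := S.κ_eq (Or.inr (by rw [map_one, mul_one]))

/-- An element of odd order in the centralizer lies in the second factor. -/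
theorem odd_mem {c : G} {n : ℕ} (hn : Odd n) (hc : c * S.t = S.t * c) (hcn : c ^ n = 1) :
    ∃ k, c = S.ι k ∧ k ^ n = 1 := by
  obtain ⟨k, hk | hk⟩ := S.cover c hc
  · exact ⟨k, hk, S.inj (by rw [map_pow, ← hk, hcn, map_one])⟩
  · exfalso
    rw [hk, (show Commute S.t (S.ι k) from (S.tc k).symm).mul_pow] at hcn
    obtain ⟨j, hj⟩ := hn
    rw [hj, pow_succ, pow_mul, pow_two, S.tt, one_pow, one_mul, ← map_pow] at hcn
    exact S.t_mul_ne _ _ (hcn.trans (map_one S.ι).symm)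

theorem card_C [Finite G] : Nat.card S.C = 2 * Nat.card P := by
  rw [show 2 * Nat.card P = Nat.card (Bool × P) by
    rw [Nat.card_prod, Nat.card_eq_fintype_card (α := Bool), Fintype.card_bool]]
  refine (Nat.card_eq_of_bijective (fun p : Bool × P =>
    (⟨(bif p.1 then S.t else 1) * S.ι p.2, mul_mem (by cases p.1 <;> simp [S.t_mem, one_mem]) (S.ι_mem _)⟩ :
      S.C)) ⟨?_, fun c => ?_⟩).symm
  · rintro ⟨s, k⟩ ⟨s', k'⟩ h
    have h' := congrArg Subtype.val h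
    cases s <;> cases s' <;> simp only [cond_true, cond_false, one_mul] at h'
    · rw [S.inj h']
    · exact absurd h'.symm (S.t_mul_ne _ _)
    · exact absurd h' (S.t_mul_ne _ _)
    · rw [S.inj (mul_left_cancel h')]
  · rcases S.κ_spec c with h | h
    · exact ⟨(false, S.κ c), Subtype.ext (by simp [← h])⟩
    · exact ⟨(true, S.κ c), Subtype.ext (by simp [← h])⟩

/-! ### The Sylow 2-subgroup -/

/-- The four group of the second factor. -/
def Kl : Subgroup P where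
  carrier := {k | k = 1 ∨ k = S.D.u ∨ k = S.D.w ∨ k = S.D.u * S.D.w}
  one_mem' := Or.inl rfl
  mul_mem' := by
    have h1 : S.D.w * S.D.u = S.D.u * S.D.w := S.D.comm.symm
    have h2 : S.D.u * (S.D.u * S.D.w) = S.D.w := by rw [← mul_assoc, S.D.u2, one_mul]
    have h3 : S.D.u * S.D.w * S.D.u = S.D.w := by rw [mul_assoc, h1, h2]
    have h4 : S.D.u * S.D.w * S.D.w = S.D.u := by rw [mul_assoc, S.D.w2, mul_one]
    have h5 : S.D.w * (S.D.u * S.D.w) = S.D.u := by rw [← mul_assoc, h1, h4]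
    have h6 : S.D.u * S.D.w * (S.D.u * S.D.w) = 1 := by rw [← mul_assoc, h3, S.D.w2]
    rintro a b (rfl | rfl | rfl | rfl) (rfl | rfl | rfl | rfl) <;>
      simp [h1, h2, h3, h4, h5, h6, S.D.u2, S.D.w2]
  inv_mem' := by
    rintro a (rfl | rfl | rfl | rfl)
    · simp
    · exact Or.inr (Or.inl S.D.u_inv)
    · exact Or.inr (Or.inr (Or.inl S.D.w_inv))
    · exact Or.inr (Or.inr (Or.inr (by rw [mul_inv_rev, S.D.w_inv, S.D.u_inv, S.D.comm])))

theorem mem_Kl {k : P} : k ∈ S.Kl ↔ k = 1 ∨ k = S.D.u ∨ k = S.D.w ∨ k = S.D.u * S.D.w := Iff.rfl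

theorem Kl_sq {k : P} (hk : k ∈ S.Kl) : k * k = 1 := by
  rcases hk with rfl | rfl | rfl | rfl
  · exact one_mul 1
  · exact S.D.u2
  · exact S.D.w2
  · rw [mul_assoc, ← mul_assoc S.D.w, ← S.D.comm, mul_assoc, S.D.w2, mul_one, S.D.u2]

theorem card_Kl [Finite P] : Nat.card S.Kl = 4 := by
  cases nonempty_fintype P
  rw [show Nat.card S.Kl = Set.ncard (S.Kl : Set P) from rfl,
    show (S.Kl : Set P) = ↑({1, S.D.u, S.D.w, S.D.u * S.D.w} : Finset P) by
      ext k; simp [mem_Kl], Set.ncard_coe_finset]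
  have h3 : S.D.u * S.D.w ≠ 1 := fun e => S.D.uw (by
    rw [mul_eq_one_iff_eq_inv.1 e, S.D.w_inv])
  rw [Finset.card_insert_of_notMem, Finset.card_insert_of_notMem, Finset.card_insert_of_notMem,
    Finset.card_singleton]
  · simp [S.D.u1]
  · simp [S.D.uw, S.D.w1]
  · simp [S.D.u1.symm, S.D.w1.symm, h3.symm]

/-- The Sylow 2-subgroup. -/
noncomputable def Sg : Subgroup G := (S.Kl.comap S.κ).map S.C.subtype

theorem mem_Sg {c : G} : c ∈ S.Sg ↔ ∃ k ∈ S.Kl, c = S.ι k ∨ c = S.t * S.ι k := by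
  constructor
  · rintro ⟨x, hx, rfl⟩
    exact ⟨S.κ x, hx, S.κ_spec x⟩
  · rintro ⟨k, hk, h⟩
    have hc : c ∈ S.C := by
      rcases h with rfl | rfl
      · exact S.ι_mem k
      · exact mul_mem S.t_mem (S.ι_mem k)
    exact ⟨⟨c, hc⟩, show S.κ _ ∈ S.Kl by rw [S.κ_eq h]; exact hk, rfl⟩

theorem card_Sg [Finite G] [Finite P] : Nat.card S.Sg = 8 := by
  rw [show (8 : ℕ) = Nat.card (Bool × S.Kl) by
    rw [Nat.card_prod, S.card_Kl, Nat.card_eq_fintype_card (α := Bool), Fintype.card_bool]]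
  refine (Nat.card_eq_of_bijective (fun p : Bool × S.Kl =>
    (⟨(bif p.1 then S.t else 1) * S.ι p.2,
      S.mem_Sg.2 ⟨p.2, p.2.2, by cases p.1 <;> simp⟩⟩ : S.Sg)) ⟨?_, fun c => ?_⟩).symm
  · rintro ⟨s, k⟩ ⟨s', k'⟩ h
    have h' := congrArg Subtype.val h
    cases s <;> cases s' <;> simp only [cond_true, cond_false, one_mul] at h'
    · rw [Subtype.ext (S.inj h')]
    · exact absurd h'.symm (S.t_mul_ne _ _)
    · exact absurd h' (S.t_mul_ne _ _)
    · rw [Subtype.ext (S.inj (mul_left_cancel h'))]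
  · obtain ⟨k, hk, h | h⟩ := S.mem_Sg.1 c.2
    · exact ⟨(false, ⟨k, hk⟩), Subtype.ext (by simp [← h])⟩
    · exact ⟨(true, ⟨k, hk⟩), Subtype.ext (by simp [← h])⟩

theorem Sg_sq {c : G} (hc : c ∈ S.Sg) : c * c = 1 := by
  obtain ⟨k, hk, rfl | rfl⟩ := S.mem_Sg.1 hc
  · rw [← map_mul, S.Kl_sq hk, map_one]
  · rw [mul_assoc, S.t_ι, S.Kl_sq hk, map_one, mul_one, S.tt]

theorem Sg_comm {a b : G} (ha : a ∈ S.Sg) (hb : b ∈ S.Sg) : a * b = b * a := by
  have h1 := S.Sg_sq (mul_mem ha hb)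
  have h2 : (a * b)⁻¹ = a * b := inv_eq_of_mul_eq_one_right h1
  rw [← h2, mul_inv_rev, inv_eq_of_mul_eq_one_right (S.Sg_sq ha),
    inv_eq_of_mul_eq_one_right (S.Sg_sq hb)]

theorem t_Sg : S.t ∈ S.Sg := S.mem_Sg.2 ⟨1, one_mem _, Or.inr (by rw [map_one, mul_one])⟩

theorem ι_Sg {k : P} (hk : k ∈ S.Kl) : S.ι k ∈ S.Sg := S.mem_Sg.2 ⟨k, hk, Or.inl rfl⟩

theorem not_dvd_index [Finite G] [Finite P] : ¬ 2 ∣ S.Sg.index := by
  have hle : S.Sg ≤ S.C := Subgroup.map_subtype_le _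
  rw [← Subgroup.relIndex_mul_index hle, Nat.prime_two.dvd_mul]
  rintro (h | h)
  · have h1 : S.Sg.relIndex S.C * Nat.card S.Sg = Nat.card S.C := by
      rw [Subgroup.relIndex, ← Nat.card_congr (Subgroup.subgroupOfEquivOfLe hle).toEquiv]
      exact Subgroup.index_mul_card _
    rw [S.card_C, S.card_Sg, S.D.card_P] at h1
    have h2 : S.Sg.relIndex S.C = S.D.E := by
      refine Nat.eq_of_mul_eq_mul_right (show 0 < 8 by norm_num) (h1.trans ?_)
      rw [KData.E]; ring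
    rw [h2] at h
    exact (Nat.not_even_iff_odd.2 S.D.E_odd) (even_iff_two_dvd.2 h)
  · exact (Nat.not_even_iff_odd.2 S.hodd) (even_iff_two_dvd.2 h)

theorem exists_sylow [Finite G] [Finite P] : ∃ Q : Sylow 2 G, (Q : Subgroup G) = S.Sg := by
  haveI : Fact (Nat.Prime 2) := ⟨Nat.prime_two⟩
  have hp : IsPGroup 2 S.Sg := IsPGroup.of_card (n := 3) (by rw [S.card_Sg]; rfl)
  exact ⟨hp.toSylow S.not_dvd_index, rfl⟩

/-- A 2-element, transported into the Sylow subgroup. -/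
theorem two_group_conj [Finite G] [Finite P] {H : Subgroup G} (hH : IsPGroup 2 H) :
    ∃ g : G, ∀ a ∈ H, g * a * g⁻¹ ∈ S.Sg := by
  haveI : Fact (Nat.Prime 2) := ⟨Nat.prime_two⟩
  obtain ⟨Q, hQ⟩ := S.exists_sylow
  obtain ⟨R, hR⟩ := hH.exists_le_sylow
  obtain ⟨g, hg⟩ := MulAction.exists_smul_eq G R Q
  refine ⟨g, fun a ha => ?_⟩
  rw [← hQ, ← hg, Sylow.coe_subgroup_smul, Subgroup.mem_pointwise_smul_iff_inv_smul_mem]
  simpa [MulAut.conj_apply, mul_assoc] using hR ha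

theorem two_elem_sq [Finite G] [Finite P] {a : G} {k : ℕ} (ha : a ^ 2 ^ k = 1) : a * a = 1 := by
  haveI : Fact (Nat.Prime 2) := ⟨Nat.prime_two⟩
  obtain ⟨j, -, hj⟩ := (Nat.dvd_prime_pow Nat.prime_two).1 (orderOf_dvd_of_pow_eq_one ha)
  obtain ⟨g, hg⟩ := S.two_group_conj (H := Subgroup.zpowers a)
    (IsPGroup.of_card (n := j) (by rw [Nat.card_zpowers, hj]))
  have h := S.Sg_sq (hg a (Subgroup.mem_zpowers a))
  rwa [show g * a * g⁻¹ * (g * a * g⁻¹) = g * (a * a) * g⁻¹ by group, conj_eq_one_iff] at h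

theorem two_group_comm [Finite G] [Finite P] {H : Subgroup G} (hH : IsPGroup 2 H) {a b : G}
    (ha : a ∈ H) (hb : b ∈ H) : a * b = b * a := by
  obtain ⟨g, hg⟩ := S.two_group_conj hH
  have h := S.Sg_comm (hg a ha) (hg b hb)
  rwa [conj_mul, conj_mul, mul_left_inj, mul_right_inj] at h

/-- The normalizer of the Sylow subgroup is transitive on its involutions. -/
theorem transitive [Finite G] [Finite P] [IsSimpleGroup G] (hnab : ¬ IsMulCommutative G) {e f : G}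
    (he : e ∈ S.Sg) (hf : f ∈ S.Sg) (he1 : e ≠ 1) (hf1 : f ≠ 1) :
    ∃ n : G, (∀ a ∈ S.Sg, n * a * n⁻¹ ∈ S.Sg) ∧ n * e * n⁻¹ = f := by
  classical
  haveI : Fact (Nat.Prime 2) := ⟨Nat.prime_two⟩
  obtain ⟨Q, hQ⟩ := S.exists_sylow
  rw [← hQ] at he hf ⊢
  have hQ8 : Nat.card (Q : Subgroup G) = 8 := hQ ▸ S.card_Sg
  have hEA : IsMulCommutative (Q : Subgroup G) :=
    ⟨⟨fun a b => Subtype.ext (S.Sg_comm (hQ ▸ a.2) (hQ ▸ b.2))⟩⟩
  set N := Subgroup.normalizer ((Q : Subgroup G) : Set G) with hN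
  set ρ := (Q : Subgroup G).normalizerMonoidHom with hρ
  have happ : ∀ (n : N) (s : (Q : Subgroup G)), ((ρ n s : (Q : Subgroup G)) : G) = n * s * (n : G)⁻¹ :=
    fun n s => rfl
  have hexp : ∀ x : (Q : Subgroup G), x * x = 1 := fun x => Subtype.ext (S.Sg_sq (hQ ▸ x.2))
  have hcard : Nat.card ρ.range =
      (Subgroup.centralizer ((Q : Subgroup G) : Set G)).relIndex N := by
    rw [← Subgroup.index_ker, hρ, Subgroup.normalizerMonoidHom_ker]
    rfl
  have hSC : (Q : Subgroup G) ≤ Subgroup.centralizer ((Q : Subgroup G) : Set G) := fun x hx =>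
    Subgroup.mem_centralizer_iff.2 fun y hy => S.Sg_comm (hQ ▸ hy) (hQ ▸ hx)
  have hSN : (Q : Subgroup G) ≤ N := Subgroup.le_normalizer
  have hodd : Odd (Nat.card ρ.range) := by
    rw [hcard]
    have h1 : (Subgroup.centralizer ((Q : Subgroup G) : Set G)).relIndex N ∣
        (Q : Subgroup G).relIndex N := Subgroup.relIndex_dvd_of_le_left _ hSC
    have h2 : (Q : Subgroup G).relIndex N ∣ (Q : Subgroup G).index :=
      Subgroup.relIndex_dvd_index_of_le hSN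
    rw [← Nat.not_even_iff_odd, even_iff_two_dvd]
    exact fun h => Q.not_dvd_index ((h.trans h1).trans h2)
  have hnf : ∀ x : (Q : Subgroup G), x ≠ 1 → ∃ α ∈ ρ.range, α x ≠ x := by
    intro x hx
    by_contra hno
    push Not at hno
    refine hx (Subtype.ext ?_)
    have hcomm : ∀ n : N, (n : G) * x = x * n := fun n => by
      have h := congrArg Subtype.val (hno _ ⟨n, rfl⟩)
      rw [happ] at h
      exact mul_inv_eq_iff_eq_mul.1 h
    have hab : IsMulCommutative ((Q : Subgroup G).subgroupOf N) :=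
      ⟨⟨fun a b => Subtype.ext (Subtype.ext (S.Sg_comm (hQ ▸ a.2) (hQ ▸ b.2)))⟩⟩
    have hhall : Nat.Coprime (Nat.card ((Q : Subgroup G).subgroupOf N))
        ((Q : Subgroup G).subgroupOf N).index := by
      rw [Nat.card_congr (Subgroup.subgroupOfEquivOfLe hSN).toEquiv, hQ8,
        show 8 = 2 ^ 3 by norm_num]
      refine Nat.Coprime.pow_left _ ((Nat.prime_two.coprime_iff_not_dvd).2 fun h => ?_)
      exact Q.not_dvd_index (h.trans (Subgroup.relIndex_dvd_index_of_le hSN))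
    have h := Transfer.hall_inf_commutator_inf_center _ hab hhall
    have hmem : (⟨(x : G), hSN x.2⟩ : N) ∈
        (Q : Subgroup G).subgroupOf N ⊓ commutator N ⊓ Subgroup.center N := by
      refine ⟨⟨Subgroup.mem_subgroupOf.2 x.2, ?_⟩, Subgroup.mem_center_iff.2 fun n =>
        Subtype.ext (hcomm n)⟩
      have h1 : (x : G) ∈ ⁅(Q : Subgroup G), N⁆ :=
        (Transfer.abelian_sylow_inf_commutator Q hEA).1
          ⟨by rw [ElemEight.commutator_top hnab]; trivial, x.2⟩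
      have h2 : (x : G) ∈ (commutator N).map N.subtype := by
        rw [Subgroup.map_subtype_commutator]
        exact Subgroup.commutator_mono hSN le_rfl h1
      obtain ⟨m, hm, hme⟩ := h2
      exact (show m = ⟨(x : G), hSN x.2⟩ from Subtype.ext hme) ▸ hm
    rw [h, Subgroup.mem_bot] at hmem
    exact congrArg (Subtype.val : N → G) hmem
  obtain ⟨htr, -⟩ := ElemEight.transitive_card hexp hQ8 ρ.range hodd hnf
  obtain ⟨α, ⟨n, rfl⟩, hα⟩ := htr ⟨e, he⟩ ⟨f, hf⟩ (fun h => he1 (congrArg Subtype.val h))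
    (fun h => hf1 (congrArg Subtype.val h))
  exact ⟨n, fun a ha => (Subgroup.mem_normalizer_iff.1 n.2 a).1 ha,
    (happ n _).symm.trans (congrArg Subtype.val hα)⟩

theorem u_Kl : S.D.u ∈ S.Kl := Or.inr (Or.inl rfl)

theorem w_Kl : S.D.w ∈ S.Kl := Or.inr (Or.inr (Or.inl rfl))

theorem conj_t [Finite G] [Finite P] [IsSimpleGroup G] (hnab : ¬ IsMulCommutative G) {s : G}
    (hs : s * s = 1) (hs1 : s ≠ 1) : ∃ g : G, g * S.t * g⁻¹ = s := by
  haveI : Fact (Nat.Prime 2) := ⟨Nat.prime_two⟩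
  obtain ⟨g, hg⟩ := S.two_group_conj (H := Subgroup.zpowers s)
    (IsPGroup.of_card (n := 1) (by
      rw [Nat.card_zpowers, pow_one, orderOf_eq_prime (by rw [pow_two, hs]) hs1]))
  obtain ⟨n, -, hn⟩ := S.transitive hnab S.t_Sg (hg s (Subgroup.mem_zpowers s)) S.t_ne
    (fun h => hs1 (conj_eq_one_iff.1 h))
  refine ⟨g⁻¹ * n, ?_⟩
  calc g⁻¹ * n * S.t * (g⁻¹ * n)⁻¹ = g⁻¹ * (n * S.t * n⁻¹) * g := by group
    _ = s := by rw [hn]; group

/-! ### The element of order three on `{1, t, u, tu}` -/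

/-- An element of order three cycling `t`, `u` and `tu`. -/
theorem exists_cycle [Finite G] [Finite P] [IsSimpleGroup G] (hnab : ¬ IsMulCommutative G) :
    ∃ g n : G, g ^ 3 = 1 ∧ g * S.t * g⁻¹ = S.ι S.D.u ∧
      g * S.ι S.D.u * g⁻¹ = S.t * S.ι S.D.u ∧
      (g = n * S.ι S.D.h * n⁻¹ ∨ g = (n * S.ι S.D.h * n⁻¹)⁻¹) := by
  have hu1 : S.ι S.D.u ≠ 1 := fun e => S.D.u1 (S.inj (e.trans (map_one _).symm))
  obtain ⟨n₀, hn₀, hnu⟩ := S.transitive hnab (S.ι_Sg S.u_Kl) S.t_Sg hu1 S.t_ne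
  -- choose the image of `w`
  set s := n₀ * S.ι S.D.w * n₀⁻¹ with hs
  obtain ⟨v, hv, hsv⟩ := S.mem_Sg.1 (hn₀ _ (S.ι_Sg S.w_Kl))
  rw [← hs] at hsv
  have hv1 : v ≠ 1 := by
    rintro rfl
    rw [map_one, mul_one] at hsv
    rcases hsv with e | e
    · exact S.D.w1 (S.inj (by rw [map_one]; exact conj_eq_one_iff.1 e))
    · refine S.D.uw (S.inj ?_).symm
      rw [← hnu] at e
      exact mul_left_cancel (mul_right_cancel e)
  -- move `v` to `u`
  have hmove : ∃ k : P, k * v * k⁻¹ = S.D.u := by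
    rcases hv with rfl | rfl | rfl | rfl
    · exact absurd rfl hv1
    · exact ⟨1, by group⟩
    · exact ⟨S.D.h, S.D.hw⟩
    · refine ⟨S.D.h * S.D.h, ?_⟩
      calc S.D.h * S.D.h * (S.D.u * S.D.w) * (S.D.h * S.D.h)⁻¹
          = S.D.h * ((S.D.h * S.D.u * S.D.h⁻¹) * (S.D.h * S.D.w * S.D.h⁻¹)) * S.D.h⁻¹ := by group
        _ = S.D.h * S.D.w * S.D.h⁻¹ := by
            rw [S.D.hu, S.D.hw, (show S.D.u * S.D.w * S.D.u = S.D.w by
              rw [mul_assoc, ← S.D.comm, ← mul_assoc, S.D.u2, one_mul]), S.D.hw]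
        _ = S.D.u := S.D.hw
  obtain ⟨k, hk⟩ := hmove
  set n := S.ι k * n₀ with hn
  have hnt : n * S.ι S.D.u * n⁻¹ = S.t := by
    calc n * S.ι S.D.u * n⁻¹ = S.ι k * (n₀ * S.ι S.D.u * n₀⁻¹) * (S.ι k)⁻¹ := by rw [hn]; group
      _ = S.t := by rw [hnu, S.tc k, mul_inv_cancel_right]
  have hnw : n * S.ι S.D.w * n⁻¹ = S.ι S.D.u ∨ n * S.ι S.D.w * n⁻¹ = S.t * S.ι S.D.u := by
    have e : n * S.ι S.D.w * n⁻¹ = S.ι k * s * (S.ι k)⁻¹ := by rw [hn, hs]; group
    rw [e]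
    rcases hsv with h | h <;> rw [h]
    · exact Or.inl (by rw [← hk, map_mul, map_mul, map_inv])
    · refine Or.inr ?_
      rw [← mul_assoc, S.tc k, ← hk, map_mul, map_mul, map_inv]
      group
  set g₀ := n * S.ι S.D.h * n⁻¹ with hg₀
  have hg3 : g₀ ^ 3 = 1 := by
    rw [hg₀, conj_pow, ← map_pow, S.D.h3, map_one]; group
  have hconj : ∀ a : P, g₀ * (n * S.ι a * n⁻¹) * g₀⁻¹ = n * S.ι (S.D.h * a * S.D.h⁻¹) * n⁻¹ :=
    fun a => by rw [hg₀, map_mul, map_mul, map_inv]; group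
  have h1 := hconj S.D.u
  have h2 := hconj S.D.w
  rw [S.D.hu, hnt, map_mul, ← conj_mul, hnt] at h1
  rw [S.D.hw, hnt] at h2
  rcases hnw with hw | hw <;> rw [hw] at h1 h2
  · refine ⟨g₀⁻¹, n, by rw [inv_pow, hg3, inv_one], ?_, ?_, Or.inr rfl⟩
    · calc g₀⁻¹ * S.t * g₀⁻¹⁻¹ = g₀⁻¹ * (g₀ * S.ι S.D.u * g₀⁻¹) * g₀ := by rw [h2]; group
        _ = S.ι S.D.u := by group
    · calc g₀⁻¹ * S.ι S.D.u * g₀⁻¹⁻¹ = g₀⁻¹ * (S.t * (g₀ * S.t * g₀⁻¹)) * g₀ := by
            rw [h1, ← mul_assoc S.t, S.tt, one_mul, inv_inv]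
        _ = g₀⁻¹ * ((g₀ * S.ι S.D.u * g₀⁻¹) * (g₀ * S.t * g₀⁻¹)) * g₀ := by rw [h2]
        _ = S.t * S.ι S.D.u := by
            rw [show g₀⁻¹ * ((g₀ * S.ι S.D.u * g₀⁻¹) * (g₀ * S.t * g₀⁻¹)) * g₀ =
              S.ι S.D.u * S.t by group, S.tc]
  · rw [← mul_assoc, S.tt, one_mul] at h1
    refine ⟨g₀, n, hg3, h1, ?_, Or.inl rfl⟩
    have e : g₀ * S.t * g₀⁻¹ * (g₀ * S.ι S.D.u * g₀⁻¹) = S.t := by
      rw [conj_mul]; exact h2
    rw [h1] at e
    calc g₀ * S.ι S.D.u * g₀⁻¹ = (S.ι S.D.u)⁻¹ * S.t := eq_inv_mul_of_mul_eq e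
      _ = S.t * S.ι S.D.u := by rw [← map_inv, S.D.u_inv, S.tc]

end Setting

end Cfsg.Agent.Spor.Gold
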