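import Cfsg.Agent.Lib.Spor.Gold.ReeFusion
import Cfsg.Agent.Lib.Block.SFourFree.Lift
import Mathlib.GroupTheory.Transfer

/-!
The centralizer of an element of order three of the second factor, when no 2-element inverts an
element of order three.
-/

set_option autoImplicit false
set_option linter.unusedSectionVars false
set_option linter.style.haveILetI false

open scoped Classical Pointwise

namespace Cfsg.Agent.Spor.Gold

open Cfsg.Agent.Invol

universe u v

variable {G : Type u} [Group G] [Finite G] {P : Type v} [Group P] [Finite P]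

theorem eq_one_of_inverted (hnr : ¬ HasInvertedThree G) {t r : G} (ht : t * t = 1) {k : ℕ}
    (hr : r ^ 3 ^ k = 1) (hinv : t * r * t⁻¹ = r⁻¹) : r = 1 := by
  by_contra h
  obtain ⟨j, h3, h1⟩ := Block.SFour.orderOf_three_pow_part hr h
  exact hnr ⟨t, r ^ 3 ^ j, ⟨1, by rw [pow_one, pow_two, ht]⟩, h3, h1, by
    rw [← conj_pow, hinv, inv_pow]⟩

/-- Burnside's transfer, packaged. -/
theorem exists_complement {X : Type u} [Group X] [Finite X] {p : ℕ} [Fact p.Prime] (Q : Sylow p X)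
    (hP : Subgroup.normalizer ((Q : Subgroup X) : Set X) ≤ Subgroup.centralizer ((Q : Subgroup X) : Set X)) :
    ∃ M : Subgroup X, M.Normal ∧ M.index = Nat.card (Q : Subgroup X) ∧
      (∀ z ∈ M, z ∈ (Q : Subgroup X) → z = 1) ∧ ¬ p ∣ Nat.card M ∧
      ∀ z : X, ∀ n : ℕ, ¬ p ∣ n → z ^ n = 1 → z ∈ M := by
  refine ⟨(MonoidHom.transferSylow Q hP).ker, inferInstance, ?_, ?_, ?_, ?_⟩
  · exact (MonoidHom.ker_transferSylow_isComplement' Q hP).symm.index_eq_card
  · intro z hz hzQ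
    exact Subgroup.mem_bot.1 ((MonoidHom.ker_transferSylow_isComplement' Q hP).disjoint.eq_bot ▸
      Subgroup.mem_inf.2 ⟨hz, hzQ⟩)
  · exact MonoidHom.not_dvd_card_ker_transferSylow Q hP
  · intro z n hn hzn
    rw [MonoidHom.mem_ker]
    obtain ⟨j, hj⟩ := Q.isPGroup' (MonoidHom.transferSylow Q hP z)
    have h1 : MonoidHom.transferSylow Q hP z ^ n = 1 := by rw [← map_pow, hzn, map_one]
    have h := pow_gcd_eq_one.2 ⟨h1, hj⟩
    rwa [((((Fact.out : p.Prime).coprime_iff_not_dvd.2 hn).symm).pow_right j).gcd_eq_one, pow_one] at h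

namespace Setting

variable (S : Setting G P)
include S

/-- The element of order three in `G`. -/
def x : G := S.ι S.D.h

/-- Its centralizer. -/
abbrev X : Subgroup G := Subgroup.centralizer ({S.x} : Set G)

theorem mem_X {z : G} : z ∈ S.X ↔ z * S.x = S.x * z := Subgroup.mem_centralizer_singleton_iff

theorem t_X : S.t ∈ S.X := S.mem_X.2 (S.tc _).symm

/-- The image of the Sylow 3-subgroup. -/
def U' : Subgroup G := S.D.U.map S.ι

theorem card_U' : Nat.card S.U' = S.D.q := by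
  rw [U', Subgroup.card_map_of_injective S.inj, S.D.card_U]

theorem U'_X : S.U' ≤ S.X := by
  rintro _ ⟨a, ha, rfl⟩
  refine S.mem_X.2 ?_
  rw [x, ← map_mul, ← map_mul, S.D.U_comm ha S.D.h_mem]

theorem U'_comm {a b : G} (ha : a ∈ S.U') (hb : b ∈ S.U') : a * b = b * a := by
  obtain ⟨a, ha, rfl⟩ := ha
  obtain ⟨b, hb, rfl⟩ := hb
  rw [← map_mul, ← map_mul, S.D.U_comm ha hb]

theorem U'_t {a : G} (ha : a ∈ S.U') : a * S.t = S.t * a := by
  obtain ⟨a, -, rfl⟩ := ha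
  exact S.tc a

theorem U'_exp {a : G} (ha : a ∈ S.U') : a ^ 3 = 1 := by
  obtain ⟨a, ha, rfl⟩ := ha
  rw [← map_pow, S.D.U_exp ha, map_one]

theorem cent_tx {z : G} (h1 : z * S.t = S.t * z) (h2 : z ∈ S.X) :
    ∃ k ∈ S.D.U, z = S.ι k ∨ z = S.t * S.ι k := by
  obtain ⟨k, hk⟩ := S.cover z h1
  refine ⟨k, ?_, hk⟩
  have h := S.mem_X.1 h2
  refine S.D.U_cent S.D.h_mem S.D.h1 (S.inj ?_)
  rw [map_mul, map_mul]
  rcases hk with rfl | rfl
  · exact h
  · rw [x, mul_assoc, ← mul_assoc (S.ι S.D.h), S.tc, mul_assoc] at h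
    exact mul_left_cancel h

theorem odd_cent_tx {z : G} {n : ℕ} (hn : Odd n) (h1 : z * S.t = S.t * z) (h2 : z ∈ S.X)
    (hz : z ^ n = 1) : z ∈ S.U' := by
  obtain ⟨k, hk, e | e⟩ := S.cent_tx h1 h2
  · exact ⟨k, hk, e.symm⟩
  · obtain ⟨k', hk', -⟩ := S.odd_mem hn h1 hz
    exact absurd (e.symm.trans hk') (S.t_mul_ne _ _)

/-- The centralizer has a subgroup of index two and odd order. -/
theorem exists_odd_half :
    ∃ O : Subgroup G, O ≤ S.X ∧ Odd (Nat.card O) ∧ Nat.card S.X = 2 * Nat.card O ∧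
      S.t ∉ O ∧ (∀ z ∈ S.X, z ∈ O ∨ z * S.t ∈ O) ∧ (∀ z ∈ S.X, ∀ a ∈ O, z * a * z⁻¹ ∈ O) ∧
      ∀ z ∈ S.X, ∀ n : ℕ, Odd n → z ^ n = 1 → z ∈ O := by
  haveI : Fact (Nat.Prime 2) := ⟨Nat.prime_two⟩
  set X := S.X
  let t' : X := ⟨S.t, S.t_X⟩
  have ht'1 : t' ≠ 1 := fun e => S.t_ne (congrArg Subtype.val e)
  have ho : orderOf t' = 2 := orderOf_eq_prime (Subtype.ext (by simp [t', pow_two, S.tt])) ht'1
  obtain ⟨Q, hQ⟩ := (IsPGroup.of_card (n := 1) (by rw [Nat.card_zpowers, ho, pow_one]) :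
    IsPGroup 2 (Subgroup.zpowers t')).exists_le_sylow
  have htQ : t' ∈ (Q : Subgroup X) := hQ (Subgroup.mem_zpowers t')
  have hQ2 : ∀ z ∈ (Q : Subgroup X), z = 1 ∨ z = t' := by
    intro z hz
    obtain ⟨j, hj⟩ := Q.isPGroup' ⟨z, hz⟩
    have hj' : (z : G) ^ 2 ^ j = 1 := congrArg Subtype.val (congrArg Subtype.val hj)
    have hsq := S.two_elem_sq hj'
    have hc : (z : G) * S.t = S.t * z :=
      S.two_group_comm (Q.isPGroup'.map X.subtype) (Subgroup.mem_map_of_mem _ hz)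
        (Subgroup.mem_map_of_mem X.subtype htQ)
    obtain ⟨k, hk, hzk⟩ := S.cent_tx hc z.2
    have hk2 : k * k = 1 := by
      refine S.inj ?_
      rw [map_mul, map_one]
      rcases hzk with e | e <;> rw [e] at hsq
      · exact hsq
      · rwa [mul_assoc, S.t_ι, ← mul_assoc, S.tt, one_mul, map_mul] at hsq
    have hk1 : k = 1 := by
      have h3 := S.D.U_exp hk
      rwa [pow_succ, pow_two, hk2, one_mul] at h3
    rw [hk1, map_one, mul_one] at hzk
    rcases hzk with e | e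
    · exact Or.inl (Subtype.ext e)
    · exact Or.inr (Subtype.ext e)
  have hP : Subgroup.normalizer ((Q : Subgroup X) : Set X) ≤ Subgroup.centralizer ((Q : Subgroup X) : Set X) := by
    intro z hz
    refine Subgroup.mem_centralizer_iff.2 fun q hq => ?_
    rcases hQ2 q hq with rfl | rfl
    · rw [one_mul, mul_one]
    · rcases hQ2 _ ((Subgroup.mem_normalizer_iff.1 hz t').1 htQ) with e | e
      · exact absurd (conj_eq_one_iff.1 e) ht'1
      · exact (mul_inv_eq_iff_eq_mul.1 e).symm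
  have hQcard : Nat.card (Q : Subgroup X) = 2 := by
    have he : (Q : Subgroup X) = Subgroup.zpowers t' := le_antisymm (fun z hz => by
      rcases hQ2 z hz with rfl | rfl
      · exact one_mem _
      · exact Subgroup.mem_zpowers t') hQ
    rw [he, Nat.card_zpowers, ho]
  obtain ⟨M, hMn, hMi, hMQ, hM2, hMmem⟩ := exists_complement Q hP
  have hidx : M.index = 2 := hMi.trans hQcard
  have hodd : Odd (Nat.card M) := by
    rw [← Nat.not_even_iff_odd, even_iff_two_dvd]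
    exact hM2
  have htk : t' ∉ M := fun h => ht'1 (hMQ _ h htQ)
  refine ⟨M.map X.subtype, Subgroup.map_subtype_le _, ?_, ?_, ?_, ?_, ?_, ?_⟩
  · rwa [Subgroup.card_map_of_injective X.subtype_injective]
  · rw [Subgroup.card_map_of_injective X.subtype_injective]
    calc Nat.card X = Nat.card M * M.index := (Subgroup.card_mul_index M).symm
      _ = 2 * Nat.card M := by rw [hidx, mul_comm]
  · rintro ⟨z, hz, e⟩
    exact htk ((show z = t' from Subtype.ext e) ▸ hz)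
  · intro z hz
    by_cases h : (⟨z, hz⟩ : X) ∈ M
    · exact Or.inl ⟨_, h, rfl⟩
    · exact Or.inr ⟨⟨z, hz⟩ * t', (Subgroup.mul_mem_iff_of_index_two hidx).2
        ⟨fun h' => absurd h' h, fun h' => absurd h' htk⟩, rfl⟩
  · rintro z hz _ ⟨a, ha, rfl⟩
    exact ⟨⟨z, hz⟩ * a * ⟨z, hz⟩⁻¹, hMn.conj_mem a ha _, rfl⟩
  · intro z hz n hn hzn
    refine ⟨⟨z, hz⟩, ?_, rfl⟩
    obtain ⟨j, hj⟩ := hn
    have h2 := pow_mem (Subgroup.sq_mem_of_index_two hidx (⟨z, hz⟩ : X)) (j + 1)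
    have e : ((⟨z, hz⟩ : X) ^ 2) ^ (j + 1) = ⟨z, hz⟩ := Subtype.ext (by
      show (z ^ 2) ^ (j + 1) = z
      rw [← pow_mul, show 2 * (j + 1) = n + 1 by omega, pow_succ, hzn, one_mul])
    rwa [e] at h2

/-- The data of the centralizer of `x`. -/
structure XData (N W : Subgroup G) : Prop where
  NX : N ≤ S.X
  WN : W ≤ N
  normal : ∀ z ∈ S.X, ∀ a ∈ N, z * a * z⁻¹ ∈ N
  index : ∃ k, Nat.card S.X = Nat.card N * 3 ^ k
  three : ¬ 3 ∣ Nat.card N
  tN : S.t ∈ N
  tW : S.t ∉ W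
  cover : ∀ z ∈ N, z ∈ W ∨ z * S.t ∈ W
  Wodd : Odd (Nat.card W)
  Wcomm : ∀ a ∈ W, ∀ b ∈ W, a * b = b * a
  Winv : ∀ a ∈ W, S.t * a * S.t⁻¹ = a⁻¹
  big : ∀ z ∈ S.X, ∀ n : ℕ, Odd n → ¬ 3 ∣ n → z ^ n = 1 → z ∈ W

theorem exists_xData (hnr : ¬ HasInvertedThree G) : ∃ N W, S.XData N W := by
  haveI : Fact (Nat.Prime 3) := ⟨Nat.prime_three⟩
  obtain ⟨O, hOX, hOodd, hXO, htO, hcov, hOn, hOmem⟩ := S.exists_odd_half
  obtain ⟨k3, hk3⟩ := S.D.qpow
  have hUO : S.U' ≤ O := fun a ha => hOmem a (S.U'_X ha) 3 (by decide) (S.U'_exp ha)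
  have hU3 : IsPGroup 3 S.U' := IsPGroup.of_card (n := k3) (by rw [S.card_U', hk3])
  -- `U'` is a Sylow 3-subgroup
  have hsyl : ¬ 3 ∣ S.U'.relIndex O := by
    have hA : Subgroup.zpowers S.t ≤ Subgroup.normalizer (O : Set G) := by
      rw [Subgroup.zpowers_le, Subgroup.mem_normalizer_iff]
      refine fun a => ⟨hOn _ S.t_X a, fun h => ?_⟩
      have := hOn _ S.t_X _ h
      rwa [show S.t * (S.t * a * S.t⁻¹) * S.t⁻¹ = (S.t * S.t) * a * (S.t * S.t)⁻¹ by group, S.tt,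
        one_mul, inv_one, mul_one] at this
    have hA' : Subgroup.zpowers S.t ≤ Subgroup.normalizer (S.U' : Set G) := by
      rw [Subgroup.zpowers_le, Subgroup.mem_normalizer_iff]
      have e : ∀ a ∈ S.U', S.t * a * S.t⁻¹ = a := fun a ha => by
        rw [← S.U'_t ha, mul_inv_cancel_right]
      refine fun a => ⟨fun h => (e a h).symm ▸ h, fun h => ?_⟩
      have := e _ h
      rw [show S.t * (S.t * a * S.t⁻¹) * S.t⁻¹ = (S.t * S.t) * a * (S.t * S.t)⁻¹ by group, S.tt,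
        one_mul, inv_one, mul_one] at this
      exact this ▸ h
    have hcop : (Nat.card (Subgroup.zpowers S.t)).Coprime (Nat.card O) := by
      rw [Nat.card_zpowers, S.ht]
      exact Nat.coprime_two_left.2 hOodd
    obtain ⟨R, ⟨hRO, hR3, hRidx⟩, hRn, hUR⟩ :=
      Grp.exists_invariant_sylow_ge (Subgroup.zpowers S.t) O hA hcop (Or.inl inferInstance) hUO hU3 hA'
    have hRU : R ≤ S.U' := by
      intro a ha
      have ha' : S.t * a * S.t⁻¹ ∈ R :=
        (Subgroup.mem_normalizer_iff.1 (hRn (Subgroup.mem_zpowers S.t)) a).1 ha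
      obtain ⟨j, hj⟩ := hR3 ⟨_, mul_mem (inv_mem ha) ha'⟩
      have he : a⁻¹ * (S.t * a * S.t⁻¹) = 1 := by
        refine eq_one_of_inverted hnr S.tt (congrArg Subtype.val hj) ?_
        calc S.t * (a⁻¹ * (S.t * a * S.t⁻¹)) * S.t⁻¹
            = S.t * a⁻¹ * S.t⁻¹ * ((S.t * S.t) * a * (S.t * S.t)⁻¹) := by group
          _ = (a⁻¹ * (S.t * a * S.t⁻¹))⁻¹ := by rw [S.tt]; group
      have hat : a * S.t = S.t * a := mul_inv_eq_iff_eq_mul.1 (inv_mul_eq_one.1 he).symm |>.symm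
      obtain ⟨i, hi⟩ := hR3 ⟨a, ha⟩
      exact S.odd_cent_tx ((by decide : Odd 3).pow) hat (hOX (hRO ha)) (congrArg Subtype.val hi)
    rwa [le_antisymm hUR hRU]
  -- its normalizer centralizes it
  have hcentral : ∀ z ∈ S.X, z ∈ Subgroup.normalizer (S.U' : Set G) →
      z ∈ Subgroup.centralizer (S.U' : Set G) := by
    have hO : ∀ z ∈ O, z ∈ Subgroup.normalizer (S.U' : Set G) →
        z ∈ Subgroup.centralizer (S.U' : Set G) := by
      intro z hz hzn
      set Z := Subgroup.centralizer (S.U' : Set G) ⊓ O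
      let α := {c : G // c ∈ O ∧ z⁻¹ * c ∈ Subgroup.centralizer (S.U' : Set G)}
      haveI : Fintype α := Fintype.ofFinite α
      have hα : ¬ 2 ∣ Fintype.card α := by
        have e : α ≃ Z :=
          { toFun := fun c => ⟨z⁻¹ * c.1, Subgroup.mem_inf.2 ⟨c.2.2, O.mul_mem (O.inv_mem hz) c.2.1⟩⟩
            invFun := fun d => ⟨z * d.1, mul_mem hz d.2.2, by
              rw [inv_mul_cancel_left]; exact d.2.1⟩
            left_inv := fun c => by simp
            right_inv := fun d => by simp }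
        rw [← Nat.card_eq_fintype_card, Nat.card_congr e]
        intro h
        exact (Nat.not_even_iff_odd.2 hOodd)
          (even_iff_two_dvd.2 (h.trans (Subgroup.card_dvd_of_le inf_le_right)))
      have hstep : ∀ c : α, S.t * c.1 * S.t⁻¹ ∈ O ∧
          z⁻¹ * (S.t * c.1 * S.t⁻¹) ∈ Subgroup.centralizer (S.U' : Set G) := by
        rintro ⟨c, hcO, hcz⟩
        refine ⟨hOn _ S.t_X c hcO, Subgroup.mem_centralizer_iff.2 fun a ha => ?_⟩
        have hzc : c * a * c⁻¹ = z * a * z⁻¹ := by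
          calc c * a * c⁻¹ = z * ((z⁻¹ * c) * a * (z⁻¹ * c)⁻¹) * z⁻¹ := by group
            _ = z * a * z⁻¹ := by
                rw [← Subgroup.mem_centralizer_iff.1 hcz a ha, mul_inv_cancel_right]
        have hb : z * a * z⁻¹ ∈ S.U' := (Subgroup.mem_normalizer_iff.1 hzn a).1 ha
        have hat := S.U'_t ha
        have hbt := S.U'_t hb
        have e : S.t * c * S.t⁻¹ * a * (S.t * c * S.t⁻¹)⁻¹ = z * a * z⁻¹ := by
          calc S.t * c * S.t⁻¹ * a * (S.t * c * S.t⁻¹)⁻¹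
              = S.t * (c * (S.t⁻¹ * (a * S.t)) * c⁻¹) * S.t⁻¹ := by group
            _ = S.t * (z * a * z⁻¹) * S.t⁻¹ := by rw [hat, inv_mul_cancel_left, hzc]
            _ = z * a * z⁻¹ := by rw [← hbt, mul_inv_cancel_right]
        calc a * (z⁻¹ * (S.t * c * S.t⁻¹))
            = z⁻¹ * (z * a * z⁻¹) * (S.t * c * S.t⁻¹) := by group
          _ = z⁻¹ * (S.t * c * S.t⁻¹ * a * (S.t * c * S.t⁻¹)⁻¹) * (S.t * c * S.t⁻¹) := by rw [e]
          _ = z⁻¹ * (S.t * c * S.t⁻¹) * a := by group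
      have htt : ∀ c : G, S.t * (S.t * c * S.t⁻¹) * S.t⁻¹ = c := fun c => by
        rw [show S.t * (S.t * c * S.t⁻¹) * S.t⁻¹ = (S.t * S.t) * c * (S.t * S.t)⁻¹ by group, S.tt,
          one_mul, inv_one, mul_one]
      let σ : Equiv.Perm α :=
        { toFun := fun c => ⟨_, hstep c⟩
          invFun := fun c => ⟨_, hstep c⟩
          left_inv := fun c => Subtype.ext (htt c.1)
          right_inv := fun c => Subtype.ext (htt c.1) }
      obtain ⟨⟨c, hcO, hcz⟩, hfix⟩ := Equiv.Perm.exists_fixed_point_of_prime (p := 2) (n := 1) hα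
        (σ := σ) (Equiv.ext fun c => by
          rw [pow_one, pow_two]
          exact Subtype.ext (htt c.1))
      have hct : c * S.t = S.t * c :=
        (mul_inv_eq_iff_eq_mul.1 (congrArg Subtype.val hfix : S.t * c * S.t⁻¹ = c)).symm
      have hcU : c ∈ S.U' := S.odd_cent_tx hOodd hct (hOX hcO)
        (orderOf_dvd_iff_pow_eq_one.1 (Subgroup.orderOf_dvd_natCard O hcO))
      rw [show z = c * (z⁻¹ * c)⁻¹ by group]
      exact mul_mem (Subgroup.mem_centralizer_iff.2 fun a ha => S.U'_comm ha hcU) (inv_mem hcz)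
    intro z hz hzn
    have htc : S.t ∈ Subgroup.centralizer (S.U' : Set G) :=
      Subgroup.mem_centralizer_iff.2 fun a ha => S.U'_t ha
    rcases hcov z hz with h | h
    · exact hO z h hzn
    · have := mul_mem (hO _ h (mul_mem hzn (Subgroup.centralizer_le_normalizer _ htc))) (inv_mem htc)
      rwa [mul_inv_cancel_right] at this
  -- Burnside
  set X := S.X
  have hUXp : IsPGroup 3 (S.U'.subgroupOf X) :=
    hU3.of_equiv (Subgroup.subgroupOfEquivOfLe S.U'_X).symm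
  have hUXi : ¬ 3 ∣ (S.U'.subgroupOf X).index := by
    show ¬ 3 ∣ S.U'.relIndex X
    rw [← Subgroup.relIndex_mul_relIndex S.U' O X hUO hOX, Nat.prime_three.dvd_mul]
    rintro (h | h)
    · exact hsyl h
    · have h1 : O.relIndex X * Nat.card O = Nat.card X := by
        rw [Subgroup.relIndex, ← Nat.card_congr (Subgroup.subgroupOfEquivOfLe hOX).toEquiv]
        exact Subgroup.index_mul_card _
      rw [hXO, Nat.mul_left_inj (Nat.card_pos.ne')] at h1
      rw [h1] at h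
      norm_num at h
  set Q := hUXp.toSylow hUXi
  have hQc : (Q : Subgroup X) = S.U'.subgroupOf X := rfl
  have hP : Subgroup.normalizer ((Q : Subgroup X) : Set X) ≤ Subgroup.centralizer ((Q : Subgroup X) : Set X) := by
    intro z hz
    rw [hQc] at hz ⊢
    have hzn : (z : G) ∈ Subgroup.normalizer (S.U' : Set G) := by
      rw [Subgroup.mem_normalizer_iff]
      intro a
      constructor
      · intro ha
        exact (Subgroup.mem_normalizer_iff.1 hz ⟨a, S.U'_X ha⟩).1 ha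
      · intro ha
        have haX : a ∈ X := by
          have := mul_mem (mul_mem (inv_mem z.2) (S.U'_X ha)) z.2
          simpa [mul_assoc] using this
        exact (Subgroup.mem_normalizer_iff.1 hz ⟨a, haX⟩).2 ha
    refine Subgroup.mem_centralizer_iff.2 fun a ha => Subtype.ext ?_
    exact Subgroup.mem_centralizer_iff.1 (hcentral z z.2 hzn) _ ha
  obtain ⟨M, hMn, hMi, hMQ, hM3, hk⟩ := exists_complement Q hP
  have hWO : ∀ z ∈ M.map X.subtype ⊓ O, z * S.t = S.t * z → z = 1 := by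
    rintro z ⟨⟨z', hz', rfl⟩, hzO⟩ hc
    have hzU := S.odd_cent_tx hOodd hc z'.2
      (orderOf_dvd_iff_pow_eq_one.1 (Subgroup.orderOf_dvd_natCard O hzO))
    have h3 : (z' : G) ^ 3 = 1 := S.U'_exp hzU
    have hn : (z' : G) ^ Nat.card M = 1 :=
      congrArg Subtype.val (orderOf_dvd_iff_pow_eq_one.1 (Subgroup.orderOf_dvd_natCard M hz') :
        z' ^ Nat.card M = 1)
    have h := pow_gcd_eq_one.2 ⟨h3, hn⟩
    rwa [(Nat.prime_three.coprime_iff_not_dvd.2
      hM3).gcd_eq_one, pow_one] at h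
  have hnorm : ∀ z ∈ X, ∀ a ∈ M.map X.subtype, z * a * z⁻¹ ∈ M.map X.subtype := by
    rintro z hz _ ⟨a, ha, rfl⟩
    exact ⟨⟨z, hz⟩ * a * ⟨z, hz⟩⁻¹, hMn.conj_mem a ha _, rfl⟩
  have htN : S.t ∈ M.map X.subtype := ⟨⟨S.t, S.t_X⟩, hk _ 2 (by norm_num)
    (Subtype.ext (by simp [pow_two, S.tt])), rfl⟩
  have hWinv : ∀ a ∈ M.map X.subtype ⊓ O, S.t * a * S.t⁻¹ = a⁻¹ := by
    intro a ha
    set W := M.map X.subtype ⊓ O with hW
    have hWt : ∀ b ∈ W, S.t * b * S.t⁻¹ ∈ W :=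
      fun b hb => ⟨hnorm _ S.t_X b hb.1, hOn _ S.t_X b hb.2⟩
    let φ : W → W := fun b => ⟨(b : G)⁻¹ * (S.t * b * S.t⁻¹), mul_mem (inv_mem b.2) (hWt b b.2)⟩
    have hφ : Function.Injective φ := by
      rintro ⟨b, hb⟩ ⟨b', hb'⟩ h
      have h' : b⁻¹ * (S.t * b * S.t⁻¹) = b'⁻¹ * (S.t * b' * S.t⁻¹) := congrArg Subtype.val h
      have hfix : b' * b⁻¹ * S.t = S.t * (b' * b⁻¹) := by
        calc b' * b⁻¹ * S.t = b' * (b⁻¹ * (S.t * b * S.t⁻¹)) * S.t * b⁻¹ * (S.t⁻¹ * S.t) := by group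
          _ = b' * (b'⁻¹ * (S.t * b' * S.t⁻¹)) * S.t * b⁻¹ * (S.t⁻¹ * S.t) := by rw [h']
          _ = S.t * (b' * b⁻¹) := by group
      have := hWO _ (mul_mem hb' (inv_mem hb)) hfix
      exact Subtype.ext (mul_inv_eq_one.1 this).symm
    obtain ⟨⟨b, hb⟩, hba⟩ := (Finite.injective_iff_surjective.1 hφ) ⟨a, ha⟩
    have hba' : b⁻¹ * (S.t * b * S.t⁻¹) = a := congrArg Subtype.val hba
    rw [← hba']
    calc S.t * (b⁻¹ * (S.t * b * S.t⁻¹)) * S.t⁻¹
        = S.t * b⁻¹ * S.t⁻¹ * ((S.t * S.t) * b * (S.t * S.t)⁻¹) := by group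
      _ = (b⁻¹ * (S.t * b * S.t⁻¹))⁻¹ := by rw [S.tt]; group
  refine ⟨M.map X.subtype, M.map X.subtype ⊓ O,
    ⟨Subgroup.map_subtype_le _, inf_le_left, hnorm, ⟨k3, ?_⟩, ?_, htN, fun h => htO h.2, ?_, ?_, ?_,
      hWinv, ?_⟩⟩
  · rw [Subgroup.card_map_of_injective X.subtype_injective, ← hk3, ← S.card_U',
      ← Nat.card_congr (Subgroup.subgroupOfEquivOfLe S.U'_X).toEquiv, ← hQc, ← hMi]
    exact (Subgroup.card_mul_index M).symm
  · rw [Subgroup.card_map_of_injective X.subtype_injective]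
    exact hM3
  · intro z hz
    rcases hcov z (Subgroup.map_subtype_le _ hz) with h | h
    · exact Or.inl ⟨hz, h⟩
    · exact Or.inr ⟨mul_mem hz htN, h⟩
  · exact hOodd.of_dvd_nat (Subgroup.card_dvd_of_le inf_le_right)
  · intro a ha b hb
    have h1 := hWinv _ (mul_mem ha hb)
    rw [← conj_mul, hWinv a ha, hWinv b hb, mul_inv_rev] at h1
    calc a * b = (b⁻¹ * a⁻¹)⁻¹ := by group
      _ = (a⁻¹ * b⁻¹)⁻¹ := by rw [h1]
      _ = b * a := by group
  · intro z hz n hn hn3 hzn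
    exact ⟨⟨⟨z, hz⟩, hk ⟨z, hz⟩ n hn3 (Subtype.ext hzn), rfl⟩, hOmem z hz n hn hzn⟩

/-- In the centralizer, `W t` consists of conjugates of `t` by `W`. -/
theorem XData.conj_t {N W : Subgroup G} (D : S.XData N W) {a : G} (ha : a ∈ W) :
    ∃ b ∈ W, b⁻¹ * S.t * b = a * S.t := by
  obtain ⟨j, hj⟩ := D.Wodd
  have hpow : a ^ (Nat.card W) = 1 :=
    orderOf_dvd_iff_pow_eq_one.1 (Subgroup.orderOf_dvd_natCard W ha)
  refine ⟨(a⁻¹) ^ (j + 1), pow_mem (inv_mem ha) _, ?_⟩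
  have hb := D.Winv _ (pow_mem (inv_mem ha) (j + 1))
  set b := (a⁻¹) ^ (j + 1)
  calc b⁻¹ * S.t * b = b⁻¹ * (S.t * b * S.t⁻¹) * S.t := by group
    _ = b⁻¹ * b⁻¹ * S.t := by rw [hb]
    _ = a * S.t := by
        rw [show b⁻¹ = a ^ (j + 1) by simp [b], ← pow_add,
          show j + 1 + (j + 1) = Nat.card W + 1 by omega, pow_succ, hpow, one_mul]

end Setting

end Cfsg.Agent.Spor.Gold
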